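import Mathlib

/-!
Cayley-Hamilton for `3 × 3` matrices of determinant one, made computable: the coefficients of `A ^ n`
in terms of `A ^ 2, A, 1` depend only on the trace and the sum of the principal `2 × 2` minors.
-/

set_option autoImplicit false

namespace Cfsg.Agent.Lib.PSL2.CayleyThree

open Matrix

variable {R S : Type*} [CommRing R] [CommRing S]

/-- trace -/
def tr3 (A : Matrix (Fin 3) (Fin 3) R) : R := A 0 0 + A 1 1 + A 2 2

/-- sum of the principal `2 × 2` minors -/
def sm3 (A : Matrix (Fin 3) (Fin 3) R) : R :=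
  A 0 0 * A 1 1 - A 0 1 * A 1 0 + A 0 0 * A 2 2 - A 0 2 * A 2 0 + A 1 1 * A 2 2 - A 1 2 * A 2 1

theorem cayley (A : Matrix (Fin 3) (Fin 3) R) :
    A * (A * A) = tr3 A • (A * A) - sm3 A • A + A.det • (1 : Matrix (Fin 3) (Fin 3) R) := by
  ext i j
  fin_cases i <;> fin_cases j <;>
    simp [Matrix.mul_apply, Fin.sum_univ_three, Matrix.det_fin_three, tr3, sm3] <;>
    ring

/-- Coefficients of `A ^ n` on `A * A`, `A`, `1`, given `A³ = t A² - s A + 1`. -/
def iter (t s : R) : ℕ → R × R × R
  | 0 => (0, 0, 1)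
  | n + 1 =>
    let x := iter t s n
    (x.1 * t + x.2.1, x.2.2 - x.1 * s, x.1)

theorem pow_eq (A : Matrix (Fin 3) (Fin 3) R) (hdet : A.det = 1) (n : ℕ) :
    A ^ n = (iter (tr3 A) (sm3 A) n).1 • (A * A) + (iter (tr3 A) (sm3 A) n).2.1 • A +
      (iter (tr3 A) (sm3 A) n).2.2 • (1 : Matrix (Fin 3) (Fin 3) R) := by
  induction n with
  | zero => simp [iter]
  | succ n ih =>
    have hc := cayley A
    rw [hdet, one_smul] at hc
    rw [pow_succ', ih]
    simp only [iter, mul_add, Matrix.mul_smul, hc, mul_one]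
    module

theorem pow_eq_one (A : Matrix (Fin 3) (Fin 3) R) (hdet : A.det = 1) (n : ℕ)
    (h : iter (tr3 A) (sm3 A) n = (0, 0, 1)) : A ^ n = 1 := by
  rw [pow_eq A hdet n, h]
  simp

theorem iter_map (e : R →+* S) (t s : R) (n : ℕ) :
    ((e (iter t s n).1, e (iter t s n).2.1, e (iter t s n).2.2) : S × S × S) =
      iter (e t) (e s) n := by
  induction n with
  | zero => simp [iter]
  | succ n ih =>
    simp only [iter, ← ih, map_add, map_sub, map_mul]

/-- Pull back a computation of `iter` along an injective ring map. -/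
theorem iter_eq_of_map (e : R →+* S) (he : Function.Injective e) (t s : R) (n : ℕ)
    (h : iter (e t) (e s) n = (0, 0, 1)) : iter t s n = (0, 0, 1) := by
  rw [← iter_map] at h
  simp only [Prod.mk.injEq] at h
  obtain ⟨h1, h2, h3⟩ := h
  have a1 : (iter t s n).1 = 0 := he (by simpa using h1)
  have a2 : (iter t s n).2.1 = 0 := he (by simpa using h2)
  have a3 : (iter t s n).2.2 = 1 := he (by simpa using h3)
  ext <;> simp [a1, a2, a3]

/-- order of the class of a non-central element in the central quotient -/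
theorem orderOf_mk_center {G : Type*} [Group G] (x y : G) (n : ℕ) (hn : 0 < n) (hx : x ^ n = 1)
    (hd : ∀ p : ℕ, p.Prime → p ∣ n → x ^ (n / p) * y ≠ y * x ^ (n / p)) :
    orderOf ((x : G ⧸ Subgroup.center G)) = n := by
  apply orderOf_eq_of_pow_and_pow_div_prime hn
  · rw [← QuotientGroup.mk_pow, hx]; rfl
  · intro p hp hpn h
    rw [← QuotientGroup.mk_pow, QuotientGroup.eq_one_iff] at h
    exact hd p hp hpn ((Subgroup.mem_center_iff.mp h y).symm)

theorem mem_range_of_dvd {G : Type*} [Group G] (x : G) (hx : orderOf x ≠ 0) {d : ℕ}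
    (hd : d ∣ orderOf x) : d ∈ Set.range (orderOf : G → ℕ) :=
  ⟨x ^ (orderOf x / d), orderOf_pow_orderOf_div hx hd⟩

end Cfsg.Agent.Lib.PSL2.CayleyThree
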