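import Cfsg.Agent.Lib.PSL2.Position

/-!
# Maximal subgroups of `PSL(2, 2 ^ f)`
-/

set_option autoImplicit false
set_option linter.unusedSectionVars false
set_option linter.unusedSimpArgs false
set_option linter.unusedVariables false
set_option linter.style.haveILetI false

namespace Cfsg.Agent.Lib.PSL2.EvenMax

open Matrix Matrix.SpecialLinearGroup Subgroup
open scoped MatrixGroups
open Cfsg.Agent.Lib.PSL2.Basic Cfsg.Agent.Lib.PSL2.Conj Cfsg.Agent.Lib.PSL2.Members
open Cfsg.Agent.Lib.PSL2.DPart Cfsg.Agent.Lib.PSL2.Reduction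
open Cfsg.Agent.Lib.PSL2.Dickson Cfsg.Agent.Lib.PSL2.DicksonCor Cfsg.Agent.Lib.PSL2.DihedralMax
open Cfsg.Agent.Lib.PSL2.Overgroups Cfsg.Agent.Lib.PSL2.MinimalSimple
open Cfsg.Agent.Lib.PSL2.Solubilizer Cfsg.Agent.Lib.PSL2.BorelMax Cfsg.Agent.Lib.PSL2.Position

/-- A double transposition in `A₅`. -/
def a0 : alternatingGroup (Fin 5) :=
  ⟨Equiv.swap (0 : Fin 5) 1 * Equiv.swap 2 3, by
    rw [Equiv.Perm.mem_alternatingGroup]
    decide⟩

lemma a0_ne : a0 ≠ 1 := by decide

lemma a0_sq : a0 * a0 = 1 := by decide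

set_option maxRecDepth 100000 in
lemma a5_card : Fintype.card {z : alternatingGroup (Fin 5) // a0 * z = z * a0} = 4 := by
  decide

set_option maxRecDepth 100000 in
lemma a5_cardN :
    Fintype.card {z : alternatingGroup (Fin 5) // a0 * (z * a0 * z⁻¹) = (z * a0 * z⁻¹) * a0} = 12 := by
  decide

set_option maxRecDepth 100000 in
lemma a5_norm : ∀ z c : alternatingGroup (Fin 5), a0 * (z * a0 * z⁻¹) = (z * a0 * z⁻¹) * a0 →
    (a0 * c = c * a0 ↔ a0 * (z * c * z⁻¹) = (z * c * z⁻¹) * a0) := by
  decide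

variable {F : Type*} [Field F] [Fintype F]

/-- A copy of `A₅` in characteristic two is in position. -/
theorem a5_pos (h2 : (2 : F) = 0) {H : Subgroup PSL(2, F)} (e : H ≃* alternatingGroup (Fin 5)) :
    PosCase H := by
  classical
  haveI := char_two_of h2
  haveI : Fact (Nat.Prime 2) := ⟨Nat.prime_two⟩
  have hinj := mkP_injective_of_two_eq_zero h2
  let v : H := e.symm a0
  have hv1 : v ≠ 1 := by
    simp only [v, Ne, map_eq_one_iff _ e.symm.injective]
    exact a0_ne
  obtain ⟨A, hA'⟩ := exists_lift v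
  have hA : NC A := nc_of_lift hA' hv1
  have hAA : A * A = 1 := by
    apply hinj
    rw [map_mul, hA', map_one]
    have : v * v = 1 := by
      simp only [v]
      rw [← map_mul, a0_sq, map_one]
    exact congrArg Subtype.val this
  have hd : disc A = 0 := by
    have h4 := Torus.tr_mul_self A
    rw [hAA, tr_one] at h4
    unfold disc
    linear_combination -h4
  have hAH : mkP A ∈ H := by
    rw [hA']
    exact v.2
  have hev : e v = a0 := by simp [v]
  have hmem : ∀ z : H, z ∈ member H A ↔ a0 * e z = e z * a0 := by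
    intro z
    obtain ⟨X, hX⟩ := exists_lift z
    rw [mem_member hX]
    constructor
    · intro h
      have h1 : mkP A * mkP X = mkP X * mkP A := by
        rw [← map_mul, ← map_mul, h]
      rw [hA', hX] at h1
      have h3 : v * z = z * v := Subtype.ext h1
      have h4 := congrArg e h3
      rwa [map_mul, map_mul, hev] at h4
    · intro h
      apply hinj
      rw [map_mul, map_mul, hA', hX]
      have h3 : v * z = z * v := by
        apply e.injective
        rw [map_mul, map_mul, hev, h]
      exact congrArg Subtype.val h3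
  have hc4 : Nat.card (member H A) = 4 := by
    rw [← a5_card, ← Nat.card_eq_fintype_card]
    exact Nat.card_congr (Equiv.subtypeEquiv e.toEquiv (fun z => hmem z))
  have hN : ∀ z : H, z ∈ normalizer (member H A : Set H) ↔
      a0 * (e z * a0 * (e z)⁻¹) = (e z * a0 * (e z)⁻¹) * a0 := by
    intro z
    rw [Subgroup.mem_normalizer_iff]
    constructor
    · intro h
      have h1 : v ∈ member H A := by
        rw [hmem, hev]
      have h3 := (hmem _).1 ((h v).1 h1)
      simpa [hev] using h3
    · intro h c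
      rw [hmem, hmem]
      have := a5_norm (e z) (e c) h
      simpa using this
  have hc12 : Nat.card (normalizer (member H A : Set H)) = 12 := by
    rw [← a5_cardN, ← Nat.card_eq_fintype_card]
    exact Nat.card_congr (Equiv.subtypeEquiv e.toEquiv (fun z => hN z))
  have hkk : kk (member H A) = 3 := by
    have h1 := card_normalizer (member H A)
    rw [hc12, hc4] at h1
    omega
  have h60 : Nat.card H = 60 := by
    rw [Nat.card_congr e.toEquiv, card_alt5]
  have hnn : ¬ (member H A).Normal := by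
    intro hn
    have h1 := Subgroup.normalizer_eq_top_iff.2 hn
    rw [h1, Subgroup.card_top, h60] at hc12
    omega
  exact case_last_pos (p := 2) hA hAH (isP_member 2 hA hd) hnn
    (by rw [h60, hc4, hkk]) (Or.inl (by rw [hkk, hc4]))

/-- In characteristic two, the subgroup is a subfield subgroup. -/
lemma pos_eq (h2 : (2 : F) = 0) {H : Subgroup PSL(2, F)} (h : PosCase H) :
    ∃ (Φ : PSL(2, F) ≃* PSL(2, F)) (K : Type) (_ : Field K) (_ : Fintype K) (ι : K →+* F) (m : ℕ),
      Fintype.card K ^ m = Fintype.card F ∧ H.map Φ.toMonoidHom = stdPsl ι := by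
  obtain ⟨g₁, c₁, hc₁, K, iK, fK, ι, m, hm, hle, h1 | ⟨-, h1⟩⟩ := h
  · exact ⟨_, K, iK, fK, ι, m, hm, h1⟩
  · refine ⟨_, K, iK, fK, ι, m, hm, (Subgroup.eq_of_le_of_card_ge hle ?_).symm⟩
    rw [card_stdPsl]
    have h3 : Nat.card (H.map (frameP g₁ c₁ hc₁).toMonoidHom) = Nat.card H :=
      (Nat.card_congr ((frameP g₁ c₁ hc₁).subgroupMap H).toEquiv).symm
    rw [h3, h1]
    have h2K : (2 : K) = 0 := by
      rw [← map_eq_zero_iff ι ι.injective, map_ofNat]
      exact h2
    rw [card_PSL2_of_two_eq_zero h2K]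

/-- The maximal subgroups of `PSL(2, 2 ^ f)`. -/
theorem coatom_even (heven : Even (Fintype.card F)) (h4 : 4 ≤ Fintype.card F)
    (M : Subgroup PSL(2, F)) (hM : IsCoatom M) :
    Nat.card M = Fintype.card F * (Fintype.card F - 1) ∨
    Nonempty (M ≃* DihedralGroup (Fintype.card F - 1)) ∨
    Nonempty (M ≃* DihedralGroup (Fintype.card F + 1)) ∨
    (∃ (F₀ : Type) (_ : Field F₀) (_ : Fintype F₀) (r : ℕ), r.Prime ∧ Fintype.card F₀ ≠ 2 ∧
        Fintype.card F = Fintype.card F₀ ^ r ∧ Nonempty (M ≃* PSL(2, F₀))) := by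
  classical
  have hev : Fintype.card F % 2 = 0 := Nat.even_iff.1 heven
  have hch : ringChar F = 2 := FiniteField.even_card_iff_char_two.2 hev
  have h2 : (2 : F) = 0 := by
    have h3 := ringChar.Nat.cast_ringChar (R := F)
    rw [hch] at h3
    exact_mod_cast h3
  haveI := char_two_of h2
  haveI : Fact (Nat.Prime 2) := ⟨Nat.prime_two⟩
  have hdd : dd F = 1 := gcd_two_even (by omega) hev
  have hns : ∀ N : Subgroup PSL(2, F), Group.IsSolvable N → N ≠ ⊤ := by
    rintro N hN rfl
    apply not_solvable_psl h4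
    exact Group.isSolvable_of_isSolvable_injective
      (f := (Subgroup.topEquiv (G := PSL(2, F))).symm.toMonoidHom)
      (Subgroup.topEquiv (G := PSL(2, F))).symm.injective
  have hframe : ∀ g : SL(2, F), (∀ X, mkP X ∈ M → Up g X) →
      Nat.card M = Fintype.card F * (Fintype.card F - 1) := by
    intro g hg
    have h1 := eq_of_coatom_le hM (le_borelP hg)
      (hns _ (isSolvable_of_frame (g := g) (fun X hX => mem_borelP.1 hX)))
    rw [h1]
    have h3 := card_borelP g
    rw [hdd, mul_one] at h3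
    rw [h3, mul_comm]
  have hNzcase : ∀ A : SL(2, F), NC A → disc A ≠ 0 → M ≤ Nz A →
      Nonempty (M ≃* DihedralGroup (Fintype.card F - 1)) ∨
      Nonempty (M ≃* DihedralGroup (Fintype.card F + 1)) := by
    intro A hA hd hle
    have h1 := eq_of_coatom_le hM hle (hns _ (isSolvable_Nz hA hd))
    obtain ⟨w, hw⟩ := exists_inverter hA hd
    obtain ⟨e⟩ := nonempty_equiv 2 hA hd hw
    subst h1
    obtain ⟨-, hc⟩ := MemberCyc.cbar_cyclic hA hd
    have hg : Nat.gcd 2 (Fintype.card F - 1) = 1 := hdd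
    rw [hg, Nat.div_one, Nat.div_one] at hc
    rcases hc with hc | hc
    · right
      rw [hc] at e
      exact ⟨e⟩
    · left
      rw [hc] at e
      exact ⟨e⟩
  have hpos : PosCase M → Nat.card M = Fintype.card F * (Fintype.card F - 1) ∨
      Nonempty (M ≃* DihedralGroup (Fintype.card F - 1)) ∨
      Nonempty (M ≃* DihedralGroup (Fintype.card F + 1)) ∨
      (∃ (F₀ : Type) (_ : Field F₀) (_ : Fintype F₀) (r : ℕ), r.Prime ∧ Fintype.card F₀ ≠ 2 ∧
        Fintype.card F = Fintype.card F₀ ^ r ∧ Nonempty (M ≃* PSL(2, F₀))) := by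
    intro hp
    obtain ⟨Φ, K, iK, fK, ι, m, hm, hmap⟩ := pos_eq h2 hp
    have hco : IsCoatom (stdPsl ι) := hmap ▸ isCoatom_map Φ hM
    have hmp := prime_of_coatom_stdPsl ι hm hco
    have e : M ≃* PSL(2, K) :=
      ((Φ.subgroupMap M).trans (MulEquiv.subgroupCongr hmap)).trans (stdPslEquiv ι)
    by_cases hK : Fintype.card K = 2
    · right
      have h6 : Nat.card M = 6 := by
        rw [Nat.card_congr e.toEquiv]
        have h1 := card_PSL2_mul_dd K
        have h3 : dd K = 1 := by
          unfold dd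
          rw [hK]
          rfl
        rw [h3, mul_one, hK] at h1
        rw [h1]
        norm_num
      obtain ⟨A, hA, hd, hle⟩ := struct_six h2 h6
      rcases hNzcase A hA hd hle with h | h
      · exact Or.inl h
      · exact Or.inr (Or.inl h)
    · exact Or.inr (Or.inr (Or.inr ⟨K, iK, fK, m, hmp, hK, hm.symm, ⟨e⟩⟩))
  rcases dickson_frame_pos 2 M with h | ⟨A, hA, hd, hle⟩ | ⟨A, hA, hd, hAH, hidx⟩ | ⟨g, hg⟩ |
    ⟨⟨e⟩⟩ | ⟨⟨e⟩⟩ | ⟨⟨e⟩⟩ | h
  · left
    apply hframe 1
    intro X hX
    have h1 : M = ⊥ := Subgroup.eq_bot_of_card_eq M h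
    rw [h1, Subgroup.mem_bot] at hX
    have h3 := mkP_injective_of_two_eq_zero h2 (hX.trans (map_one mkP).symm)
    rw [h3, up_one_iff]
    simp
  · right
    rcases hNzcase A hA hd (hle.trans (cbar_le_Nz A)) with h | h
    · exact Or.inl h
    · exact Or.inr (Or.inl h)
  · right
    rcases hNzcase A hA hd (le_Nz_of_index_two hA hd hAH hidx) with h | h
    · exact Or.inl h
    · exact Or.inr (Or.inl h)
  · exact Or.inl (hframe g hg)
  · left
    obtain ⟨g, hg⟩ : ∃ g : SL(2, F), ∀ X, mkP X ∈ M → Up g X := by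
      refine frame_of_commuting_conj h2 (e.symm v4) ?_ ?_ ?_
      · rw [Ne, map_eq_one_iff _ e.symm.injective]
        exact v4_ne
      · rw [← map_mul, v4_sq, map_one]
      · intro z
        apply e.injective
        simpa using a4_comm (e z)
    exact hframe g hg
  · left
    obtain ⟨g, hg⟩ : ∃ g : SL(2, F), ∀ X, mkP X ∈ M → Up g X := by
      refine frame_of_commuting_conj h2 (e.symm v4') ?_ ?_ ?_
      · rw [Ne, map_eq_one_iff _ e.symm.injective]
        exact v4'_ne
      · rw [← map_mul, v4'_sq, map_one]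
      · intro z
        apply e.injective
        simpa using s4_comm (e z)
    exact hframe g hg
  · exact hpos (a5_pos h2 e)
  · exact hpos h

end Cfsg.Agent.Lib.PSL2.EvenMax
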