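import Mathlib

/-!
Element orders of a semidirect product `N ⋊ K` with `N` finite abelian and `K` acting fixed point
freely: the orders are those of `N` and those of `K`.  The action of a subgroup of `GL` on column
vectors.
-/

set_option autoImplicit false

namespace Cfsg.Agent.Lib.PSL2.FrobSpec

open scoped Matrix MatrixGroups

section General

variable {N K : Type*} [CommGroup N] [Group K] [Finite N] (φ : K →* MulAut N)

/-- `u ↦ u * (φ k u)⁻¹` is onto when `φ k` has no fixed point. -/
theorem exists_twist (k : K) (h : ∀ v, φ k v = v → v = 1) (n : N) :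
    ∃ u : N, u * (φ k u)⁻¹ = n := by
  have hinj : Function.Injective (fun u : N => u * (φ k u)⁻¹) := by
    intro a b hab
    simp only at hab
    have h1 : φ k (a * b⁻¹) = a * b⁻¹ := by
      rw [map_mul, map_inv]
      have e : φ k a = a * (b * (φ k b)⁻¹)⁻¹ := by
        rw [← hab, mul_inv_rev, inv_inv, mul_comm (φ k a), mul_inv_cancel_left]
      rw [e, mul_inv_rev, inv_inv, mul_comm ((φ k b)) b⁻¹]
      simp [mul_assoc]
    have := h _ h1
    exact mul_inv_eq_one.mp this
  exact (Finite.injective_iff_surjective.mp hinj) n

theorem orderOf_eq_right (h : ∀ k, k ≠ 1 → ∀ v, φ k v = v → v = 1) (x : N ⋊[φ] K)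
    (hx : x.right ≠ 1) : orderOf x = orderOf x.right := by
  obtain ⟨u, hu⟩ := exists_twist φ x.right (h _ hx) x.left
  have hconj : SemiconjBy (SemidirectProduct.inl u : N ⋊[φ] K) (SemidirectProduct.inr x.right) x := by
    rw [SemiconjBy, ← mul_inv_eq_iff_eq_mul]
    ext
    · simp [SemidirectProduct.mul_left, hu]
    · simp
  rw [← hconj.orderOf_eq]
  exact orderOf_injective _ SemidirectProduct.inr_injective _

theorem range_orderOf (h : ∀ k, k ≠ 1 → ∀ v, φ k v = v → v = 1) :
    Set.range (orderOf : N ⋊[φ] K → ℕ) =
      Set.range (orderOf : K → ℕ) ∪ Set.range (orderOf : N → ℕ) := by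
  ext m
  constructor
  · rintro ⟨x, rfl⟩
    by_cases hx : x.right = 1
    · right
      refine ⟨x.left, ?_⟩
      have : x = SemidirectProduct.inl x.left := by
        ext
        · simp
        · simp [hx]
      rw [this]
      simp only [SemidirectProduct.left_inl]
      exact (orderOf_injective _ SemidirectProduct.inl_injective _).symm
    · left
      exact ⟨x.right, (orderOf_eq_right φ h x hx).symm⟩
  · rintro (⟨k, rfl⟩ | ⟨n, rfl⟩)
    · exact ⟨SemidirectProduct.inr k, orderOf_injective _ SemidirectProduct.inr_injective _⟩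
    · exact ⟨SemidirectProduct.inl n, orderOf_injective _ SemidirectProduct.inl_injective _⟩

omit [Finite N] in
theorem isSolvable_sd [Group.IsSolvable K] : Group.IsSolvable (N ⋊[φ] K) := by
  refine Group.isSolvable_of_ker_le_range (SemidirectProduct.inl : N →* N ⋊[φ] K)
    (SemidirectProduct.rightHom : N ⋊[φ] K →* K) ?_
  rw [SemidirectProduct.range_inl_eq_ker_rightHom]

end General

section Act

variable {n : Type} [Fintype n] [DecidableEq n] {R : Type*} [CommRing R]

/-- A subgroup of `GL` acts on column vectors. -/
def act (K : Subgroup (GL n R)) : K →* MulAut (Multiplicative (n → R)) where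
  toFun k :=
    { toFun := fun v => Multiplicative.ofAdd ((k : GL n R).1 *ᵥ v.toAdd)
      invFun := fun v => Multiplicative.ofAdd ((k : GL n R)⁻¹.1 *ᵥ v.toAdd)
      left_inv := fun v => by
        simp [Matrix.mulVec_mulVec, ← Units.val_mul]
      right_inv := fun v => by
        simp [Matrix.mulVec_mulVec, ← Units.val_mul]
      map_mul' := fun a b => by
        simp [Matrix.mulVec_add] }
  map_one' := by
    ext v
    simp
  map_mul' a b := by
    ext v
    simp [Matrix.mulVec_mulVec]

@[simp] theorem act_apply (K : Subgroup (GL n R)) (k : K) (v : Multiplicative (n → R)) :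
    act K k v = Multiplicative.ofAdd ((k : GL n R).1 *ᵥ v.toAdd) := rfl

end Act

/-- Orders in the additive group of vectors over `ZMod p`. -/
theorem range_orderOf_vec (p : ℕ) [Fact p.Prime] (m : ℕ) [NeZero m] :
    Set.range (orderOf : Multiplicative (Fin m → ZMod p) → ℕ) = {1, p} := by
  ext d
  constructor
  · rintro ⟨x, rfl⟩
    have h : x ^ p = 1 := by
      have : p • x.toAdd = 0 := by
        ext i
        simp
      exact Multiplicative.toAdd.injective (by simp [this])
    have hd := orderOf_dvd_of_pow_eq_one h
    rcases (Nat.dvd_prime (Fact.out)).mp hd with h1 | h1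
    · left; exact h1
    · right; exact h1
  · intro hd
    rcases hd with hd | hd
    · exact ⟨1, by rw [orderOf_one, hd]⟩
    · have hd' : d = p := hd
      rw [hd']
      refine ⟨Multiplicative.ofAdd (fun _ => 1), ?_⟩
      apply orderOf_eq_prime
      · have : p • (fun _ => 1 : Fin m → ZMod p) = 0 := by
          ext i
          simp
        exact Multiplicative.toAdd.injective (by simp [this])
      · intro h
        have h2 : (fun _ => 1 : Fin m → ZMod p) = 0 := Multiplicative.ofAdd.injective h
        have h3 : (1 : ZMod p) = 0 := congrFun h2 0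
        exact one_ne_zero h3

/-- Specialised: spectrum of `F_p^m ⋊ K`, `K ≤ GL_m(F_p)` fixed point free. -/
theorem range_orderOf_act {p : ℕ} [Fact p.Prime] {m : ℕ} [NeZero m]
    (K : Subgroup (GL (Fin m) (ZMod p)))
    (h : ∀ k : K, k ≠ 1 → ∀ v : Fin m → ZMod p, (k : GL (Fin m) (ZMod p)).1 *ᵥ v = v → v = 0) :
    Set.range (orderOf : (Multiplicative (Fin m → ZMod p)) ⋊[act K] K → ℕ) =
      Set.range (orderOf : K → ℕ) ∪ {1, p} := by
  rw [range_orderOf, range_orderOf_vec p m]
  intro k hk v hv
  have := h k hk v.toAdd (by
    have h2 := congrArg Multiplicative.toAdd hv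
    simpa using h2)
  exact Multiplicative.toAdd.injective this

end Cfsg.Agent.Lib.PSL2.FrobSpec
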