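import Cfsg.Agent.Lib.PSL2.OutPSL
import Cfsg.Agent.Lib.PSL2.FourGroup
import Cfsg.Agent.Lib.PSL2.Quat
import Cfsg.Agent.Lib.PSL2.ClassSizes

/-!
# Klein four Sylow subgroups of `PSL(2, F)`

If `P` is an abelian Sylow `2`-subgroup of `PSL(2, F)`, `F` finite of odd order: `P` is a four-group,
an element of order three of `PSL(2, F)` permutes its involutions, and an automorphism of `2`-power
order fixing `P` pointwise is conjugation by an element of `P`.
-/

set_option autoImplicit false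
set_option linter.unusedSectionVars false

namespace Cfsg.Agent.Lib.PSL2.KleinAut

open Matrix Matrix.SpecialLinearGroup
open scoped MatrixGroups
open Cfsg.Agent.Lib.PSL2.Basic Cfsg.Agent.Lib.PSL2.FourGroup Cfsg.Agent.Lib.PSL2.KleinPairs
open Cfsg.Agent.Lib.PSL2.AutPSL Cfsg.Agent.Lib.PSL2.OutPSL

section Ring

variable {R : Type*} [Ring R] {a b : R}

lemma q_mul_a (haa : a * a = -1) (hbb : b * b = -1) (hab : a * b = -(b * a)) :
    (1 + a + b + a * b) * a = b * (1 + a + b + a * b) := by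
  linear_combination (norm := noncomm_ring) haa - hbb + hab * a - b * haa - (hab * b - a * hbb)

lemma q_mul_b (haa : a * a = -1) (hbb : b * b = -1) (hab : a * b = -(b * a)) :
    (1 + a + b + a * b) * b = (a * b) * (1 + a + b + a * b) := by
  linear_combination (norm := noncomm_ring)
    hbb - (hab * a - b * haa) - (a * hab * b - haa * (b * b) + hbb)

lemma q_sq (haa : a * a = -1) (hbb : b * b = -1) (hab : a * b = -(b * a)) :
    (1 + a + b + a * b) * (1 + a + b + a * b) = (1 + a + b + a * b) + (1 + a + b + a * b) - (1 + 1 + 1 + 1) := by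
  linear_combination (norm := noncomm_ring)
    haa + hbb + (a * hab * b - haa * (b * b) + hbb) + hab + (haa * b + (hab * a - b * haa))
      + ((hab * b - a * hbb) + a * hbb)

end Ring

section Q

variable {F : Type*} [Field F]

/-- The matrix `1 + A + B + AB`. -/
def qX (A B : SL(2, F)) : Matrix (Fin 2) (Fin 2) F := 1 + A.1 + B.1 + A.1 * B.1

lemma aa_val {A B : SL(2, F)} (h : IsQ A B) : A.1 * A.1 = -1 := by
  have := congrArg Subtype.val h.aa
  simpa using this

lemma bb_val {A B : SL(2, F)} (h : IsQ A B) : B.1 * B.1 = -1 := by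
  have := congrArg Subtype.val h.bb
  simpa using this

lemma ab_val {A B : SL(2, F)} (h : IsQ A B) : A.1 * B.1 = -(B.1 * A.1) := by
  have := congrArg Subtype.val h.anti
  simpa using this

lemma det_qX (h2 : (2 : F) ≠ 0) {A B : SL(2, F)} (h : IsQ A B) : det (qX A B) = 4 := by
  have hsq := q_sq (aa_val h) (bb_val h) (ab_val h)
  have h00 := congrFun (congrFun hsq 0) 0
  have hta : A.1 0 0 + A.1 1 1 = 0 := h.tra
  have htb : B.1 0 0 + B.1 1 1 = 0 := h.trb
  have hanti := ab_val h
  have ha00 := congrFun (congrFun hanti 0) 0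
  have ha11 := congrFun (congrFun hanti 1) 1
  simp only [Matrix.mul_apply, Fin.sum_univ_two, Matrix.neg_apply] at ha00 ha11
  have htab : (A.1 * B.1) 0 0 + (A.1 * B.1) 1 1 = 0 := by
    simp only [Matrix.mul_apply, Fin.sum_univ_two]
    have : (2 : F) * (A.1 0 0 * B.1 0 0 + A.1 0 1 * B.1 1 0 + (A.1 1 0 * B.1 0 1 + A.1 1 1 * B.1 1 1)) = 0 := by
      linear_combination ha00 + ha11
    exact (mul_eq_zero.mp this).resolve_left h2
  have htr : qX A B 0 0 + qX A B 1 1 = 2 := by
    simp only [qX, Matrix.add_apply, Matrix.one_apply_eq]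
    linear_combination hta + htb + htab
  have hX : (qX A B * qX A B) 0 0 = qX A B 0 0 + qX A B 0 0 - 4 := by
    have : qX A B * qX A B = qX A B + qX A B - (1 + 1 + 1 + 1) := hsq
    rw [this]
    simp only [Matrix.sub_apply, Matrix.add_apply, Matrix.one_apply_eq]
    norm_num
  simp only [Matrix.mul_apply, Fin.sum_univ_two] at hX
  rw [det_fin_two]
  linear_combination (qX A B 0 0) * htr - hX

/-- The element `(1 + A + B + AB)/2` of `SL(2, F)`. -/
noncomputable def gQ (h2 : (2 : F) ≠ 0) {A B : SL(2, F)} (h : IsQ A B) : SL(2, F) :=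
  ⟨(2 : F)⁻¹ • qX A B, by
    rw [det_smul, det_qX h2 h, Fintype.card_fin]
    field_simp
    norm_num⟩

lemma gQ_val (h2 : (2 : F) ≠ 0) {A B : SL(2, F)} (h : IsQ A B) : (gQ h2 h).1 = (2 : F)⁻¹ • qX A B := rfl

lemma gQ_mul_a (h2 : (2 : F) ≠ 0) {A B : SL(2, F)} (h : IsQ A B) : gQ h2 h * A = B * gQ h2 h := by
  apply Subtype.ext
  show (gQ h2 h).1 * A.1 = B.1 * (gQ h2 h).1
  rw [gQ_val, Matrix.smul_mul, Matrix.mul_smul]
  congr 1
  exact q_mul_a (aa_val h) (bb_val h) (ab_val h)

lemma gQ_mul_b (h2 : (2 : F) ≠ 0) {A B : SL(2, F)} (h : IsQ A B) :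
    gQ h2 h * B = (A * B) * gQ h2 h := by
  apply Subtype.ext
  show (gQ h2 h).1 * B.1 = (A.1 * B.1) * (gQ h2 h).1
  rw [gQ_val, Matrix.smul_mul, Matrix.mul_smul]
  congr 1
  exact q_mul_b (aa_val h) (bb_val h) (ab_val h)

lemma gQ_cube (h2 : (2 : F) ≠ 0) {A B : SL(2, F)} (h : IsQ A B) :
    gQ h2 h * gQ h2 h * gQ h2 h = -1 := by
  have hsq : qX A B * qX A B = qX A B + qX A B - (1 + 1 + 1 + 1) := q_sq (aa_val h) (bb_val h) (ab_val h)
  have hg : (gQ h2 h).1 * (gQ h2 h).1 = (gQ h2 h).1 - 1 := by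
    rw [gQ_val, Matrix.smul_mul, Matrix.mul_smul, hsq]
    have h4 : ((1 : Matrix (Fin 2) (Fin 2) F) + 1 + 1 + 1) = (4 : F) • 1 := by
      ext i j
      simp only [Matrix.add_apply, Matrix.smul_apply, smul_eq_mul]
      ring
    rw [h4]
    ext i j
    simp only [Matrix.smul_apply, Matrix.sub_apply, Matrix.add_apply, smul_eq_mul, Matrix.one_apply]
    field_simp
    ring
  apply Subtype.ext
  show (gQ h2 h).1 * (gQ h2 h).1 * (gQ h2 h).1 = -1
  rw [hg, sub_mul, hg, one_mul]
  simp

/-- The order three element permuting the involutions of a four-group. -/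
theorem exists_order_three [Fintype F] (h2 : (2 : F) ≠ 0) {a b : PSL(2, F)} (h : IsPP a b) :
    ∃ f : PSL(2, F), f * f * f = 1 ∧ f * a * f⁻¹ = b ∧ f * b * f⁻¹ = a * b := by
  obtain ⟨A, rfl⟩ := mkP_surjective a
  obtain ⟨B, rfl⟩ := mkP_surjective b
  have hq := isQ_of_isPP h2 h
  refine ⟨mkP (gQ h2 hq), ?_, ?_, ?_⟩
  · rw [← map_mul, ← map_mul, gQ_cube, mkP_neg_one]
  · rw [← map_mul, gQ_mul_a, map_mul, mul_inv_cancel_right]
  · rw [← map_mul, gQ_mul_b, map_mul, mul_inv_cancel_right, map_mul]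

end Q

section Aut

variable {F : Type*} [Field F] [Fintype F]

/-- The element `diag(c, 1)` of `GL(2, F)`. -/
noncomputable def diagU (c : Fˣ) : GL (Fin 2) F :=
  GeneralLinearGroup.mkOfDetNeZero !![(c : F), 0; 0, 1] (by
    rw [det_fin_two_of]; simp)

lemma diagU_val (c : Fˣ) : (diagU c).val = !![(c : F), 0; 0, 1] := rfl

lemma cj_diagU (c : Fˣ) (M : SL(2, F)) : cj (diagU c) M = dg c M := by
  rw [cj_eq_iff, diagU_val]
  have h1 : ((c⁻¹ : Fˣ) : F) * (c : F) = 1 := by simp
  ext i j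
  fin_cases i <;> fin_cases j <;>
    simp [Matrix.mul_apply, Fin.sum_univ_two, mul_comm]

lemma cj_toGL (K M : SL(2, F)) : cj K.toGL M = K * M * K⁻¹ := by
  rw [cj_eq_iff]
  show K.1 * M.1 = (K * M * K⁻¹).1 * K.1
  have : (K * M * K⁻¹).1 * K.1 = (K * M * K⁻¹ * K).1 := rfl
  rw [this, inv_mul_cancel_right]
  rfl

lemma cj_of_center {G : GL (Fin 2) F} (hG : G ∈ Subgroup.center (GL (Fin 2) F)) (M : SL(2, F)) :
    cj G M = M := by
  rw [cj_eq_iff]
  have h := Subgroup.mem_center_iff.1 hG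
  -- central elements of `GL` are scalar, so they commute with `M`.
  have h2 := h M.toGL
  have h3 := congrArg Units.val h2
  exact h3.symm

/-- The automorphism `conj (mkP K) * dbar c` on the lift. -/
lemma std_apply (K M : SL(2, F)) (c : Fˣ) :
    (MulAut.conj (mkP K) * dbar c) (mkP M) = mkP (cj (K.toGL * diagU c) M) := by
  rw [← cj_cj, cj_diagU, cj_toGL]
  simp only [MulAut.mul_apply, MulAut.conj_apply, dbar_mk, map_mul, map_inv]

/-- An automorphism of `2`-power order (with no field part available) fixing a four-group pointwise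
is conjugation by an element of it. -/
theorem aut_fix_of_isPP (p : ℕ) [Fact p.Prime] [CharP F p] (h2 : (2 : F) ≠ 0)
    (hodd : Odd (Nat.card (RingAut F))) {a b : PSL(2, F)} (h : IsPP a b)
    (α : MulAut (PSL(2, F))) (k : ℕ) (hk : α ^ (2 ^ k) = 1) (ha : α a = a) (hb : α b = b) :
    α = 1 ∨ α = MulAut.conj a ∨ α = MulAut.conj b ∨ α = MulAut.conj (a * b) := by
  obtain ⟨g, c, ρ, hα⟩ := exists_std p α
  have hst : stdHom p α = ρ := stdHom_eq p ⟨g, c, hα⟩
  have hρ : ρ = 1 := by
    have h1 : ρ ^ (2 ^ k) = 1 := by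
      rw [← hst, ← map_pow, hk, map_one]
    have h3 : orderOf ρ ∣ 2 ^ k := orderOf_dvd_of_pow_eq_one h1
    have h4 : orderOf ρ ∣ Nat.card (RingAut F) := orderOf_dvd_natCard ρ
    have h5 : Nat.Coprime (2 ^ k) (Nat.card (RingAut F)) :=
      Nat.Coprime.pow_left k (Nat.coprime_two_left.2 hodd)
    have h6 : orderOf ρ = 1 := Nat.eq_one_of_dvd_coprimes h5 h3 h4
    exact orderOf_eq_one_iff.1 h6
  subst hρ
  rw [fbar_one, mul_one] at hα
  obtain ⟨K, rfl⟩ := mkP_surjective g
  obtain ⟨A, rfl⟩ := mkP_surjective a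
  obtain ⟨B, rfl⟩ := mkP_surjective b
  have hq := isQ_of_isPP h2 h
  set G : GL (Fin 2) F := K.toGL * diagU c with hG
  have hαM : ∀ M, α (mkP M) = mkP (cj G M) := fun M => by
    rw [hα, std_apply]
  have key : ∀ X : SL(2, F), cj (X.toGL * G) A = A → cj (X.toGL * G) B = B →
      α = MulAut.conj ((mkP X)⁻¹) := by
    intro X h1 h3
    have hc := mem_center_of_fix h2 hq h1 h3
    ext y
    obtain ⟨M, rfl⟩ := mkP_surjective y
    rw [hαM]
    have h4 := cj_of_center hc M
    rw [← cj_cj, cj_toGL] at h4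
    have h5 : cj G M = X⁻¹ * M * X := by
      calc cj G M = X⁻¹ * (X * cj G M * X⁻¹) * X := by group
        _ = _ := by rw [h4]
    rw [h5, MulAut.conj_apply, inv_inv, map_mul, map_mul, map_inv]
  have hA : cj G A = A ∨ cj G A = -A := by
    have := (hαM A).symm.trans ha
    rcases mkP_eq_iff.1 this with e | e
    · exact Or.inl e.symm
    · refine Or.inr ?_
      generalize cj G A = Y at e ⊢
      rw [e, neg_neg]
  have hB : cj G B = B ∨ cj G B = -B := by
    have := (hαM B).symm.trans hb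
    rcases mkP_eq_iff.1 this with e | e
    · exact Or.inl e.symm
    · refine Or.inr ?_
      generalize cj G B = Y at e ⊢
      rw [e, neg_neg]
  have hanti := hq.anti
  have hanti' : B * A = -(A * B) := by rw [hanti, neg_neg]
  have ainv : (mkP A)⁻¹ = mkP A := inv_eq_of_mul_eq_one_left h.aa
  have binv : (mkP B)⁻¹ = mkP B := inv_eq_of_mul_eq_one_left h.bb
  have abinv : (mkP A * mkP B)⁻¹ = mkP A * mkP B := inv_eq_of_mul_eq_one_left h.ab_sq
  rcases hA with hA | hA <;> rcases hB with hB | hB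
  · left
    have := key 1 (by rw [← cj_cj, hA, cj_toGL]; simp) (by rw [← cj_cj, hB, cj_toGL]; simp)
    rw [this]
    simp
  · right; left
    have := key A (by rw [← cj_cj, hA, cj_toGL]; simp)
      (by
        rw [← cj_cj, hB, cj_toGL, mul_neg, hanti, neg_neg]
        simp)
    rw [this, ainv]
  · right; right; left
    have := key B (by
        rw [← cj_cj, hA, cj_toGL, mul_neg, hanti', neg_neg]
        simp)
      (by rw [← cj_cj, hB, cj_toGL]; simp)
    rw [this, binv]
  · right; right; right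
    have e1 : (A * B) * (-A) = A * (A * B) := by rw [mul_neg, mul_assoc, hanti', mul_neg, neg_neg]
    have e2 : (A * B) * (-B) = B * (A * B) := by rw [mul_neg, ← mul_assoc B A B, hanti', neg_mul]
    have := key (A * B) (by rw [← cj_cj, hA, cj_toGL, e1, mul_inv_cancel_right])
      (by rw [← cj_cj, hB, cj_toGL, e2, mul_inv_cancel_right])
    rw [this, map_mul, abinv]

end Aut

section Syl

variable {F : Type*} [Field F] [Fintype F]

lemma pow_eq_of_sq {H : Type*} [Group H] {x : H} (hx : x * x = 1) (m : ℕ) : x ^ m = 1 ∨ x ^ m = x := by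
  rcases Nat.even_or_odd' m with ⟨c, rfl | rfl⟩
  · left
    rw [pow_mul, pow_two, hx, one_pow]
  · right
    rw [pow_succ, pow_mul, pow_two, hx, one_pow, one_mul]

/-- An abelian Sylow `2`-subgroup of `PSL(2, F)`, `F` finite of odd order, is a four-group, and then
the group of field automorphisms has odd order. -/
theorem exists_isPP_of_sylow (hodd : Odd (Fintype.card F)) (P : Sylow 2 (PSL(2, F)))
    (hP : IsMulCommutative (P : Subgroup (PSL(2, F)))) :
    ∃ a b : PSL(2, F), IsPP a b ∧ a ∈ (P : Subgroup (PSL(2, F))) ∧ b ∈ (P : Subgroup (PSL(2, F))) ∧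
      (∀ x ∈ (P : Subgroup (PSL(2, F))), x = 1 ∨ x = a ∨ x = b ∨ x = a * b) ∧
      Odd (Nat.card (RingAut F)) := by
  classical
  have h2 : (2 : F) ≠ 0 := Cfsg.Agent.Lib.PSL2.TorusCore.two_ne_zero_of_odd_card hodd
  have hcm : ∀ x ∈ (P : Subgroup (PSL(2, F))), ∀ y ∈ (P : Subgroup (PSL(2, F))), x * y = y * x := by
    intro x hx y hy
    have := hP.is_comm.comm ⟨x, hx⟩ ⟨y, hy⟩
    exact congrArg Subtype.val this
  let Pt : Subgroup (SL(2, F)) := (P : Subgroup (PSL(2, F))).comap mkP
  have hpg : IsPGroup 2 Pt := by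
    rintro ⟨X, hX⟩
    obtain ⟨n, hn⟩ := P.2 ⟨mkP X, hX⟩
    refine ⟨n + 1, ?_⟩
    have h1 : mkP (X ^ (2 ^ n)) = 1 := by
      rw [map_pow]
      exact congrArg Subtype.val hn
    apply Subtype.ext
    show X ^ (2 ^ (n + 1)) = 1
    rw [pow_succ, pow_mul]
    rcases mkP_eq_one_iff.1 h1 with h3 | h3
    · rw [h3, one_pow]
    · rw [h3, pow_two]
      simp
  have hidx : ¬ 2 ∣ Pt.index := by
    rw [Subgroup.index_comap_of_surjective _ mkP_surjective]
    exact P.not_dvd_index
  let Q : Sylow 2 (SL(2, F)) := hpg.toSylow hidx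
  have hQ : (Q : Subgroup (SL(2, F))) = Pt := IsPGroup.toSylow_coe hpg hidx
  obtain ⟨k, hk1, ⟨e⟩⟩ := Cfsg.Agent.Lib.PSL2.Quat.sylow_two_equiv_quaternion hodd Q
  haveI hne : NeZero (2 * 2 ^ k) := ⟨by positivity⟩
  let ι : QuaternionGroup (2 ^ k) →* SL(2, F) :=
    (Q : Subgroup (SL(2, F))).subtype.comp e.symm.toMonoidHom
  have ιinj : Function.Injective ι :=
    (Subgroup.subtype_injective _).comp e.symm.injective
  have hmem : ∀ y, mkP (ι y) ∈ (P : Subgroup (PSL(2, F))) := by
    intro y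
    have : ι y ∈ (Q : Subgroup (SL(2, F))) := (e.symm y).2
    rw [hQ] at this
    exact this
  have hsurj : ∀ X : SL(2, F), mkP X ∈ (P : Subgroup (PSL(2, F))) → ∃ y, ι y = X := by
    intro X hX
    have hX' : X ∈ (Q : Subgroup (SL(2, F))) := by
      rw [hQ]
      exact hX
    refine ⟨e ⟨X, hX'⟩, ?_⟩
    show ((e.symm (e ⟨X, hX'⟩) : Q) : SL(2, F)) = X
    rw [MulEquiv.symm_apply_apply]
  set A := ι (QuaternionGroup.a 1) with hA
  set B := ι (QuaternionGroup.xa 0) with hB
  set z := ι (QuaternionGroup.a 2) with hz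
  have hcomm : A * B = z * (B * A) := by
    rw [hA, hB, hz, ← map_mul, ← map_mul, ← map_mul]
    congr 1
    simp only [QuaternionGroup.a_mul_xa, QuaternionGroup.xa_mul_a]
    congr 1
    ring
  have hcP : mkP A * mkP B = mkP B * mkP A := hcm _ (hmem _) _ (hmem _)
  have hz1 : mkP z = 1 := by
    have h3 := congrArg mkP hcomm
    rw [map_mul, map_mul, map_mul, hcP] at h3
    exact (mul_eq_right.1 h3.symm)
  have hzz : z * z = 1 := by
    rcases mkP_eq_one_iff.1 hz1 with h3 | h3
    · rw [h3, one_mul]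
    · rw [h3]; simp
  have hk2 : 2 ^ k = 2 := by
    have h3 : ι (QuaternionGroup.a 2 * QuaternionGroup.a 2) = ι 1 := by
      rw [map_mul, map_one]; exact hzz
    have h4 := ιinj h3
    rw [QuaternionGroup.a_mul_a, QuaternionGroup.one_def, QuaternionGroup.a.injEq] at h4
    have h5 : (((4 : ℕ)) : ZMod (2 * 2 ^ k)) = 0 := by
      push_cast
      linear_combination h4
    rw [ZMod.natCast_eq_zero_iff] at h5
    have h6 : 2 ^ k ∣ 2 := (Nat.mul_dvd_mul_iff_left (by norm_num)).1 (show 2 * 2 ^ k ∣ 2 * 2 from h5)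
    have h7 : 2 ≤ 2 ^ k := by
      calc 2 = 2 ^ 1 := rfl
        _ ≤ 2 ^ k := Nat.pow_le_pow_right (by norm_num) hk1
    exact Nat.le_antisymm (Nat.le_of_dvd (by norm_num) h6) h7
  have hz' : z = -1 := by
    rcases mkP_eq_one_iff.1 hz1 with h3 | h3
    · exfalso
      have h4 : ι (QuaternionGroup.a 2) = ι 1 := by rw [map_one]; exact h3
      have h5 := ιinj h4
      rw [QuaternionGroup.one_def, QuaternionGroup.a.injEq] at h5
      have h6 : ((2 : ℕ) : ZMod (2 * 2 ^ k)) = 0 := by
        push_cast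
        exact h5
      rw [ZMod.natCast_eq_zero_iff, hk2] at h6
      omega
    · exact h3
  have hAA : A * A = -1 := by
    rw [← hz', hA, hz, ← map_mul, QuaternionGroup.a_mul_a]
    congr 2
    norm_num
  have hBB : B * B = -1 := by
    rw [← hz', hB, hz, ← map_mul, QuaternionGroup.xa_mul_xa]
    congr 2
    rw [hk2]
    push_cast
    ring
  have hne1 : (-1 : SL(2, F)) ≠ 1 := (neg_ne_self h2 1).symm
  have hsq : ∀ X : SL(2, F), X * X = -1 → mkP X ≠ 1 := by
    intro X hX h1
    rcases mkP_eq_one_iff.1 h1 with rfl | rfl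
    · rw [one_mul] at hX
      exact hne1 hX.symm
    · simp at hX
      exact hne1 hX.symm
  have hmk : ∀ X : SL(2, F), X * X = -1 → mkP X * mkP X = 1 := by
    intro X hX
    rw [← map_mul, hX, mkP_neg_one]
  have hAB : mkP A ≠ mkP B := by
    intro h3
    rcases mkP_eq_iff.1 h3 with h4 | h4
    · exact absurd (ιinj h4) (by simp)
    · have h5 : B = z * A := by rw [hz', neg_mul, one_mul]; exact h4
      have h6 : ι (QuaternionGroup.xa 0) = ι (QuaternionGroup.a 2 * QuaternionGroup.a 1) := by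
        rw [map_mul]; exact h5
      exact absurd (ιinj h6) (by simp)
  refine ⟨mkP A, mkP B, ⟨hsq A hAA, hsq B hBB, hAB, hmk A hAA, hmk B hBB, hcP⟩, hmem _, hmem _, ?_, ?_⟩
  · intro x hx
    obtain ⟨X, rfl⟩ := mkP_surjective x
    obtain ⟨y, rfl⟩ := hsurj X hx
    have hapow : ∀ i : ZMod (2 * 2 ^ k), mkP (ι (QuaternionGroup.a i)) = 1 ∨
        mkP (ι (QuaternionGroup.a i)) = mkP A := by
      intro i
      have h3 : (QuaternionGroup.a i : QuaternionGroup (2 ^ k)) = QuaternionGroup.a 1 ^ i.val := by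
        rw [QuaternionGroup.a_one_pow, ZMod.natCast_zmod_val]
      rw [h3, map_pow, map_pow]
      exact pow_eq_of_sq (hmk A hAA) _
    cases y with
    | a i =>
      rcases hapow i with h3 | h3
      · left; exact h3
      · right; left; exact h3
    | xa i =>
      have h3 : (QuaternionGroup.xa i : QuaternionGroup (2 ^ k)) =
          QuaternionGroup.xa 0 * QuaternionGroup.a i := by
        rw [QuaternionGroup.xa_mul_a, zero_add]
      rw [h3, map_mul, map_mul]
      rcases hapow i with h4 | h4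
      · right; right; left
        rw [h4, mul_one]
      · right; right; right
        rw [h4, hcP]
  · -- the field automorphisms
    obtain ⟨p, hpc⟩ := CharP.exists F
    have hpp : p.Prime := CharP.char_is_prime F p
    haveI : Fact p.Prime := ⟨hpp⟩
    obtain ⟨n, hpn, hqn⟩ := FiniteField.card F p
    have hcard := Cfsg.Agent.Lib.PSL2.OutPSL.card_ringAut (F := F) p hqn
    rw [hcard, ← Nat.not_even_iff_odd]
    rintro ⟨r, hr⟩
    have hcQ : Nat.card (Q : Subgroup (SL(2, F))) = 8 := by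
      haveI : NeZero (2 ^ k) := ⟨by positivity⟩
      rw [Nat.card_congr e.toEquiv, Nat.card_eq_fintype_card, QuaternionGroup.card, hk2]
    have hidx2 : ¬ 2 ∣ (Q : Subgroup (SL(2, F))).index := Q.not_dvd_index
    have hmul := (Q : Subgroup (SL(2, F))).card_mul_index
    rw [hcQ, Cfsg.Agent.Lib.PSL2.ClassSizes.card_SL2_mul] at hmul
    rw [hqn] at hmul hodd
    have hpodd : Odd p := by
      have h3 : Odd (p ^ (n : ℕ)) := hodd
      exact (Nat.odd_pow_iff (by positivity)).1 h3
    have hs : Odd (p ^ r) := hpodd.pow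
    obtain ⟨u, hu⟩ := hs
    have hqq : p ^ (n : ℕ) = (p ^ r) * (p ^ r) := by
      rw [← pow_add, hr]
    have hu2 : 2 ∣ u * (u + 1) := Nat.even_mul_succ_self u |>.two_dvd
    obtain ⟨v, hv⟩ := hu2
    have hq1 : p ^ (n : ℕ) = 8 * v + 1 := by
      rw [hqq, hu]
      nlinarith
    rw [hq1] at hmul
    have h3 : 8 * v + 1 - 1 = 8 * v := by omega
    rw [h3] at hmul
    have h4 : 2 ∣ (Q : Subgroup (SL(2, F))).index := by
      have h5 : 8 * (Q : Subgroup (SL(2, F))).index = 8 * ((8 * v + 1) * (v * (8 * v + 1 + 1))) := by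
        rw [hmul]
        ring
      have h6 := Nat.eq_of_mul_eq_mul_left (by norm_num) h5
      rw [h6]
      exact ⟨(8 * v + 1) * (v * (4 * v + 1)), by ring⟩
    exact hidx2 h4

end Syl



end Cfsg.Agent.Lib.PSL2.KleinAut
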