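import Cfsg.Agent.Lib.PSL2.Position

/-!
# Traces and orders in `SL(2, F)`

`X ^ (n + 1) = c (n + 1) X - c n`, where `c` is the Chebyshev sequence in the trace of `X`.
-/

set_option autoImplicit false
set_option linter.unusedSectionVars false
set_option linter.unusedSimpArgs false
set_option linter.unusedVariables false
set_option linter.style.haveILetI false

namespace Cfsg.Agent.Lib.PSL2.TraceOrder

open Matrix Matrix.SpecialLinearGroup Subgroup
open scoped MatrixGroups
open Cfsg.Agent.Lib.PSL2.Basic Cfsg.Agent.Lib.PSL2.Conj Cfsg.Agent.Lib.PSL2.Members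
open Cfsg.Agent.Lib.PSL2.Reduction Cfsg.Agent.Lib.PSL2.Overgroups

section Ring

variable {F : Type*} [CommRing F]

/-- The Chebyshev sequence. -/
def cheb (τ : F) : ℕ → F
  | 0 => 0
  | 1 => 1
  | (n + 2) => τ * cheb τ (n + 1) - cheb τ n

@[simp] lemma cheb_zero (τ : F) : cheb τ 0 = 0 := rfl
@[simp] lemma cheb_one (τ : F) : cheb τ 1 = 1 := rfl
lemma cheb_add_two (τ : F) (n : ℕ) : cheb τ (n + 2) = τ * cheb τ (n + 1) - cheb τ n := rfl

lemma cheb_two (τ : F) : cheb τ 2 = τ := by simp [cheb_add_two]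
lemma cheb_three (τ : F) : cheb τ 3 = τ ^ 2 - 1 := by
  rw [cheb_add_two, cheb_two]; simp; ring
lemma cheb_four (τ : F) : cheb τ 4 = τ ^ 3 - 2 * τ := by
  rw [cheb_add_two, cheb_three, cheb_two]; ring
lemma cheb_five (τ : F) : cheb τ 5 = τ ^ 4 - 3 * τ ^ 2 + 1 := by
  rw [cheb_add_two, cheb_four, cheb_three]; ring

lemma pow_entries (X : SL(2, F)) (n : ℕ) :
    (X ^ (n + 1)).1 0 0 = cheb (tr X) (n + 1) * X.1 0 0 - cheb (tr X) n ∧
    (X ^ (n + 1)).1 0 1 = cheb (tr X) (n + 1) * X.1 0 1 ∧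
    (X ^ (n + 1)).1 1 0 = cheb (tr X) (n + 1) * X.1 1 0 ∧
    (X ^ (n + 1)).1 1 1 = cheb (tr X) (n + 1) * X.1 1 1 - cheb (tr X) n := by
  induction n with
  | zero => simp
  | succ n ih =>
    obtain ⟨h0, h1, h2, h3⟩ := ih
    have hdet := det_entries X
    rw [pow_succ, cheb_add_two]
    simp only [mul_00, mul_01, mul_10, mul_11, h0, h1, h2, h3, tr]
    refine ⟨?_, ?_, ?_, ?_⟩
    · linear_combination (-cheb (X.1 0 0 + X.1 1 1) (n + 1)) * hdet
    · ring
    · ring
    · linear_combination (-cheb (X.1 0 0 + X.1 1 1) (n + 1)) * hdet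

end Ring

section Field

variable {F : Type*} [Field F]

/-- Powers of a noncentral element which are central. -/
theorem cheb_eq_zero {X : SL(2, F)} (hX : NC X) (n : ℕ) (h : mkP X ^ (n + 1) = 1) :
    cheb (tr X) (n + 1) = 0 := by
  rw [← map_pow, mkP_eq_one_iff] at h
  obtain ⟨h0, h1, h2, h3⟩ := pow_entries X n
  by_contra hc
  have e : (X ^ (n + 1)).1 0 1 = 0 ∧ (X ^ (n + 1)).1 1 0 = 0 ∧
      (X ^ (n + 1)).1 0 0 = (X ^ (n + 1)).1 1 1 := by
    rcases h with h | h <;> rw [h] <;> simp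
  obtain ⟨e1, e2, e3⟩ := e
  rw [h1] at e1
  rw [h2] at e2
  rw [h0, h3] at e3
  have h01 : X.1 0 1 = 0 := (mul_eq_zero.1 e1).resolve_left hc
  have h10 : X.1 1 0 = 0 := (mul_eq_zero.1 e2).resolve_left hc
  have h00 : X.1 0 0 = X.1 1 1 := by
    have : cheb (tr X) (n + 1) * (X.1 0 0 - X.1 1 1) = 0 := by linear_combination e3
    exact sub_eq_zero.1 ((mul_eq_zero.1 this).resolve_left hc)
  have hdet := det_entries X
  rw [h01, h10, ← h00] at hdet
  have h5 : (X.1 0 0 - 1) * (X.1 0 0 + 1) = 0 := by linear_combination hdet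
  rcases mul_eq_zero.1 h5 with h6 | h6
  · apply hX.1
    have h7 : X.1 0 0 = 1 := by linear_combination h6
    apply ext2 <;> simp [h01, h10, ← h00, h7]
  · apply hX.2
    have h7 : X.1 0 0 = -1 := by linear_combination h6
    apply ext2 <;> simp [h01, h10, ← h00, h7]

/-- The trace of `X`, from `mkP X = 1`. -/
lemma tr_of_mkP_eq_one {X : SL(2, F)} (h : mkP X = 1) : tr X = 2 ∨ tr X = -2 := by
  rcases mkP_eq_one_iff.1 h with rfl | rfl
  · left; simp [tr]; norm_num
  · right; simp [tr]; norm_num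

/-- The trace of `X`, from `mkP X ^ 2 = 1`. -/
lemma tr_of_sq {X : SL(2, F)} (h : mkP X ^ 2 = 1) : mkP X = 1 ∨ tr X = 0 := by
  by_cases h1 : mkP X = 1
  · exact Or.inl h1
  · right
    have := cheb_eq_zero (nc_of_mkP_ne_one h1) 1 h
    rwa [cheb_two] at this

/-- The trace of `X`, from `mkP X ^ 3 = 1`. -/
lemma tr_of_cube {X : SL(2, F)} (h : mkP X ^ 3 = 1) : mkP X = 1 ∨ tr X ^ 2 = 1 := by
  by_cases h1 : mkP X = 1
  · exact Or.inl h1
  · right
    have := cheb_eq_zero (nc_of_mkP_ne_one h1) 2 h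
    rw [cheb_three] at this
    linear_combination this

/-- The trace of `X`, from `mkP X ^ 5 = 1`. -/
lemma tr_of_five {X : SL(2, F)} (h : mkP X ^ 5 = 1) : mkP X = 1 ∨ tr X ^ 4 - 3 * tr X ^ 2 + 1 = 0 := by
  by_cases h1 : mkP X = 1
  · exact Or.inl h1
  · right
    have := cheb_eq_zero (nc_of_mkP_ne_one h1) 4 h
    rwa [cheb_five] at this

/-- The trace of a frame change. -/
lemma tr_frameEquiv (g : SL(2, F)) (c : F) (hc : c ≠ 0) (X : SL(2, F)) :
    tr (frameEquiv g c hc X) = tr X := by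
  rw [frameEquiv_apply]
  have h : tr (scale c hc (T g X)) = tr (T g X) := by
    simp [tr]
  rw [h]
  exact tr_conj g X

end Field

section Gens

variable {F : Type*} [Field F]

/-- Elements of odd order lie in every subgroup of index two. -/
lemma mem_of_index_two {G : Type*} [Group G] {N : Subgroup G} (hN : N.index = 2) {a : G} {p : ℕ}
    (hp2 : p % 2 = 1) (ha : a ^ p = 1) : a ∈ N := by
  have h1 : a ^ 2 ∈ N := Subgroup.sq_mem_of_index_two hN a
  obtain ⟨t, ht⟩ : ∃ t, p = 2 * t + 1 := ⟨p / 2, by omega⟩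
  rw [ht] at ha
  have h3 : (a ^ 2) ^ t * a = 1 := by
    rw [← pow_mul, ← pow_succ]
    exact ha
  have h4 : a = ((a ^ 2) ^ t)⁻¹ := eq_inv_of_mul_eq_one_right h3
  rw [h4]
  exact N.inv_mem (N.pow_mem h1 t)

/-- A group generated by two elements of odd order has no subgroup of index two. -/
lemma no_index_two {G : Type*} [Group G] {a b : G} {p : ℕ} (hp2 : p % 2 = 1)
    (ha : a ^ p = 1) (hb : b ^ p = 1) (N : Subgroup (closure ({a, b} : Set G)))
    (hN : N.index = 2) : False := by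
  have h1 : (⟨a, subset_closure (by simp)⟩ : closure ({a, b} : Set G)) ∈ N :=
    mem_of_index_two hN hp2 (Subtype.ext (by simpa using ha))
  have h2 : (⟨b, subset_closure (by simp)⟩ : closure ({a, b} : Set G)) ∈ N :=
    mem_of_index_two hN hp2 (Subtype.ext (by simpa using hb))
  have h3 : closure ({a, b} : Set G) ≤ N.map (closure ({a, b} : Set G)).subtype := by
    rw [closure_le]
    rintro z (rfl | rfl)
    · exact ⟨_, h1, rfl⟩
    · exact ⟨_, h2, rfl⟩
  have h4 : N = ⊤ := by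
    rw [eq_top_iff]
    rintro z -
    obtain ⟨u, hu, hz⟩ := h3 z.2
    have : u = z := Subtype.ext hz
    rwa [← this]
  rw [h4, Subgroup.index_top] at hN
  omega

end Gens

end Cfsg.Agent.Lib.PSL2.TraceOrder
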