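import Mathlib
import Cfsg.Agent.S0495
import Cfsg.Agent.S1012
import Cfsg.Agent.Lib.SmallCen.SmallOrder
import Cfsg.Agent.Lib.PSL2.Spectrum
import Cfsg.Agent.Lib.PSL2.DihedralMax
import Cfsg.Agent.Lib.PSL2.Macbeath
import Cfsg.Agent.Lib.PSL2.KleinAut
import Cfsg.Agent.Lib.PSL2.TraceOrder
import Cfsg.Agent.Lib.Char.Kazarin

/-!
# Simple groups of order 168: the local structure
-/

set_option autoImplicit false
set_option linter.style.haveILetI false
set_option linter.unusedVariables false
set_option linter.unusedSectionVars false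
set_option linter.unusedSimpArgs false

namespace Cfsg.Agent.Lib.PSL2.Order168

open Subgroup Cfsg.Agent.Lib.PSL2.Basic Cfsg.Agent.Lib.SmallCen.SmallOrder
open scoped MatrixGroups

instance fact7 : Fact (Nat.Prime 7) := ⟨by norm_num⟩
instance fact3 : Fact (Nat.Prime 3) := ⟨by norm_num⟩
instance fact2 : Fact (Nat.Prime 2) := ⟨by norm_num⟩

/-! ### General tools -/

section General

variable {G : Type*} [Group G] [Finite G]

theorem card_conj (x : G) {P : G → Prop} (hP : ∀ g, P g ↔ IsConj x g) :
    Nat.card {g // P g} = (centralizer ({x} : Set G)).index := by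
  rw [Cfsg.Agent.Lib.Char.Kazarin.index_centralizer_eq_ncard, ← Nat.card_coe_set_eq]
  apply Nat.card_congr
  refine Equiv.subtypeEquivRight ?_
  intro g
  rw [hP, ConjClasses.mem_carrier_iff_mk_eq, ConjClasses.mk_eq_mk_iff_isConj]
  exact ⟨fun h => h.symm, fun h => h.symm⟩

theorem isConj_of_equiv {H : Type*} [Group H] (e : G ≃* H) {a b : G} (h : IsConj (e a) (e b)) : IsConj a b := by
  rw [isConj_iff] at h ⊢
  obtain ⟨c, hc⟩ := h
  refine ⟨e.symm c, e.injective ?_⟩
  simpa using hc

theorem orderOf_of_isConj {a b : G} (h : IsConj a b) : orderOf a = orderOf b := by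
  obtain ⟨c, rfl⟩ := isConj_iff.1 h
  have := MulEquiv.orderOf_eq (MulAut.conj c) a
  simpa [MulAut.conj_apply] using this.symm

theorem centralizer_eq_of_gen {P : Subgroup G} {x : G} (hP : P = zpowers x) :
    centralizer (P : Set G) = centralizer ({x} : Set G) := by
  subst hP
  ext y
  rw [mem_centralizer_iff, mem_centralizer_iff]
  constructor
  · intro h a ha
    rw [Set.mem_singleton_iff] at ha
    subst ha
    exact h _ (mem_zpowers _)
  · intro h a ha
    obtain ⟨k, rfl⟩ := mem_zpowers_iff.1 ha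
    have h1 : Commute x y := h x rfl
    exact (h1.zpow_left k).eq

theorem exists_gen {P : Subgroup G} {p : ℕ} [Fact p.Prime] (hc : Nat.card P = p) :
    ∃ x ∈ P, orderOf x = p ∧ P = zpowers x := by
  haveI : Fact (Nat.card P).Prime := ⟨by rw [hc]; exact Fact.out⟩
  haveI := isCyclic_of_prime_card (α := P) rfl
  obtain ⟨g, hg⟩ := IsCyclic.exists_generator (α := P)
  have ho : orderOf g = p := by
    rw [orderOf_eq_card_of_forall_mem_zpowers hg, hc]
  have ho' : orderOf (g : G) = p := by rw [Subgroup.orderOf_coe]; exact ho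
  refine ⟨g, g.2, ho', ?_⟩
  symm
  apply Subgroup.eq_of_le_of_card_ge
  · rw [zpowers_le]
    exact g.2
  · rw [Nat.card_zpowers, ho', hc]

theorem card_norm_dvd {P : Subgroup G} {p : ℕ} [Fact p.Prime] (hc : Nat.card P = p) :
    Nat.card (normalizer (P : Set G)) ∣ Nat.card (centralizer (P : Set G)) * (p - 1) := by
  haveI : Fact (Nat.card P).Prime := ⟨by rw [hc]; exact Fact.out⟩
  haveI := isCyclic_of_prime_card (α := P) rfl
  let φ := P.normalizerMonoidHom
  have h1 : Nat.card (normalizer (P : Set G)) = Nat.card φ.ker * Nat.card φ.range := by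
    rw [← Subgroup.index_ker, mul_comm, Subgroup.index_mul_card]
  have h2 : Nat.card φ.range ∣ p - 1 := by
    have h3 : Nat.card φ.range ∣ Nat.card (MulAut P) := Subgroup.card_subgroup_dvd_card _
    rw [IsCyclic.card_mulAut, hc, Nat.totient_prime Fact.out] at h3
    exact h3
  have h4 : Nat.card φ.ker = Nat.card (centralizer (P : Set G)) := by
    have h5 : φ.ker = (centralizer (P : Set G)).subgroupOf (normalizer (P : Set G)) :=
      Subgroup.normalizerMonoidHom_ker P
    rw [h5]
    have hle : centralizer (P : Set G) ≤ normalizer (P : Set G) :=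
      Subgroup.centralizer_le_normalizer (P : Set G)
    exact Nat.card_congr (Subgroup.subgroupOfEquivOfLe hle).toEquiv
  rw [h1, h4]
  exact Nat.mul_dvd_mul_left _ h2

end General

/-! ### The group `PSL(2, 7)` -/

section Psl

theorem two_ne : (2 : ZMod 7) ≠ 0 := by decide

theorem orders_psl (x : PSL(2, ZMod 7)) :
    orderOf x = 1 ∨ orderOf x = 2 ∨ orderOf x = 3 ∨ orderOf x = 4 ∨ orderOf x = 7 := by
  obtain ⟨X, rfl⟩ := mkP_surjective x
  have h := Spectrum.orderOf_cases 7 X
  have e : Nat.gcd 2 (Fintype.card (ZMod 7) - 1) = 2 := by rw [ZMod.card]; rfl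
  rw [e, ZMod.card] at h
  norm_num at h
  rcases h with h | h | h
  · rcases (Nat.dvd_prime (by norm_num)).1 h with h1 | h1 <;> simp [h1]
  · rcases (Nat.dvd_prime (by norm_num)).1 h with h1 | h1 <;> simp [h1]
  · have key : ∀ n : ℕ, n ∣ 4 → n = 1 ∨ n = 2 ∨ n = 4 := by
      intro n hn
      have := Nat.le_of_dvd (by norm_num) hn
      interval_cases n <;> revert hn <;> decide
    rcases key _ h with h1 | h1 | h1 <;> simp [h1]

theorem conj_psl (x y : PSL(2, ZMod 7)) (hx : orderOf x = 2) (hy : orderOf y = 2) : IsConj x y := by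
  obtain ⟨X, rfl⟩ := mkP_surjective x
  obtain ⟨Y, rfl⟩ := mkP_surjective y
  have hX : mkP X ^ 2 = 1 := by
    have := pow_orderOf_eq_one (mkP X : PSL(2, ZMod 7))
    rwa [hx] at this
  have hY : mkP Y ^ 2 = 1 := by
    have := pow_orderOf_eq_one (mkP Y : PSL(2, ZMod 7))
    rwa [hy] at this
  have hX1 : (mkP X : PSL(2, ZMod 7)) ≠ 1 := fun h => by rw [h, orderOf_one] at hx; omega
  have hY1 : (mkP Y : PSL(2, ZMod 7)) ≠ 1 := fun h => by rw [h, orderOf_one] at hy; omega
  have ht : tr X = 0 := (TraceOrder.tr_of_sq hX).resolve_left hX1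
  have ht' : tr Y = 0 := (TraceOrder.tr_of_sq hY).resolve_left hY1
  obtain ⟨g, hg⟩ := Macbeath.exists_conj_of_tr_eq X Y (by rw [ht]; decide) (by rw [ht, ht'])
  rw [isConj_iff]
  refine ⟨mkP g, ?_⟩
  rw [← map_inv, ← map_mul, ← map_mul, hg]

theorem exists_D4_psl : ∃ H : Subgroup PSL(2, ZMod 7), Nat.card H = 8 ∧ Nonempty (H ≃* DihedralGroup 4) := by
  obtain ⟨T, hT, hcyc, hcard, hno, -⟩ := Nonsplit.exists_nonsplit (ZMod 7)
  obtain ⟨g, hgT, h1, hm, w, hw⟩ := hT.exists_inv
  have hd : Members.disc g ≠ 0 := by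
    intro h
    rcases Members.tr_cases_of_disc h with h2 | h2
    · apply hno g hgT h1 hm 1
      simp only [Conj.IsEig, h2]
      ring
    · apply hno g hgT h1 hm (-1)
      simp only [Conj.IsEig, h2]
      ring
  have hb : Members.cbar g = T.map (mkP : SL(2, ZMod 7) →* PSL(2, ZMod 7)) := by
    rw [Members.cbar, hT.centralizer_singleton hgT h1 hm]
  have ht : Nat.card (Members.cbar g) * DicksonCor.dd (ZMod 7) = Fintype.card (ZMod 7) + 1 := by
    rw [← hcard, hb, ← DicksonCor.dd_eq_card_center]
    exact Spectrum.card_map_mkP T (MemberCyc.center_le_torus hT)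
  have hdd : DicksonCor.dd (ZMod 7) = 2 := by
    unfold DicksonCor.dd
    rw [ZMod.card]
    rfl
  rw [hdd, ZMod.card] at ht
  have h4 : Nat.card (Members.cbar g) = 4 := by omega
  obtain ⟨e⟩ := DihedralMax.nonempty_equiv 7 ⟨h1, hm⟩ hd hw
  rw [h4] at e
  refine ⟨DihedralMax.Nz g, ?_, ⟨e⟩⟩
  rw [DihedralMax.card_Nz 7 ⟨h1, hm⟩ hd hw, h4]

end Psl

/-! ### Simple groups of order 168 -/

section Main

variable {G : Type*} [Group G] [Finite G] [IsSimpleGroup G]

theorem exists_equiv (h : Nat.card G = 168) : Nonempty (G ≃* PSL(2, ZMod 7)) :=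
  Cfsg.Agent.S0495.result h (F := ZMod 7) (by simp [ZMod.card])

theorem orders (h : Nat.card G = 168) (g : G) :
    orderOf g = 1 ∨ orderOf g = 2 ∨ orderOf g = 3 ∨ orderOf g = 4 ∨ orderOf g = 7 := by
  obtain ⟨e⟩ := exists_equiv h
  have := orders_psl (e g)
  rwa [MulEquiv.orderOf_eq] at this

/-- Commuting non-trivial elements of coprime order do not exist. -/
theorem not_comm (h : Nat.card G = 168) {a b : G} (hab : Commute a b)
    (hco : (orderOf a).Coprime (orderOf b)) (ha : a ≠ 1) (hb : b ≠ 1) : False := by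
  have h1 := hab.orderOf_mul_eq_mul_orderOf_of_coprime hco
  have hoa : orderOf a ≠ 1 := fun e => ha (orderOf_eq_one_iff.1 e)
  have hob : orderOf b ≠ 1 := fun e => hb (orderOf_eq_one_iff.1 e)
  have h2 := orders h (a * b)
  rw [h1] at h2
  rcases orders h a with e | e | e | e | e <;> rcases orders h b with e' | e' | e' | e' | e' <;>
    simp only [e, e'] at hco hoa hob h2 <;> first | omega | (revert hco; decide)

theorem card_cent_of_pgroup {a : G} {p : ℕ} [Fact p.Prime] (h : Nat.card G = 168) (hp2 : p = 2 ∨ p = 3 ∨ p = 7)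
    (ha1 : a ≠ 1) (ha : ∃ k, orderOf a = p ^ k) : IsPGroup p (centralizer ({a} : Set G)) := by
  rw [IsPGroup.iff_orderOf]
  rintro ⟨y, hy⟩
  rw [Subgroup.orderOf_mk]
  have hc : Commute a y := by
    have := (mem_centralizer_iff.1 hy) a rfl
    exact this
  obtain ⟨k, hk⟩ := ha
  by_cases hy1 : y = 1
  · exact ⟨0, by simp [hy1]⟩
  by_contra hne
  push Not at hne
  have hco : (orderOf a).Coprime (orderOf y) := by
    rw [hk]
    apply Nat.Coprime.pow_left
    have hp : p.Prime := Fact.out
    rw [Nat.Prime.coprime_iff_not_dvd hp]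
    intro hd
    rcases orders h y with e | e | e | e | e <;> rw [e] at hd hne <;>
      rcases hp2 with rfl | rfl | rfl
    all_goals first
      | omega
      | (apply hne 1; norm_num; done)
      | (apply hne 2; norm_num; done)
  exact not_comm h hc hco ha1 hy1

theorem card_cent_three (h : Nat.card G = 168) {a : G} (ha : orderOf a = 3) :
    Nat.card (centralizer ({a} : Set G)) = 3 := by
  have ha1 : a ≠ 1 := fun e => by rw [e, orderOf_one] at ha; omega
  obtain ⟨n, hn⟩ := IsPGroup.iff_card.1 (card_cent_of_pgroup (p := 3) h (by simp) ha1 ⟨1, by simpa using ha⟩)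
  have hd : Nat.card (centralizer ({a} : Set G)) ∣ 168 := h ▸ Subgroup.card_subgroup_dvd_card _
  have h3 : orderOf a ∣ Nat.card (centralizer ({a} : Set G)) := by
    have hm : a ∈ centralizer ({a} : Set G) := by
      rw [mem_centralizer_iff]
      rintro b rfl
      rfl
    have := Subgroup.orderOf_dvd_natCard (centralizer ({a} : Set G)) hm
    exact this
  rw [ha] at h3
  rw [hn] at hd h3 ⊢
  have hn1 : n ≤ 1 := by
    by_contra hgt
    push Not at hgt
    have : 3 ^ 2 ∣ 3 ^ n := pow_dvd_pow 3 hgt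
    have := this.trans hd
    omega
  interval_cases n <;> omega

theorem card_cent_seven (h : Nat.card G = 168) {a : G} (ha : orderOf a = 7) :
    Nat.card (centralizer ({a} : Set G)) = 7 := by
  have ha1 : a ≠ 1 := fun e => by rw [e, orderOf_one] at ha; omega
  obtain ⟨n, hn⟩ := IsPGroup.iff_card.1 (card_cent_of_pgroup (p := 7) h (by simp) ha1 ⟨1, by simpa using ha⟩)
  have hd : Nat.card (centralizer ({a} : Set G)) ∣ 168 := h ▸ Subgroup.card_subgroup_dvd_card _
  have h3 : orderOf a ∣ Nat.card (centralizer ({a} : Set G)) := by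
    have hm : a ∈ centralizer ({a} : Set G) := by
      rw [mem_centralizer_iff]
      rintro b rfl
      rfl
    exact Subgroup.orderOf_dvd_natCard (centralizer ({a} : Set G)) hm
  rw [ha] at h3
  rw [hn] at hd h3 ⊢
  have hn1 : n ≤ 1 := by
    by_contra hgt
    push Not at hgt
    have : 7 ^ 2 ∣ 7 ^ n := pow_dvd_pow 7 hgt
    have := this.trans hd
    omega
  interval_cases n <;> omega

/-- The centraliser of a non-trivial element of `2`-power order has order at most `8`. -/
theorem card_cent_two (h : Nat.card G = 168) {a : G} (ha1 : a ≠ 1) (ha : ∃ k, orderOf a = 2 ^ k) :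
    ∃ n ≤ 3, Nat.card (centralizer ({a} : Set G)) = 2 ^ n := by
  obtain ⟨n, hn⟩ := IsPGroup.iff_card.1 (card_cent_of_pgroup (p := 2) h (by simp) ha1 ha)
  have hd : Nat.card (centralizer ({a} : Set G)) ∣ 168 := h ▸ Subgroup.card_subgroup_dvd_card _
  refine ⟨n, ?_, hn⟩
  rw [hn] at hd
  by_contra hgt
  push Not at hgt
  have : 2 ^ 4 ∣ 2 ^ n := pow_dvd_pow 2 hgt
  have := this.trans hd
  omega

theorem card_sylow_two (h : Nat.card G = 168) (T : Sylow 2 G) : Nat.card (T : Subgroup G) = 8 := by
  simpa using card_sylow_eq (a := 3) (m := 21) (by rw [h]; norm_num) (by norm_num) T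

theorem card_sylow_three (h : Nat.card G = 168) (T : Sylow 3 G) : Nat.card (T : Subgroup G) = 3 := by
  simpa using card_sylow_eq (a := 1) (m := 56) (by rw [h]; norm_num) (by norm_num) T

theorem card_sylow_seven (h : Nat.card G = 168) (T : Sylow 7 G) : Nat.card (T : Subgroup G) = 7 := by
  simpa using card_sylow_eq (a := 1) (m := 24) (by rw [h]; norm_num) (by norm_num) T

/-- The normaliser of a subgroup of order `7` has order `21`. -/
theorem sylow_seven_data (h : Nat.card G = 168) (P : Sylow 7 G) :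
    Nat.card (normalizer ((P : Subgroup G) : Set G)) = 21 ∧ Nat.card (Sylow 7 G) = 8 := by
  obtain ⟨x, hxP, hx, hPx⟩ := exists_gen (card_sylow_seven h P)
  have hC := centralizer_eq_of_gen hPx
  have hd := card_norm_dvd (card_sylow_seven h P)
  rw [hC, card_cent_seven h hx] at hd
  have h7 : 7 ∣ Nat.card (normalizer ((P : Subgroup G) : Set G)) := by
    have hle : (P : Subgroup G) ≤ normalizer ((P : Subgroup G) : Set G) := Subgroup.le_normalizer
    have := Subgroup.card_dvd_of_le hle
    rwa [card_sylow_seven h P] at this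
  have hidx : Nat.card (Sylow 7 G) = (normalizer ((P : Subgroup G) : Set G)).index := P.card_eq_index_normalizer
  have hmul := Subgroup.card_mul_index (normalizer ((P : Subgroup G) : Set G))
  rw [← hidx, h] at hmul
  have hmod := card_sylow_modEq_one 7 G
  unfold Nat.ModEq at hmod
  generalize Nat.card (normalizer ((P : Subgroup G) : Set G)) = m at *
  generalize Nat.card (Sylow 7 G) = n at *
  obtain ⟨k, rfl⟩ := h7
  have hk : k ∣ 6 := Nat.dvd_of_mul_dvd_mul_left (by norm_num : 0 < 7) (by simpa using hd)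
  have hk6 := Nat.le_of_dvd (by norm_num) hk
  interval_cases k <;> first | omega | (revert hk; decide)

theorem sylow_three_data (h : Nat.card G = 168) (P : Sylow 3 G) :
    Nat.card (normalizer ((P : Subgroup G) : Set G)) = 6 ∧ Nat.card (Sylow 3 G) = 28 := by
  obtain ⟨x, hxP, hx, hPx⟩ := exists_gen (card_sylow_three h P)
  have hC := centralizer_eq_of_gen hPx
  have hd := card_norm_dvd (card_sylow_three h P)
  rw [hC, card_cent_three h hx] at hd
  have h7 : 3 ∣ Nat.card (normalizer ((P : Subgroup G) : Set G)) := by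
    have hle : (P : Subgroup G) ≤ normalizer ((P : Subgroup G) : Set G) := Subgroup.le_normalizer
    have := Subgroup.card_dvd_of_le hle
    rwa [card_sylow_three h P] at this
  have hidx : Nat.card (Sylow 3 G) = (normalizer ((P : Subgroup G) : Set G)).index := P.card_eq_index_normalizer
  have hmul := Subgroup.card_mul_index (normalizer ((P : Subgroup G) : Set G))
  rw [← hidx, h] at hmul
  have hmod := card_sylow_modEq_one 3 G
  unfold Nat.ModEq at hmod
  generalize Nat.card (normalizer ((P : Subgroup G) : Set G)) = m at *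
  generalize Nat.card (Sylow 3 G) = n at *
  obtain ⟨k, rfl⟩ := h7
  have hk : k ∣ 2 := Nat.dvd_of_mul_dvd_mul_left (by norm_num : 0 < 3) (by simpa using hd)
  have hk6 := Nat.le_of_dvd (by norm_num) hk
  interval_cases k <;> first | omega | (revert hk; decide)

/-- An element of order `3` normalising a subgroup of order `8` is impossible. -/
theorem no_three_normalizing (h : Nat.card G = 168) (T : Subgroup G) (hT : Nat.card T = 8)
    (w : G) (hw : orderOf w = 3) (hn : w ∈ normalizer (T : Set G)) : False := by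
  classical
  haveI : Fintype T := Fintype.ofFinite T
  let f : Function.End T := fun t => ⟨w * t * w⁻¹, (mem_normalizer_iff.1 hn t).1 t.2⟩
  have hw3 : w ^ 3 = 1 := by rw [← hw]; exact pow_orderOf_eq_one w
  have hf : f ^ 3 ^ 1 = 1 := by
    funext t
    apply Subtype.ext
    show (f (f (f t)) : G) = t
    show w * (w * (w * t * w⁻¹) * w⁻¹) * w⁻¹ = t
    have hw3' : w * w * w = 1 := by rw [← hw3]; simp [pow_succ]
    have : w * (w * (w * t * w⁻¹) * w⁻¹) * w⁻¹ = (w * w * w) * t * (w * w * w)⁻¹ := by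
      simp only [mul_inv_rev, mul_assoc]
    rw [this, hw3']
    simp
  have hmod := Equiv.Perm.card_fixedPoints_modEq hf
  rw [← Nat.card_eq_fintype_card, hT] at hmod
  have hfix : 1 < Fintype.card f.fixedPoints := by
    unfold Nat.ModEq at hmod
    omega
  obtain ⟨⟨a, ha⟩, ⟨b, hb⟩, hab⟩ := Fintype.exists_pair_of_one_lt_card hfix
  obtain ⟨t, ht, ht1⟩ : ∃ t : T, f t = t ∧ t ≠ 1 := by
    by_cases ha1 : a = 1
    · refine ⟨b, hb, ?_⟩
      rintro rfl
      exact hab (Subtype.ext ha1)
    · exact ⟨a, ha, ha1⟩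
  have hcomm : Commute w (t : G) := by
    have h1 : w * t * w⁻¹ = t := congrArg Subtype.val ht
    show w * t = t * w
    calc w * t = (w * t * w⁻¹) * w := by group
      _ = t * w := by rw [h1]
  have hord : ∃ k, orderOf (t : G) = 2 ^ k := by
    have hp : IsPGroup 2 T := by
      rw [IsPGroup.iff_card]
      exact ⟨3, by rw [hT]; norm_num⟩
    obtain ⟨k, hk⟩ := (IsPGroup.iff_orderOf.1 hp) t
    exact ⟨k, by rw [Subgroup.orderOf_coe]; exact hk⟩
  obtain ⟨k, hk⟩ := hord
  refine not_comm h hcomm ?_ ?_ ?_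
  · rw [hw, hk]
    exact Nat.Coprime.pow_right _ (by norm_num)
  · rintro rfl
    rw [orderOf_one] at hw
    omega
  · exact fun e => ht1 (Subtype.ext e)

theorem sylow_two_data (h : Nat.card G = 168) (T : Sylow 2 G) :
    normalizer ((T : Subgroup G) : Set G) = T ∧ Nat.card (Sylow 2 G) = 21 := by
  have hidx : Nat.card (Sylow 2 G) = (normalizer ((T : Subgroup G) : Set G)).index := T.card_eq_index_normalizer
  have hmul := Subgroup.card_mul_index (normalizer ((T : Subgroup G) : Set G))
  rw [h] at hmul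
  have h8 : 8 ∣ Nat.card (normalizer ((T : Subgroup G) : Set G)) := by
    have hle : (T : Subgroup G) ≤ normalizer ((T : Subgroup G) : Set G) := Subgroup.le_normalizer
    have := Subgroup.card_dvd_of_le hle
    rwa [card_sylow_two h T] at this
  have hn : normalizer ((T : Subgroup G) : Set G) ≠ ⊤ :=
    normalizer_ne_top T (by rw [card_sylow_two h T]; norm_num) (by rw [card_sylow_two h T, h]; norm_num)
  have hne3 : (normalizer ((T : Subgroup G) : Set G)).index ≠ 3 := by
    intro e
    have := card_dvd_factorial_index _ hn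
    rw [e, h] at this
    revert this
    decide
  have hne1 : (normalizer ((T : Subgroup G) : Set G)).index ≠ 1 := fun e => hn (Subgroup.index_eq_one.1 e)
  have hne7 : (normalizer ((T : Subgroup G) : Set G)).index ≠ 7 := by
    intro e
    rw [e] at hmul
    have h24 : Nat.card (normalizer ((T : Subgroup G) : Set G)) = 24 := by omega
    have h3 : 3 ∣ Nat.card (normalizer ((T : Subgroup G) : Set G)) := by rw [h24]; norm_num
    obtain ⟨w, hw⟩ := exists_prime_orderOf_dvd_card' 3 h3
    refine no_three_normalizing h T (card_sylow_two h T) w ?_ w.2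
    rw [← Subgroup.orderOf_coe] at hw
    exact hw
  have hcard : Nat.card (normalizer ((T : Subgroup G) : Set G)) = 8 := by
    obtain ⟨k, hk⟩ := h8
    rw [hk] at hmul
    generalize (normalizer ((T : Subgroup G) : Set G)).index = i at *
    have hk3 : k * i = 21 := by nlinarith
    have hi : i ∣ 21 := ⟨k, by rw [mul_comm]; exact hk3.symm⟩
    have hi21 := Nat.le_of_dvd (by norm_num) hi
    interval_cases i <;> first | omega | (revert hi; decide)
  have heq : normalizer ((T : Subgroup G) : Set G) = T := by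
    symm
    apply Subgroup.eq_of_le_of_card_ge Subgroup.le_normalizer
    rw [hcard, card_sylow_two h T]
  refine ⟨heq, ?_⟩
  rw [hidx]
  rw [hcard] at hmul
  omega

/-- A Sylow `2`-subgroup is dihedral of order `8`. -/
theorem sylow_two_equiv (h : Nat.card G = 168) (T : Sylow 2 G) :
    Nonempty ((T : Subgroup G) ≃* DihedralGroup 4) := by
  obtain ⟨e⟩ := exists_equiv h
  obtain ⟨H, hH, ⟨eH⟩⟩ := exists_D4_psl
  let H' : Subgroup G := H.comap e.toMonoidHom
  have hH' : Nat.card H' = 8 := by
    rw [← hH]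
    exact Nat.card_congr (e.toEquiv.subtypeEquiv (fun g => Iff.rfl))
  let S : Sylow 2 G := Sylow.ofCard H' (by
    rw [hH', h]
    have : (168 : ℕ).factorization 2 = 3 := by
      have : (168 : ℕ) = 2 ^ 3 * 21 := by norm_num
      rw [this, Nat.factorization_mul (by norm_num) (by norm_num), Nat.Prime.factorization_pow Nat.prime_two]
      simp
      exact Nat.factorization_eq_zero_of_not_dvd (by norm_num)
    rw [this]; norm_num)
  have hS : ((S : Subgroup G) : Subgroup G) = H' := rfl
  have e1 : (T : Subgroup G) ≃* S := Sylow.equiv T S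
  have e2 : (S : Subgroup G) ≃* H := by
    rw [hS]
    have hm : H'.map e.toMonoidHom = H := Subgroup.map_comap_eq_self_of_surjective e.surjective H
    exact (e.subgroupMap H').trans (MulEquiv.subgroupCongr hm)
  exact ⟨e1.trans (e2.trans eH)⟩

/-- A central element of a Sylow `2`-subgroup has the Sylow subgroup as centraliser. -/
theorem cent_eq_sylow (h : Nat.card G = 168) (T : Sylow 2 G) (z : G) (hz : z ∈ (T : Subgroup G)) (hz1 : z ≠ 1)
    (hc : ∀ t ∈ (T : Subgroup G), t * z = z * t) : centralizer ({z} : Set G) = T := by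
  have hp : IsPGroup 2 (T : Subgroup G) := T.isPGroup'
  have hord : ∃ k, orderOf z = 2 ^ k := by
    obtain ⟨k, hk⟩ := (IsPGroup.iff_orderOf.1 hp) ⟨z, hz⟩
    exact ⟨k, by rw [Subgroup.orderOf_mk] at hk; exact hk⟩
  obtain ⟨n, hn, hcard⟩ := card_cent_two h hz1 hord
  have hle : (T : Subgroup G) ≤ centralizer ({z} : Set G) := by
    intro t ht
    rw [mem_centralizer_iff]
    rintro b rfl
    exact (hc t ht).symm
  symm
  apply Subgroup.eq_of_le_of_card_ge hle
  rw [hcard, card_sylow_two h T]
  calc 2 ^ n ≤ 2 ^ 3 := Nat.pow_le_pow_right (by norm_num) hn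
    _ = 8 := by norm_num

theorem exists_central_inv (h : Nat.card G = 168) (T : Sylow 2 G) :
    ∃ z ∈ (T : Subgroup G), orderOf z = 2 ∧ ∀ t ∈ (T : Subgroup G), t * z = z * t := by
  have hp : IsPGroup 2 (T : Subgroup G) := T.isPGroup'
  haveI : Nontrivial (T : Subgroup G) := by
    apply Finite.one_lt_card_iff_nontrivial.1
    rw [card_sylow_two h T]; norm_num
  haveI := hp.center_nontrivial
  obtain ⟨⟨z, hzc⟩, hz1⟩ := exists_ne (1 : center (T : Subgroup G))
  have hz1' : (z : G) ≠ 1 := fun e => hz1 (Subtype.ext (Subtype.ext e))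
  have hcomm : ∀ t ∈ (T : Subgroup G), t * (z : G) = z * t := by
    intro t ht
    have := (mem_center_iff.1 hzc) ⟨t, ht⟩
    exact congrArg Subtype.val this
  obtain ⟨k, hk⟩ := (IsPGroup.iff_orderOf.1 hp) z
  rw [← Subgroup.orderOf_coe] at hk
  rcases orders h (z : G) with e | e | e | e | e
  · exact absurd (orderOf_eq_one_iff.1 e) hz1'
  · exact ⟨z, z.2, e, hcomm⟩
  · exfalso
    rw [e] at hk
    rcases k with _ | k
    · omega
    · rw [pow_succ] at hk; omega
  · refine ⟨(z : G) ^ 2, pow_mem z.2 2, ?_, ?_⟩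
    · rw [orderOf_pow' _ (by norm_num), e]
      rfl
    · intro t ht
      rw [pow_two, ← mul_assoc, hcomm t ht, mul_assoc, hcomm t ht, mul_assoc]
  · exfalso
    rw [e] at hk
    rcases k with _ | k
    · omega
    · rw [pow_succ] at hk; omega

theorem conj_involutions (h : Nat.card G = 168) (s t : G) (hs : orderOf s = 2) (ht : orderOf t = 2) : IsConj s t := by
  obtain ⟨e⟩ := exists_equiv h
  exact isConj_of_equiv e (conj_psl _ _ (by rw [MulEquiv.orderOf_eq]; exact hs) (by rw [MulEquiv.orderOf_eq]; exact ht))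

theorem card_involutions (h : Nat.card G = 168) : Nat.card {g : G // orderOf g = 2} = 21 := by
  obtain ⟨T⟩ : Nonempty (Sylow 2 G) := inferInstance
  obtain ⟨z, hzT, hz, hc⟩ := exists_central_inv h T
  have hz1 : z ≠ 1 := fun e => by rw [e, orderOf_one] at hz; omega
  rw [card_conj z (P := fun g => orderOf g = 2)]
  · rw [cent_eq_sylow h T z hzT hz1 hc]
    have := Subgroup.card_mul_index (T : Subgroup G)
    rw [card_sylow_two h T, h] at this
    omega
  · intro g
    constructor
    · intro hg
      exact conj_involutions h z g hz hg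
    · intro hg
      rw [← orderOf_of_isConj hg]
      exact hz

theorem orderOf_of_mem_zpowers_prime {p : ℕ} [Fact p.Prime] {x y : G} (hx : orderOf x = p) (hy : y ∈ zpowers x) (hy1 : y ≠ 1) :
    orderOf y = p := by
  obtain ⟨k, rfl⟩ := mem_zpowers_iff.1 hy
  have h1 := orderOf_dvd_of_mem_zpowers hy
  rw [hx] at h1
  rcases (Nat.dvd_prime Fact.out).1 h1 with h2 | h2
  · exact absurd (orderOf_eq_one_iff.1 h2) hy1
  · exact h2

/-- Elements of order 3 or 7: a conjugate of `x` lies in the cyclic group generated by `y`. -/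
theorem exists_conj_mem_zpowers (h : Nat.card G = 168) {p : ℕ} [Fact p.Prime]
    (hS : ∀ Q : Sylow p G, Nat.card (Q : Subgroup G) = p) {x y : G} (hx : orderOf x = p) (hy : orderOf y = p) :
    ∃ c : G, c * x * c⁻¹ ∈ zpowers y := by
  have hpx : IsPGroup p (zpowers x) := by
    rw [IsPGroup.iff_card]
    exact ⟨1, by rw [Nat.card_zpowers, hx, pow_one]⟩
  have hpy : IsPGroup p (zpowers y) := by
    rw [IsPGroup.iff_card]
    exact ⟨1, by rw [Nat.card_zpowers, hy, pow_one]⟩
  obtain ⟨P, hP⟩ := hpx.exists_le_sylow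
  obtain ⟨Q, hQ⟩ := hpy.exists_le_sylow
  have hPe : (P : Subgroup G) = zpowers x := by
    symm
    apply Subgroup.eq_of_le_of_card_ge hP
    rw [hS P, Nat.card_zpowers, hx]
  have hQe : (Q : Subgroup G) = zpowers y := by
    symm
    apply Subgroup.eq_of_le_of_card_ge hQ
    rw [hS Q, Nat.card_zpowers, hy]
  obtain ⟨c, hc⟩ := MulAction.exists_smul_eq G P Q
  refine ⟨c, ?_⟩
  rw [← hQe, ← hc, Sylow.coe_subgroup_smul, Subgroup.mem_pointwise_smul_iff_inv_smul_mem]
  simp only [MulAut.smul_def, map_inv, MulAut.conj_inv_apply]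
  have : c⁻¹ * (c * x * c⁻¹) * c = x := by group
  rw [this, hPe]
  exact mem_zpowers x

/-- An element of order 3 is conjugate to its inverse. -/
theorem conj_inv_three (h : Nat.card G = 168) {x : G} (hx : orderOf x = 3) : IsConj x x⁻¹ := by
  have hpx : IsPGroup 3 (zpowers x) := by
    rw [IsPGroup.iff_card]
    exact ⟨1, by rw [Nat.card_zpowers, hx, pow_one]⟩
  obtain ⟨P, hP⟩ := hpx.exists_le_sylow
  have hPe : (P : Subgroup G) = zpowers x := by
    symm
    apply Subgroup.eq_of_le_of_card_ge hP
    rw [card_sylow_three h P, Nat.card_zpowers, hx]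
  have hN := (sylow_three_data h P).1
  have hC : Nat.card (centralizer ((P : Subgroup G) : Set G)) = 3 := by
    rw [centralizer_eq_of_gen hPe, card_cent_three h hx]
  have hlt : ∃ u ∈ normalizer ((P : Subgroup G) : Set G), u ∉ centralizer ((P : Subgroup G) : Set G) := by
    by_contra hcon
    push Not at hcon
    have hle : normalizer ((P : Subgroup G) : Set G) ≤ centralizer ((P : Subgroup G) : Set G) := hcon
    have := Subgroup.card_le_of_le hle
    omega
  obtain ⟨u, hu, hu'⟩ := hlt
  have hm : u * x * u⁻¹ ∈ zpowers x := by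
    rw [← hPe]
    exact (mem_normalizer_iff.1 hu x).1 (by rw [hPe]; exact mem_zpowers x)
  have hne : u * x * u⁻¹ ≠ x := by
    intro e
    apply hu'
    rw [centralizer_eq_of_gen hPe, mem_centralizer_iff]
    rintro b rfl
    have : b * u = u * b := by
      calc b * u = (u * b * u⁻¹) * u := by rw [e]
        _ = u * b := by group
    exact this
  have hne1 : u * x * u⁻¹ ≠ 1 := by
    intro e
    have : x = 1 := by
      have h2 : u⁻¹ * (u * x * u⁻¹) * u = x := by group
      rw [← h2, e]; group
    rw [this, orderOf_one] at hx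
    omega
  obtain ⟨k, hk⟩ := mem_zpowers_iff.1 hm
  have hx3 : x ^ 3 = 1 := by rw [← hx]; exact pow_orderOf_eq_one x
  have hval : x ^ k = x ^ (k % 3) := by
    conv_lhs => rw [← Int.mul_ediv_add_emod k 3, zpow_add, zpow_mul]
    have : x ^ (3 : ℤ) = 1 := by exact_mod_cast hx3
    rw [this, one_zpow, one_mul]
  have hmod : k % 3 = 0 ∨ k % 3 = 1 ∨ k % 3 = 2 := by omega
  rw [isConj_iff]
  refine ⟨u, ?_⟩
  rw [← hk, hval]
  rcases hmod with h0 | h1 | h2
  · rw [h0] at hval
    simp only [zpow_zero] at hval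
    exact absurd (by rw [← hk, hval]) hne1
  · rw [h1] at hval
    simp only [zpow_one] at hval
    exact absurd (by rw [← hk, hval]) hne
  · rw [h2]
    rw [eq_inv_iff_mul_eq_one]
    have : x ^ (2 : ℤ) * x = x ^ 3 := by
      rw [zpow_two, pow_succ, pow_two]
    rw [this, hx3]

theorem card_three (h : Nat.card G = 168) (x : G) (hx : orderOf x = 3) :
    Nat.card {g : G // orderOf g = 3} = 56 ∧ ∀ y : G, orderOf y = 3 → IsConj x y := by
  have hall : ∀ y : G, orderOf y = 3 → IsConj x y := by
    intro y hy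
    obtain ⟨c, hc⟩ := exists_conj_mem_zpowers h (card_sylow_three h) hx hy
    have h1 : IsConj x (c * x * c⁻¹) := by
      rw [isConj_iff]
      exact ⟨c, rfl⟩
    have hne : c * x * c⁻¹ ≠ 1 := by
      intro e
      have : x = 1 := by
        have h2 : c⁻¹ * (c * x * c⁻¹) * c = x := by group
        rw [← h2, e]; group
      rw [this, orderOf_one] at hx
      omega
    have hy3 : y ^ 3 = 1 := by rw [← hy]; exact pow_orderOf_eq_one y
    obtain ⟨k, hk⟩ := mem_zpowers_iff.1 hc
    have hval : y ^ k = y ^ (k % 3) := by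
      conv_lhs => rw [← Int.mul_ediv_add_emod k 3, zpow_add, zpow_mul]
      have : y ^ (3 : ℤ) = 1 := by exact_mod_cast hy3
      rw [this, one_zpow, one_mul]
    have hmod : k % 3 = 0 ∨ k % 3 = 1 ∨ k % 3 = 2 := by omega
    rcases hmod with h0 | h1' | h2
    · rw [h0] at hval
      simp only [zpow_zero] at hval
      exact absurd (by rw [← hk, hval]) hne
    · rw [h1'] at hval
      simp only [zpow_one] at hval
      rwa [← hk, hval] at h1
    · rw [h2] at hval
      have hi : y ^ (2 : ℤ) = y⁻¹ := by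
        rw [eq_inv_iff_mul_eq_one]
        have : y ^ (2 : ℤ) * y = y ^ 3 := by
          rw [zpow_two, pow_succ, pow_two]
        rw [this, hy3]
      rw [hi] at hval
      rw [← hk, hval] at h1
      exact h1.trans (conj_inv_three h (x := y⁻¹) (by rw [orderOf_inv]; exact hy) |>.trans (by rw [inv_inv]))
  refine ⟨?_, hall⟩
  rw [card_conj x (P := fun g => orderOf g = 3)]
  · have := Subgroup.card_mul_index (centralizer ({x} : Set G))
    rw [card_cent_three h hx, h] at this
    omega
  · intro g
    exact ⟨hall g, fun hg => by rw [← orderOf_of_isConj hg]; exact hx⟩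

/-! ### Elements of order 7 -/

theorem mem_normalizer_of_conj {x g : G} (hg : g * x * g⁻¹ ∈ zpowers x) : g ∈ normalizer ((zpowers x : Subgroup G) : Set G) := by
  have hfin : Function.Injective (fun n : zpowers x => (⟨g * n * g⁻¹, by
      obtain ⟨k, hk⟩ := mem_zpowers_iff.1 n.2
      rw [← hk, ← conj_zpow]
      exact zpow_mem hg k⟩ : zpowers x)) := by
    intro a b hab
    apply Subtype.ext
    have : g * (a : G) * g⁻¹ = g * b * g⁻¹ := congrArg Subtype.val hab
    simpa using this
  have hsurj := (Finite.injective_iff_surjective.1 hfin)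
  rw [mem_normalizer_iff]
  intro n
  constructor
  · intro hn
    obtain ⟨k, hk⟩ := mem_zpowers_iff.1 hn
    rw [← hk, ← conj_zpow]
    exact zpow_mem hg k
  · intro hn
    obtain ⟨b, hb⟩ := hsurj ⟨_, hn⟩
    have : g * (b : G) * g⁻¹ = g * n * g⁻¹ := congrArg Subtype.val hb
    have h2 : (b : G) = n := by simpa using this
    rw [← h2]
    exact b.2

theorem not_conj_inv_seven (h : Nat.card G = 168) {x : G} (hx : orderOf x = 7) : ¬ IsConj x x⁻¹ := by
  intro hc
  obtain ⟨g, hg⟩ := isConj_iff.1 hc
  have hpx : IsPGroup 7 (zpowers x) := by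
    rw [IsPGroup.iff_card]
    exact ⟨1, by rw [Nat.card_zpowers, hx, pow_one]⟩
  obtain ⟨P, hP⟩ := hpx.exists_le_sylow
  have hPe : (P : Subgroup G) = zpowers x := by
    symm
    apply Subgroup.eq_of_le_of_card_ge hP
    rw [card_sylow_seven h P, Nat.card_zpowers, hx]
  have hN := (sylow_seven_data h P).1
  rw [hPe] at hN
  have hgN : g ∈ normalizer ((zpowers x : Subgroup G) : Set G) :=
    mem_normalizer_of_conj (by rw [hg]; exact inv_mem (mem_zpowers x))
  have hod : orderOf g ∣ 21 := by
    rw [← hN]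
    exact Subgroup.orderOf_dvd_natCard _ hgN
  have hodd : Odd (orderOf g) := Odd.of_dvd_nat (by decide) hod
  obtain ⟨k, hk⟩ := hodd
  have hg1 : (g * g) ^ (k + 1) = g := by
    have h1 : g ^ orderOf g = 1 := pow_orderOf_eq_one g
    rw [hk] at h1
    have : (g * g) ^ (k + 1) = g ^ (2 * k + 1) * g := by
      rw [← pow_two, ← pow_mul, ← pow_succ]
      congr 1
    rw [this, h1, one_mul]
  have hcomm : Commute (g * g) x := by
    show g * g * x = x * (g * g)
    have h2 : g * x = x⁻¹ * g := by
      rw [← hg]; group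
    have h3 : g * x⁻¹ = x * g := by
      have h3' : g * x⁻¹ * g⁻¹ = x := by
        have e : (g * x * g⁻¹)⁻¹ = g * x⁻¹ * g⁻¹ := by group
        rw [← e, hg, inv_inv]
      calc g * x⁻¹ = (g * x⁻¹ * g⁻¹) * g := by group
        _ = x * g := by rw [h3']
    calc g * g * x = g * (g * x) := by group
      _ = g * (x⁻¹ * g) := by rw [h2]
      _ = (g * x⁻¹) * g := by group
      _ = (x * g) * g := by rw [h3]
      _ = x * (g * g) := by group
  have hcg : Commute g x := by
    have := hcomm.pow_left (k + 1)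
    rwa [hg1] at this
  have hxx : x = x⁻¹ := by
    rw [← hg, hcg.eq]
    simp
  have hx2 : x ^ 2 = 1 := by
    rw [pow_two]
    nth_rewrite 1 [hxx]
    simp
  have := orderOf_dvd_of_pow_eq_one hx2
  rw [hx] at this
  omega

/-- `x` is conjugate to `x²` and `x⁴`. -/
theorem conj_sq_seven (h : Nat.card G = 168) {x : G} (hx : orderOf x = 7) :
    IsConj x (x ^ 2) ∧ IsConj x (x ^ 4) := by
  have hpx : IsPGroup 7 (zpowers x) := by
    rw [IsPGroup.iff_card]
    exact ⟨1, by rw [Nat.card_zpowers, hx, pow_one]⟩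
  obtain ⟨P, hP⟩ := hpx.exists_le_sylow
  have hPe : (P : Subgroup G) = zpowers x := by
    symm
    apply Subgroup.eq_of_le_of_card_ge hP
    rw [card_sylow_seven h P, Nat.card_zpowers, hx]
  have hN := (sylow_seven_data h P).1
  rw [hPe] at hN
  have h3 : 3 ∣ Nat.card (normalizer ((zpowers x : Subgroup G) : Set G)) := by rw [hN]; norm_num
  obtain ⟨u, hu⟩ := exists_prime_orderOf_dvd_card' 3 h3
  rw [← Subgroup.orderOf_coe] at hu
  have hu3 : (u : G) ^ 3 = 1 := by rw [← hu]; exact pow_orderOf_eq_one _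
  have hu1 : (u : G) ≠ 1 := fun e => by rw [e, orderOf_one] at hu; omega
  have hx1 : x ≠ 1 := fun e => by rw [e, orderOf_one] at hx; omega
  have hmem : (u : G) * x * (u : G)⁻¹ ∈ zpowers x := (mem_normalizer_iff.1 u.2 x).1 (mem_zpowers x)
  classical
  rw [mem_zpowers_iff_mem_range_orderOf, hx, Finset.mem_image] at hmem
  obtain ⟨a, ha, hae⟩ := hmem
  rw [Finset.mem_range] at ha
  have hconj : ∀ (b : ℕ), (u : G) * x ^ b * (u : G)⁻¹ = x ^ (a * b) := by
    intro b
    rw [← conj_pow, ← hae, pow_mul]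
  have hi : IsConj x (x ^ a) := isConj_iff.2 ⟨u, hae.symm⟩
  have hi2 : IsConj (x ^ a) (x ^ (a * a)) := isConj_iff.2 ⟨u, hconj a⟩
  have hi3 : (u : G) * x ^ (a * a) * (u : G)⁻¹ = x ^ (a * (a * a)) := hconj (a * a)
  have hcube : x ^ (a * (a * a)) = x := by
    have e1 : (u : G) ^ 3 * x * ((u : G) ^ 3)⁻¹ = x := by rw [hu3]; simp
    have e2 : (u : G) ^ 3 * x * ((u : G) ^ 3)⁻¹ = (u : G) * ((u : G) * ((u : G) * x * (u : G)⁻¹) * (u : G)⁻¹) * (u : G)⁻¹ := by
      simp only [pow_succ, pow_zero, one_mul, mul_inv_rev, mul_assoc]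
    rw [e2, hae.symm] at e1
    have e3 := hconj a
    rw [e3, hconj (a * a)] at e1
    exact e1
  have hmod : a * (a * a) % 7 = 1 := by
    have := (pow_eq_pow_iff_modEq (x := x) (n := a * (a * a)) (m := 1)).1 (by rw [hcube, pow_one])
    rw [hx] at this
    exact this
  have ha0 : a ≠ 0 ∧ a ≠ 1 := by
    constructor
    · rintro rfl
      simp at hmod
    · rintro rfl
      have hc : Commute (u : G) x := by
        show (u : G) * x = x * u
        have e : (u : G) * x * (u : G)⁻¹ = x := by rw [← hae, pow_one]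
        calc (u : G) * x = ((u : G) * x * (u : G)⁻¹) * u := by group
          _ = x * u := by rw [e]
      exact not_comm h hc (by rw [hu, hx]; norm_num) hu1 hx1
  have hx7 : x ^ 7 = 1 := by rw [← hx]; exact pow_orderOf_eq_one x
  have hcases : a = 2 ∨ a = 4 := by
    have key : ∀ a : ℕ, a < 7 → a ≠ 0 → a ≠ 1 → a * (a * a) % 7 = 1 → a = 2 ∨ a = 4 := by decide
    exact key a ha ha0.1 ha0.2 hmod
  rcases hcases with rfl | rfl
  · exact ⟨hi, hi.trans hi2⟩
  · refine ⟨hi.trans ?_, hi⟩
    have e : x ^ (4 * 4) = x ^ 2 := by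
      have : 4 * 4 = 7 * 2 + 2 := by norm_num
      rw [this, pow_add, pow_mul, hx7, one_pow, one_mul]
    rwa [e] at hi2

theorem card_seven (h : Nat.card G = 168) {x : G} (hx : orderOf x = 7) :
    Nat.card {g : G // IsConj x g} = 24 ∧ Nat.card {g : G // orderOf g = 7} = 48 := by
  have hcls : ∀ {y : G}, orderOf y = 7 → Nat.card {g : G // IsConj y g} = 24 := by
    intro y hy
    rw [card_conj y (P := fun g => IsConj y g) (fun g => Iff.rfl)]
    have := Subgroup.card_mul_index (centralizer ({y} : Set G))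
    rw [card_cent_seven h hy, h] at this
    omega
  refine ⟨hcls hx, ?_⟩
  have hxi : orderOf x⁻¹ = 7 := by rw [orderOf_inv]; exact hx
  have hdisj : Disjoint (fun g : G => IsConj x g) (fun g : G => IsConj x⁻¹ g) := by
    rw [Pi.disjoint_iff]
    intro g
    rw [disjoint_iff_inf_le]
    rintro ⟨h1, h2⟩
    exact not_conj_inv_seven h hx (h1.trans h2.symm)
  have hall : ∀ g : G, orderOf g = 7 ↔ (IsConj x g ∨ IsConj x⁻¹ g) := by
    intro g
    constructor
    · intro hg
      obtain ⟨c, hc⟩ := exists_conj_mem_zpowers h (card_sylow_seven h) hg hx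
      have h1 : IsConj g (c * g * c⁻¹) := isConj_iff.2 ⟨c, rfl⟩
      classical
      rw [mem_zpowers_iff_mem_range_orderOf, hx, Finset.mem_image] at hc
      obtain ⟨a, ha, hae⟩ := hc
      rw [Finset.mem_range] at ha
      rw [← hae] at h1
      have hx7 : x ^ 7 = 1 := by rw [← hx]; exact pow_orderOf_eq_one x
      obtain ⟨h2, h4⟩ := conj_sq_seven h hx
      have hinv : ∀ {u v : G}, IsConj u v → IsConj u⁻¹ v⁻¹ := by
        intro u v huv
        obtain ⟨c, rfl⟩ := isConj_iff.1 huv
        exact isConj_iff.2 ⟨c, by group⟩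
      have hi : ∀ b : ℕ, b ≤ 7 → x ^ (7 - b) = (x ^ b)⁻¹ := by
        intro b hb
        rw [eq_inv_iff_mul_eq_one, ← pow_add, show 7 - b + b = 7 by omega, hx7]
      have hg1 : g ≠ 1 := fun e => by rw [e, orderOf_one] at hg; omega
      interval_cases a
      · exfalso
        rw [pow_zero] at hae
        apply hg1
        have h3 : c⁻¹ * (c * g * c⁻¹) * c = g := by group
        rw [← h3, ← hae]
        group
      · left
        rw [pow_one] at h1
        exact h1.symm
      · left
        exact h2.trans h1.symm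
      · right
        have := hi 4 (by norm_num)
        norm_num at this
        rw [this] at h1
        exact (hinv h4).trans h1.symm
      · left
        exact h4.trans h1.symm
      · right
        have := hi 2 (by norm_num)
        norm_num at this
        rw [this] at h1
        exact (hinv h2).trans h1.symm
      · right
        have := hi 1 (by norm_num)
        norm_num at this
        rw [this] at h1
        exact h1.symm
    · rintro (h1 | h1)
      · rw [← orderOf_of_isConj h1]; exact hx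
      · rw [← orderOf_of_isConj h1]; exact hxi
  rw [Nat.card_congr (Equiv.subtypeEquivRight hall)]
  classical
  rw [Nat.card_congr (subtypeOrEquiv _ _ hdisj), Nat.card_sum, hcls hx, hcls hxi]

/-! ### Elements of order 4 -/

theorem d4_f1 : ∀ a b : DihedralGroup 4, a ^ 4 = 1 → a ^ 2 ≠ 1 → b ^ 4 = 1 → b ^ 2 ≠ 1 → b = a ∨ b = a⁻¹ := by
  decide
theorem d4_f2 : ∀ a c : DihedralGroup 4, a ^ 4 = 1 → c * a ^ 2 = a ^ 2 * c := by decide
theorem d4_f3 : ∀ a : DihedralGroup 4, a ^ 4 = 1 → a ^ 2 ≠ 1 → ∃ c, c * a * c⁻¹ = a⁻¹ := by decide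
theorem d4_f4 : ∀ a b : DihedralGroup 4, a ^ 4 = 1 → a ^ 2 ≠ 1 → b * a = a * b →
    b = 1 ∨ b = a ∨ b = a ^ 2 ∨ b = a ^ 3 := by decide

theorem four_data (h : Nat.card G = 168) {y : G} (hy : orderOf y = 4) :
    centralizer ({y} : Set G) = zpowers y ∧ ∀ T : Sylow 2 G, y ∈ (T : Subgroup G) →
      ∀ y' ∈ (T : Subgroup G), orderOf y' = 4 → IsConj y y' := by
  have hpy : IsPGroup 2 (zpowers y) := by
    rw [IsPGroup.iff_card]
    exact ⟨2, by rw [Nat.card_zpowers, hy]; norm_num⟩
  obtain ⟨T, hT⟩ := hpy.exists_le_sylow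
  obtain ⟨e⟩ := sylow_two_equiv h T
  have f1 := d4_f1
  have f2 := d4_f2
  have f3 := d4_f3
  have f4 := d4_f4
  constructor
  · have hyT : y ∈ (T : Subgroup G) := hT (mem_zpowers y)
    set y₀ : (T : Subgroup G) := ⟨y, hyT⟩ with hy₀
    have hy₀o : orderOf y₀ = 4 := by rw [hy₀, Subgroup.orderOf_mk]; exact hy
    have he4 : (e y₀) ^ 4 = 1 := by
      have h0 : y₀ ^ 4 = 1 := by
        have := pow_orderOf_eq_one y₀
        rwa [hy₀o] at this
      rw [← map_pow, h0, map_one]
    have he2 : (e y₀) ^ 2 ≠ 1 := by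
      intro h2
      rw [← map_pow, ← map_one e] at h2
      have h3 := e.injective h2
      have := orderOf_dvd_of_pow_eq_one h3
      rw [hy₀o] at this
      omega
    have hsq : ∀ t : (T : Subgroup G), t * y₀ ^ 2 = y₀ ^ 2 * t := by
      intro t
      apply e.injective
      simp only [map_mul, map_pow]
      exact f2 _ _ he4
    have hy1 : y ^ 2 ≠ 1 := by
      intro h2
      have := orderOf_dvd_of_pow_eq_one h2
      rw [hy] at this
      omega
    have hC : centralizer ({y ^ 2} : Set G) = T := by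
      apply cent_eq_sylow h T (y ^ 2) (pow_mem hyT 2) hy1
      intro t ht
      have := congrArg Subtype.val (hsq ⟨t, ht⟩)
      exact this
    apply le_antisymm
    · intro b hb
      have hbc : Commute y b := (mem_centralizer_iff.1 hb) y rfl
      have hbT : b ∈ (T : Subgroup G) := by
        rw [← hC, mem_centralizer_iff]
        rintro c rfl
        exact (hbc.pow_left 2).eq
      have hcomm : (⟨b, hbT⟩ : (T : Subgroup G)) * y₀ = y₀ * ⟨b, hbT⟩ := by
        apply Subtype.ext
        exact hbc.eq.symm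
      have := f4 (e y₀) (e ⟨b, hbT⟩) he4 he2 (by rw [← map_mul, hcomm, map_mul])
      have hinj : ∀ n : ℕ, e ⟨b, hbT⟩ = (e y₀) ^ n → b = y ^ n := by
        intro n hn
        rw [← map_pow] at hn
        have := e.injective hn
        exact congrArg Subtype.val this
      rcases this with h1 | h1 | h1 | h1
      · have := hinj 0 (by rw [h1, pow_zero])
        rw [this]; exact pow_mem (mem_zpowers y) 0
      · have := hinj 1 (by rw [h1, pow_one])
        rw [this]; exact pow_mem (mem_zpowers y) 1
      · have := hinj 2 h1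
        rw [this]; exact pow_mem (mem_zpowers y) 2
      · have := hinj 3 h1
        rw [this]; exact pow_mem (mem_zpowers y) 3
    · rw [zpowers_le, mem_centralizer_iff]
      rintro b rfl
      rfl
  · intro T' hyT' y' hy'T' hy'
    obtain ⟨e'⟩ := sylow_two_equiv h T'
    set y₀ : (T' : Subgroup G) := ⟨y, hyT'⟩ with hy₀
    set y₁ : (T' : Subgroup G) := ⟨y', hy'T'⟩ with hy₁
    have hy₀o : orderOf y₀ = 4 := by rw [hy₀, Subgroup.orderOf_mk]; exact hy
    have hy₁o : orderOf y₁ = 4 := by rw [hy₁, Subgroup.orderOf_mk]; exact hy'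
    have he4 : ∀ z : (T' : Subgroup G), orderOf z = 4 → (e' z) ^ 4 = 1 ∧ (e' z) ^ 2 ≠ 1 := by
      intro z hz
      constructor
      · have h0 : z ^ 4 = 1 := by
          have := pow_orderOf_eq_one z
          rwa [hz] at this
        rw [← map_pow, h0, map_one]
      · intro h2
        rw [← map_pow, ← map_one e'] at h2
        have h3 := e'.injective h2
        have := orderOf_dvd_of_pow_eq_one h3
        rw [hz] at this
        omega
    obtain ⟨a4, a2⟩ := he4 y₀ hy₀o
    obtain ⟨b4, b2⟩ := he4 y₁ hy₁o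
    have hconj : IsConj (e' y₀) (e' y₀)⁻¹ := by
      obtain ⟨c, hc⟩ := f3 _ a4 a2
      exact isConj_iff.2 ⟨c, hc⟩
    rcases f1 _ _ a4 a2 b4 b2 with h1 | h1
    · have := e'.injective h1
      have h2 : y' = y := congrArg Subtype.val this
      rw [h2]
    · rw [← map_inv] at h1
      have := e'.injective h1
      have h2 : y' = y⁻¹ := congrArg Subtype.val this
      rw [h2]
      have h3 : IsConj y₀ y₀⁻¹ := by
        apply isConj_of_equiv e'
        rw [map_inv]
        exact hconj
      obtain ⟨c, hc⟩ := isConj_iff.1 h3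
      exact isConj_iff.2 ⟨c, congrArg Subtype.val hc⟩

theorem card_four (h : Nat.card G = 168) :
    Nat.card {g : G // orderOf g = 4} = 42 ∧ ∀ s t : G, orderOf s = 4 → orderOf t = 4 → IsConj s t := by
  have hall : ∀ s t : G, orderOf s = 4 → orderOf t = 4 → IsConj s t := by
    intro s t hs ht
    have hps : IsPGroup 2 (zpowers s) := by
      rw [IsPGroup.iff_card]
      exact ⟨2, by rw [Nat.card_zpowers, hs]; norm_num⟩
    have hpt : IsPGroup 2 (zpowers t) := by
      rw [IsPGroup.iff_card]
      exact ⟨2, by rw [Nat.card_zpowers, ht]; norm_num⟩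
    obtain ⟨T, hT⟩ := hps.exists_le_sylow
    obtain ⟨T', hT'⟩ := hpt.exists_le_sylow
    obtain ⟨c, hc⟩ := MulAction.exists_smul_eq G T' T
    have hm : c * t * c⁻¹ ∈ (T : Subgroup G) := by
      rw [← hc, Sylow.coe_subgroup_smul, Subgroup.mem_pointwise_smul_iff_inv_smul_mem]
      simp only [MulAut.smul_def, map_inv, MulAut.conj_inv_apply]
      have : c⁻¹ * (c * t * c⁻¹) * c = t := by group
      rw [this]
      exact hT' (mem_zpowers t)
    have h1 : IsConj t (c * t * c⁻¹) := isConj_iff.2 ⟨c, rfl⟩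
    have ho : orderOf (c * t * c⁻¹) = 4 := by rw [← orderOf_of_isConj h1]; exact ht
    have h2 := (four_data h hs).2 T (hT (mem_zpowers s)) _ hm ho
    exact h2.trans h1.symm
  refine ⟨?_, hall⟩
  obtain ⟨T⟩ : Nonempty (Sylow 2 G) := inferInstance
  obtain ⟨e⟩ := sylow_two_equiv h T
  have hr : orderOf (DihedralGroup.r 1 : DihedralGroup 4) = 4 := DihedralGroup.orderOf_r_one
  set y : G := ((e.symm (DihedralGroup.r 1) : (T : Subgroup G)) : G) with hy
  have hyo : orderOf y = 4 := by
    rw [hy, Subgroup.orderOf_coe, MulEquiv.orderOf_eq]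
    exact hr
  rw [card_conj y (P := fun g => orderOf g = 4)]
  · have hC := (four_data h hyo).1
    have := Subgroup.card_mul_index (centralizer ({y} : Set G))
    rw [hC, Nat.card_zpowers, hyo, h, ← hC] at this
    omega
  · intro g
    exact ⟨fun hg => hall y g hyo hg, fun hg => by rw [← orderOf_of_isConj hg]; exact hyo⟩

end Main






end Cfsg.Agent.Lib.PSL2.Order168
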