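import Mathlib
import Cfsg.Agent.Lib.PSL2.Order168
import Cfsg.Agent.Lib.PSL2.KleinPairs
import Cfsg.Agent.Lib.Perm.SylowIn

/-!
# Simple groups of order 168: Klein four-groups and maximal subgroups
-/

set_option autoImplicit false
set_option linter.style.haveILetI false
set_option linter.unusedVariables false
set_option linter.unusedSectionVars false
set_option linter.unusedSimpArgs false

namespace Cfsg.Agent.Lib.PSL2.Order168

open Subgroup Cfsg.Agent.Lib.PSL2.Basic Cfsg.Agent.Lib.SmallCen.SmallOrder Cfsg.Agent.Lib.PSL2.KleinPairs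
open scoped MatrixGroups

section General

variable {G : Type*} [Group G] [Finite G]

theorem mem_normalizer_of_forall {U : Subgroup G} {g : G} (hg : ∀ n ∈ U, g * n * g⁻¹ ∈ U) :
    g ∈ normalizer (U : Set G) := by
  have hfin : Function.Injective (fun n : U => (⟨g * n * g⁻¹, hg n n.2⟩ : U)) := by
    intro a b hab
    apply Subtype.ext
    have : g * (a : G) * g⁻¹ = g * b * g⁻¹ := congrArg Subtype.val hab
    simpa using this
  have hsurj := Finite.injective_iff_surjective.1 hfin
  rw [mem_normalizer_iff]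
  intro n
  constructor
  · exact hg n
  · intro hn
    obtain ⟨b, hb⟩ := hsurj ⟨_, hn⟩
    have : g * (b : G) * g⁻¹ = g * n * g⁻¹ := congrArg Subtype.val hb
    have h2 : (b : G) = n := by simpa using this
    rw [← h2]
    exact b.2

theorem isCoatom_of_index_prime {H : Subgroup G} {p : ℕ} (hp : p.Prime) (hi : H.index = p) : IsCoatom H := by
  constructor
  · intro e
    rw [e, Subgroup.index_top] at hi
    exact hp.one_lt.ne hi
  · intro K hK
    have hd : K.index ∣ H.index := Subgroup.index_dvd_of_le hK.le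
    rw [hi] at hd
    rcases (Nat.dvd_prime hp).1 hd with h1 | h1
    · exact Subgroup.index_eq_one.1 h1
    · exfalso
      apply hK.ne
      apply Subgroup.eq_of_le_of_card_ge hK.le
      have e1 := Subgroup.card_mul_index H
      have e2 := Subgroup.card_mul_index K
      rw [hi] at e1
      rw [h1] at e2
      have : Nat.card H * p = Nat.card K * p := by rw [e1, e2]
      rw [Nat.eq_of_mul_eq_mul_right hp.pos this]

theorem IsPP.map' {H : Type*} [Group H] (f : G →* H) (hf : Function.Injective f) {a b : G} (h : IsPP a b) :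
    IsPP (f a) (f b) where
  a1 := fun e => h.a1 (hf (by rw [e, map_one]))
  b1 := fun e => h.b1 (hf (by rw [e, map_one]))
  ab := fun e => h.ab (hf e)
  aa := by rw [← map_mul, h.aa, map_one]
  bb := by rw [← map_mul, h.bb, map_one]
  comm := by rw [← map_mul, ← map_mul, h.comm]

end General

section Main

variable {G : Type*} [Group G] [Finite G] [IsSimpleGroup G]

theorem le_normalizer_of_klein (U : Subgroup G) (hU : IsKleinFour U) (T : Subgroup G) (hT : Nat.card T = 8) (hUT : U ≤ T) :
    T ≤ normalizer (U : Set G) := by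
  have hc : Nat.card (U.subgroupOf T) = 4 := by
    rw [Nat.card_congr (Subgroup.subgroupOfEquivOfLe hUT).toEquiv]
    exact hU.card_four
  have hidx : (U.subgroupOf T).index = 2 := by
    have := Subgroup.index_mul_card (U.subgroupOf T)
    rw [hc, hT] at this
    omega
  haveI := Subgroup.normal_of_index_eq_two hidx
  intro t ht
  apply mem_normalizer_of_forall
  intro n hn
  have h1 : (⟨n, hUT hn⟩ : T) ∈ U.subgroupOf T := hn
  have h2 := ‹(U.subgroupOf T).Normal›.conj_mem _ h1 ⟨t, ht⟩
  exact h2

theorem exists_three_normalizing (h : Nat.card G = 168) (U : Subgroup G) (hU : IsKleinFour U) :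
    ∃ f ∈ normalizer (U : Set G), orderOf f = 3 := by
  obtain ⟨a, b, hab, rfl⟩ := exists_pair_of_isKleinFour U hU
  obtain ⟨e⟩ := exists_equiv h
  have hab' : IsPP (e a) (e b) := IsPP.map' e.toMonoidHom e.injective hab
  obtain ⟨f', h3, h4, h5⟩ := KleinAut.exists_order_three two_ne hab'
  set f : G := e.symm f' with hf
  have hf' : e f = f' := by simp [hf]
  have hf3 : f * f * f = 1 := by
    apply e.injective
    simp only [map_mul, map_one, hf']
    exact h3
  have hfa : f * a * f⁻¹ = b := by
    apply e.injective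
    simp only [map_mul, map_inv, hf']
    exact h4
  have hfb : f * b * f⁻¹ = a * b := by
    apply e.injective
    simp only [map_mul, map_inv, hf']
    exact h5
  refine ⟨f, ?_, ?_⟩
  · apply mem_normalizer_of_forall
    intro n hn
    rcases mem_fourOf.1 hn with rfl | rfl | rfl | rfl
    · simpa using one_mem _
    · rw [hfa]; exact right_mem hab
    · rw [hfb]; exact mem_fourOf.2 (Or.inr (Or.inr (Or.inr rfl)))
    · have : f * (a * b) * f⁻¹ = (f * a * f⁻¹) * (f * b * f⁻¹) := by group
      rw [this, hfa, hfb]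
      have e1 : b * (a * b) = a := by
        rw [← mul_assoc, ← hab.comm, mul_assoc, hab.bb, mul_one]
      rw [e1]
      exact left_mem hab
  · have hf1 : f ≠ 1 := by
      rintro hf1
      rw [hf1] at hfa
      simp only [one_mul, inv_one, mul_one] at hfa
      exact hab.ab hfa
    apply orderOf_eq_prime (hp := ⟨by norm_num⟩) _ hf1
    rw [pow_succ, pow_two]
    exact hf3

theorem card_normalizer_klein (h : Nat.card G = 168) (U : Subgroup G) (hU : IsKleinFour U) :
    Nat.card (normalizer (U : Set G)) = 24 := by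
  have hpU : IsPGroup 2 U := by
    rw [IsPGroup.iff_card]
    exact ⟨2, by rw [hU.card_four]; norm_num⟩
  obtain ⟨T, hT⟩ := hpU.exists_le_sylow
  have h8 : 8 ∣ Nat.card (normalizer (U : Set G)) := by
    have := Subgroup.card_dvd_of_le (le_normalizer_of_klein U hU T (card_sylow_two h T) hT)
    rwa [card_sylow_two h T] at this
  obtain ⟨f, hf, hf3⟩ := exists_three_normalizing h U hU
  have h3 : 3 ∣ Nat.card (normalizer (U : Set G)) := by
    rw [← hf3]
    exact Subgroup.orderOf_dvd_natCard _ hf
  have h24 : 24 ∣ Nat.card (normalizer (U : Set G)) :=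
    (show Nat.Coprime 8 3 by norm_num).mul_dvd_of_dvd_of_dvd h8 h3 |>.trans (dvd_refl _) |> fun h => by simpa using h
  have hne : normalizer (U : Set G) ≠ ⊤ := by
    intro e
    have hn : U.Normal := Subgroup.normalizer_eq_top_iff.1 e
    rcases hn.eq_bot_or_eq_top with h1 | h1
    · have := hU.card_four
      rw [h1] at this
      simp at this
    · have := hU.card_four
      rw [h1, Subgroup.card_top, h] at this
      omega
  have hmul := Subgroup.card_mul_index (normalizer (U : Set G))
  rw [h] at hmul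
  have hi1 : (normalizer (U : Set G)).index ≠ 1 := fun e => hne (Subgroup.index_eq_one.1 e)
  obtain ⟨k, hk⟩ := h24
  rw [hk] at hmul ⊢
  generalize (normalizer (U : Set G)).index = i at *
  have hki : k * i = 7 := by nlinarith
  have hi : i ∣ 7 := ⟨k, by rw [mul_comm]; exact hki.symm⟩
  rcases (Nat.dvd_prime (by norm_num)).1 hi with h1 | h1
  · exact absurd h1 hi1
  · subst h1
    omega

theorem normalizer_klein_equiv (h : Nat.card G = 168) (U : Subgroup G) (hU : IsKleinFour U) :
    Nonempty (normalizer (U : Set G) ≃* Equiv.Perm (Fin 4)) := by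
  apply Cfsg.Agent.S1012.result (card_normalizer_klein h U hU)
  intro g
  rw [← Subgroup.orderOf_coe]
  rcases orders h (g : G) with e | e | e | e | e <;> rw [e] <;> norm_num


theorem d4_klein : ∀ a b : DihedralGroup 4, a ≠ 1 → b ≠ 1 → a ≠ b → a * a = 1 → b * b = 1 → a * b = b * a →
    ((a = .r 2 ∨ a = .sr 0 ∨ a = .sr 2) ∧ (b = .r 2 ∨ b = .sr 0 ∨ b = .sr 2)) ∨
    ((a = .r 2 ∨ a = .sr 1 ∨ a = .sr 3) ∧ (b = .r 2 ∨ b = .sr 1 ∨ b = .sr 3)) := by decide

theorem d4_pp1 : IsPP (DihedralGroup.r 2 : DihedralGroup 4) (DihedralGroup.sr 0) :=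
  ⟨by decide, by decide, by decide, by decide, by decide, by decide⟩

theorem d4_pp2 : IsPP (DihedralGroup.r 2 : DihedralGroup 4) (DihedralGroup.sr 1) :=
  ⟨by decide, by decide, by decide, by decide, by decide, by decide⟩

/-- The two Klein four-groups of a dihedral group of order eight, inside `G`. -/
theorem klein_in_dihedral (T : Subgroup G) (e : T ≃* DihedralGroup 4) :
    ∃ U₁ U₂ : Subgroup G, U₁ ≠ U₂ ∧ IsKleinFour U₁ ∧ IsKleinFour U₂ ∧ U₁ ≤ T ∧ U₂ ≤ T ∧
      ∀ U : Subgroup G, IsKleinFour U → U ≤ T → U = U₁ ∨ U = U₂ := by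
  let ρ : DihedralGroup 4 →* G := T.subtype.comp e.symm.toMonoidHom
  have hρ : Function.Injective ρ := T.subtype_injective.comp e.symm.injective
  have hρT : ∀ x, ρ x ∈ T := fun x => (e.symm x).2
  have hρs : ∀ t ∈ T, ∃ x, ρ x = t := fun t ht => ⟨e ⟨t, ht⟩, by simp [ρ]⟩
  have p1 := IsPP.map' ρ hρ d4_pp1
  have p2 := IsPP.map' ρ hρ d4_pp2
  refine ⟨fourOf _ _ p1, fourOf _ _ p2, ?_, isKleinFour_fourOf p1, isKleinFour_fourOf p2, ?_, ?_, ?_⟩
  · intro hne
    have h1 : ρ (.sr 1) ∈ fourOf _ _ p1 := by
      rw [hne]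
      exact right_mem p2
    rcases mem_fourOf.1 h1 with e1 | e1 | e1 | e1
    · rw [← map_one ρ] at e1
      exact absurd (hρ e1) (by decide)
    · exact absurd (hρ e1) (by decide)
    · exact absurd (hρ e1) (by decide)
    · rw [← map_mul] at e1
      exact absurd (hρ e1) (by decide)
  · rintro x (rfl | rfl | rfl | rfl)
    · exact T.one_mem
    · exact hρT _
    · exact hρT _
    · exact T.mul_mem (hρT _) (hρT _)
  · rintro x (rfl | rfl | rfl | rfl)
    · exact T.one_mem
    · exact hρT _
    · exact hρT _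
    · exact T.mul_mem (hρT _) (hρT _)
  · intro U hU hUT
    obtain ⟨a, b, hab, rfl⟩ := exists_pair_of_isKleinFour U hU
    obtain ⟨a', rfl⟩ := hρs a (hUT (left_mem hab))
    obtain ⟨b', rfl⟩ := hρs b (hUT (right_mem hab))
    have ha1 : a' ≠ 1 := fun e => hab.a1 (by rw [e, map_one])
    have hb1 : b' ≠ 1 := fun e => hab.b1 (by rw [e, map_one])
    have hne : a' ≠ b' := fun e => hab.ab (by rw [e])
    have haa : a' * a' = 1 := hρ (by rw [map_mul, hab.aa, map_one])
    have hbb : b' * b' = 1 := hρ (by rw [map_mul, hab.bb, map_one])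
    have hc : a' * b' = b' * a' := hρ (by rw [map_mul, map_mul, hab.comm])
    rcases d4_klein a' b' ha1 hb1 hne haa hbb hc with ⟨h1, h2⟩ | ⟨h1, h2⟩
    · left
      rw [fourOf_eq_iff hab (isKleinFour_fourOf p1)]
      constructor
      · rcases h1 with rfl | rfl | rfl
        · exact left_mem p1
        · exact right_mem p1
        · have : (DihedralGroup.sr 2 : DihedralGroup 4) = .r 2 * .sr 0 := by decide
          rw [this, map_mul]
          exact mem_fourOf.2 (Or.inr (Or.inr (Or.inr rfl)))
      · rcases h2 with rfl | rfl | rfl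
        · exact left_mem p1
        · exact right_mem p1
        · have : (DihedralGroup.sr 2 : DihedralGroup 4) = .r 2 * .sr 0 := by decide
          rw [this, map_mul]
          exact mem_fourOf.2 (Or.inr (Or.inr (Or.inr rfl)))
    · right
      rw [fourOf_eq_iff hab (isKleinFour_fourOf p2)]
      constructor
      · rcases h1 with rfl | rfl | rfl
        · exact left_mem p2
        · exact right_mem p2
        · have : (DihedralGroup.sr 3 : DihedralGroup 4) = .r 2 * .sr 1 := by decide
          rw [this, map_mul]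
          exact mem_fourOf.2 (Or.inr (Or.inr (Or.inr rfl)))
      · rcases h2 with rfl | rfl | rfl
        · exact left_mem p2
        · exact right_mem p2
        · have : (DihedralGroup.sr 3 : DihedralGroup 4) = .r 2 * .sr 1 := by decide
          rw [this, map_mul]
          exact mem_fourOf.2 (Or.inr (Or.inr (Or.inr rfl)))

theorem isKleinFour_map_conj {U : Subgroup G} (hU : IsKleinFour U) (g : G) :
    IsKleinFour (U.map (MulAut.conj g).toMonoidHom) := by
  obtain ⟨a, b, hab, rfl⟩ := exists_pair_of_isKleinFour U hU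
  rw [map_conj_fourOf]
  exact isKleinFour_fourOf _

theorem normalizer_map_conj (U : Subgroup G) (g : G) :
    normalizer ((U.map (MulAut.conj g).toMonoidHom : Subgroup G) : Set G) =
      (normalizer (U : Set G)).map (MulAut.conj g).toMonoidHom := by
  have := Subgroup.map_equiv_normalizer_eq U (MulAut.conj g)
  exact this.symm

theorem sylow_isSylowIn (h : Nat.card G = 168) {T A : Subgroup G} (hT : Nat.card T = 8) (hTA : T ≤ A) (hA : Nat.card A = 24) :
    Cfsg.Agent.Lib.Perm.SylowIn.IsSylowIn 2 T A where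
  le := hTA
  isPGroup := by
    rw [IsPGroup.iff_card]
    exact ⟨3, by rw [hT]; norm_num⟩
  not_dvd := by
    have := Cfsg.Agent.Lib.Perm.SylowIn.card_mul_relIndex hTA
    rw [hT, hA] at this
    have : T.relIndex A = 3 := by omega
    rw [this]
    norm_num

/-- Distinct Klein four-subgroups of a Sylow `2`-subgroup are not conjugate. -/
theorem klein_not_conj (h : Nat.card G = 168) (T : Sylow 2 G) (U W : Subgroup G)
    (hUT : U ≤ T) (hWT : W ≤ T) (hU : IsKleinFour U) (hW : IsKleinFour W) (hne : U ≠ W) (g : G)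
    (hg : U.map (MulAut.conj g).toMonoidHom = W) : False := by
  have hT8 := card_sylow_two h T
  have hT'8 : Nat.card ((T : Subgroup G).map (MulAut.conj g).toMonoidHom) = 8 := by
    rw [Cfsg.Agent.Lib.Perm.SylowIn.card_map_conj, hT8]
  have h1 : (T : Subgroup G) ≤ normalizer (W : Set G) :=
    le_normalizer_of_klein W hW T hT8 hWT
  have h2 : (T : Subgroup G).map (MulAut.conj g).toMonoidHom ≤ normalizer (W : Set G) := by
    rw [← hg, normalizer_map_conj]
    exact Subgroup.map_mono (le_normalizer_of_klein U hU T hT8 hUT)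
  have hN := card_normalizer_klein h W hW
  have s1 := sylow_isSylowIn h hT8 h1 hN
  have s2 := sylow_isSylowIn h hT'8 h2 hN
  obtain ⟨n, hn, hnx⟩ := s1.exists_conj s2
  -- `m = n * g` normalizes `T`
  have hm : n * g ∈ normalizer ((T : Subgroup G) : Set G) := by
    apply mem_normalizer_of_forall
    intro t ht
    have : g * t * g⁻¹ ∈ (T : Subgroup G).map (MulAut.conj g).toMonoidHom :=
      ⟨t, ht, by simp⟩
    have h3 := (hnx _).1 this
    have e3 : n * g * t * (n * g)⁻¹ = n * (g * t * g⁻¹) * n⁻¹ := by group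
    rw [e3]
    exact h3
  rw [(sylow_two_data h T).1] at hm
  have hUn : (T : Subgroup G) ≤ normalizer (U : Set G) := le_normalizer_of_klein U hU T hT8 hUT
  have hmU := hUn hm
  apply hne
  apply Subgroup.eq_of_le_of_card_ge
  · intro u hu
    set u' := (n * g)⁻¹ * u * (n * g) with hu'
    have e1 : (n * g) * u' * (n * g)⁻¹ = u := by rw [hu']; group
    have e2 : u' ∈ U := (mem_normalizer_iff.1 hmU u').2 (by rw [e1]; exact hu)
    have e3 : g * u' * g⁻¹ ∈ W := by
      rw [← hg]
      exact ⟨u', e2, by simp⟩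
    have e4 := (mem_normalizer_iff.1 hn _).1 e3
    have e5 : n * (g * u' * g⁻¹) * n⁻¹ = u := by
      rw [← e1]; group
    rwa [e5] at e4
  · rw [hU.card_four, hW.card_four]

theorem card_klein_in_sylow (h : Nat.card G = 168) (T : Sylow 2 G) :
    Nat.card {U : Subgroup G // U ≤ (T : Subgroup G) ∧ IsKleinFour ↥U} = 2 := by
  obtain ⟨e⟩ := sylow_two_equiv h T
  obtain ⟨U₁, U₂, hne, h1, h2, h3, h4, h5⟩ := klein_in_dihedral (T : Subgroup G) e
  rw [Nat.card_eq_two_iff]
  refine ⟨⟨U₁, h3, h1⟩, ⟨U₂, h4, h2⟩, ?_, ?_⟩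
  · intro e
    exact hne (congrArg Subtype.val e)
  · ext ⟨U, hU⟩
    simp only [Set.mem_insert_iff, Set.mem_singleton_iff, Set.mem_univ, iff_true, Subtype.mk.injEq]
    exact h5 U hU.2 hU.1


theorem exists_inverter_s4 : ∀ a : Equiv.Perm (Fin 4), a ^ 3 = 1 → a ≠ 1 → ∃ d, d * a * d⁻¹ = a⁻¹ := by decide

theorem eq_of_coatom_le' {M K : Subgroup G} (hM : IsCoatom M) (hle : M ≤ K) (hK : K ≠ ⊤) : M = K := by
  by_contra hne
  exact hK (hM.2 K (lt_of_le_of_ne hle hne))

theorem normalizer_ne_top_of_card (h : Nat.card G = 168) {K : Subgroup G} (h1 : Nat.card K ≠ 1) (h2 : Nat.card K ≠ 168) :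
    normalizer (K : Set G) ≠ ⊤ := by
  intro e
  have hn : K.Normal := Subgroup.normalizer_eq_top_iff.1 e
  rcases hn.eq_bot_or_eq_top with e1 | e1
  · rw [e1] at h1; simp at h1
  · rw [e1, Subgroup.card_top] at h2; exact h2 h

theorem normalizer_klein_ne_top (h : Nat.card G = 168) {U : Subgroup G} (hU : IsKleinFour U) :
    normalizer (U : Set G) ≠ ⊤ := by
  apply normalizer_ne_top_of_card h <;> rw [hU.card_four] <;> norm_num

theorem exists_klein (h : Nat.card G = 168) : ∃ U : Subgroup G, IsKleinFour U := by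
  obtain ⟨T⟩ : Nonempty (Sylow 2 G) := inferInstance
  obtain ⟨e⟩ := sylow_two_equiv h T
  obtain ⟨U₁, -, -, h1, -⟩ := klein_in_dihedral (T : Subgroup G) e
  exact ⟨U₁, h1⟩

theorem card_normalizer_three (h : Nat.card G = 168) {x : G} (hx : orderOf x = 3) :
    Nat.card (normalizer ((zpowers x : Subgroup G) : Set G)) = 6 := by
  let P : Sylow 3 G := Sylow.ofCard (zpowers x) (by
    rw [Nat.card_zpowers, hx, h]
    have : (168 : ℕ) = 3 ^ 1 * 56 := by norm_num
    rw [this, Nat.factorization_mul (by norm_num) (by norm_num), Nat.Prime.factorization_pow Nat.prime_three]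
    have h0 : (56 : ℕ).factorization 3 = 0 := Nat.factorization_eq_zero_of_not_dvd (by norm_num)
    simp [h0])
  exact (sylow_three_data h P).1

theorem exists_klein_normalized (h : Nat.card G = 168) {x : G} (hx : orderOf x = 3) :
    ∃ U : Subgroup G, IsKleinFour U ∧ x ∈ normalizer (U : Set G) := by
  obtain ⟨U, hU⟩ := exists_klein h
  obtain ⟨y, hy, hy3⟩ := exists_three_normalizing h U hU
  obtain ⟨c, hc⟩ := exists_conj_mem_zpowers h (card_sylow_three h) hy3 hx
  refine ⟨U.map (MulAut.conj c).toMonoidHom, isKleinFour_map_conj hU c, ?_⟩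
  rw [normalizer_map_conj]
  have hy' : c * y * c⁻¹ ∈ (normalizer (U : Set G)).map (MulAut.conj c).toMonoidHom :=
    ⟨y, hy, by simp⟩
  have hord : orderOf (c * y * c⁻¹) = 3 := by
    rw [← hy3]
    exact orderOf_of_isConj (isConj_iff.2 ⟨c, rfl⟩).symm
  have heq : zpowers (c * y * c⁻¹) = zpowers x := by
    apply Subgroup.eq_of_le_of_card_ge
    · exact (Subgroup.zpowers_le).2 hc
    · rw [Nat.card_zpowers, Nat.card_zpowers, hx, hord]
  have hxm : x ∈ zpowers (c * y * c⁻¹) := by rw [heq]; exact mem_zpowers x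
  exact (Subgroup.zpowers_le.2 hy') hxm

theorem normalizer_three_le (h : Nat.card G = 168) {x : G} (hx : orderOf x = 3) {U : Subgroup G} (hU : IsKleinFour U)
    (hxU : x ∈ normalizer (U : Set G)) :
    normalizer ((zpowers x : Subgroup G) : Set G) ≤ normalizer (U : Set G) := by
  obtain ⟨e⟩ := normalizer_klein_equiv h U hU
  have hx3 : x ^ 3 = 1 := by rw [← hx]; exact pow_orderOf_eq_one x
  have hx1 : x ≠ 1 := by
    rintro rfl
    rw [orderOf_one] at hx
    omega
  have ha3 : (e ⟨x, hxU⟩) ^ 3 = 1 := by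
    rw [← map_pow]
    have : (⟨x, hxU⟩ : normalizer (U : Set G)) ^ 3 = 1 := Subtype.ext hx3
    rw [this, map_one]
  have ha1 : e ⟨x, hxU⟩ ≠ 1 := by
    intro e1
    rw [← map_one e] at e1
    have := e.injective e1
    exact hx1 (congrArg Subtype.val this)
  obtain ⟨d₀, hd₀⟩ := exists_inverter_s4 _ ha3 ha1
  set d : G := ((e.symm d₀ : normalizer (U : Set G)) : G) with hd
  have hdU : d ∈ normalizer (U : Set G) := (e.symm d₀).2
  have hdx : d * x * d⁻¹ = x⁻¹ := by
    have e1 : e.symm (d₀ * e ⟨x, hxU⟩ * d₀⁻¹) = e.symm (e ⟨x, hxU⟩)⁻¹ := by rw [hd₀]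
    simp only [map_mul, map_inv, MulEquiv.symm_apply_apply] at e1
    exact congrArg Subtype.val e1
  have hxN : x ∈ normalizer ((zpowers x : Subgroup G) : Set G) := by
    apply mem_normalizer_of_conj
    simp [mem_zpowers]
  have hdN : d ∈ normalizer ((zpowers x : Subgroup G) : Set G) := by
    apply mem_normalizer_of_conj
    rw [hdx]
    exact inv_mem (mem_zpowers x)
  set K : Subgroup G := normalizer ((zpowers x : Subgroup G) : Set G) ⊓ normalizer (U : Set G) with hK
  have h6 := card_normalizer_three h hx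
  have hd6 : Nat.card K ∣ 6 := by
    rw [← h6]
    exact Subgroup.card_dvd_of_le inf_le_left
  have h3 : 3 ∣ Nat.card K := by
    rw [← hx]
    exact Subgroup.orderOf_dvd_natCard _ ⟨hxN, hxU⟩
  have hne3 : Nat.card K ≠ 3 := by
    intro e3
    have hle : zpowers x ≤ K := (Subgroup.zpowers_le).2 ⟨hxN, hxU⟩
    have he : zpowers x = K := Subgroup.eq_of_le_of_card_ge hle (by rw [Nat.card_zpowers, hx, e3])
    have hdz : d ∈ zpowers x := by rw [he]; exact ⟨hdN, hdU⟩
    have hcomm : Commute d x := by
      obtain ⟨k, hk⟩ := hdz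
      rw [← hk]
      exact (Commute.refl x).zpow_left k
    have : d * x * d⁻¹ = x := by
      rw [hcomm.eq]; group
    rw [this] at hdx
    have h2 : x ^ 2 = 1 := by
      rw [pow_two]
      nth_rewrite 1 [hdx]
      simp
    have : x = 1 := by
      have : x = x ^ 3 * (x ^ 2)⁻¹ := by group
      rw [this, hx3, h2]; simp
    exact hx1 this
  have hK6 : Nat.card K = 6 := by
    have hdv : Nat.card K ∈ Nat.divisors 6 := by simp [hd6]
    have : Nat.divisors 6 = {1, 2, 3, 6} := by decide
    rw [this] at hdv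
    simp only [Finset.mem_insert, Finset.mem_singleton] at hdv
    rcases hdv with e | e | e | e
    · rw [e] at h3; omega
    · rw [e] at h3; omega
    · exact absurd e hne3
    · exact e
  have : K = normalizer ((zpowers x : Subgroup G) : Set G) :=
    Subgroup.eq_of_le_of_card_ge inf_le_left (by rw [hK6, h6])
  rw [← this]
  exact inf_le_right

theorem not_coatom_normal_three (h : Nat.card G = 168) {M : Subgroup G} (hM : IsCoatom M) {x : G} (hx : orderOf x = 3)
    (hle : M ≤ normalizer ((zpowers x : Subgroup G) : Set G)) : False := by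
  obtain ⟨U, hU, hxU⟩ := exists_klein_normalized h hx
  have h1 := normalizer_three_le h hx hU hxU
  have h2 := eq_of_coatom_le' hM (hle.trans h1) (normalizer_klein_ne_top h hU)
  have h3 := card_normalizer_klein h U hU
  rw [← h2] at h3
  have h4 := Subgroup.card_dvd_of_le hle
  rw [card_normalizer_three h hx, h3] at h4
  omega

theorem not_coatom_two_group (h : Nat.card G = 168) {M : Subgroup G} (hM : IsCoatom M) (hp : IsPGroup 2 M) : False := by
  obtain ⟨T, hT⟩ := hp.exists_le_sylow
  obtain ⟨e⟩ := sylow_two_equiv h T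
  obtain ⟨U₁, -, -, h1, -, h3, -⟩ := klein_in_dihedral (T : Subgroup G) e
  have hT8 := card_sylow_two h T
  have hle := le_normalizer_of_klein U₁ h1 T hT8 h3
  have h2 := eq_of_coatom_le' hM (hT.trans hle) (normalizer_klein_ne_top h h1)
  have h4 := card_normalizer_klein h U₁ h1
  rw [← h2] at h4
  have h5 := Subgroup.card_dvd_of_le hT
  rw [hT8, h4] at h5
  omega

/-- Subgroups of order `7`, `14`, `21` that are maximal are Sylow normalizers. -/
theorem coatom_of_seven (h : Nat.card G = 168) {M : Subgroup G} (hM : IsCoatom M) (h7 : 7 ∣ Nat.card M)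
    (hle : Nat.card M ≤ 24) : ∃ P : Sylow 7 G, M = normalizer ((P : Subgroup G) : Set G) := by
  obtain ⟨y, hy⟩ := exists_prime_orderOf_dvd_card' 7 h7
  set x : G := (y : G) with hxdef
  have hx : orderOf x = 7 := by rw [hxdef, Subgroup.orderOf_coe]; exact hy
  have hxM : x ∈ M := y.2
  have hKM : zpowers x ≤ M := (Subgroup.zpowers_le).2 hxM
  have hcK : Nat.card (zpowers x) = 7 := by rw [Nat.card_zpowers, hx]
  let P : Sylow 7 G := Sylow.ofCard (zpowers x) (by
    rw [hcK, h]
    have : (168 : ℕ) = 7 ^ 1 * 24 := by norm_num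
    rw [this, Nat.factorization_mul (by norm_num) (by norm_num), Nat.Prime.factorization_pow (by norm_num)]
    have h0 : (24 : ℕ).factorization 7 = 0 := Nat.factorization_eq_zero_of_not_dvd (by norm_num)
    simp [h0])
  refine ⟨P, ?_⟩
  have hPc : Nat.card ((zpowers x).subgroupOf M) = 7 := by
    rw [Nat.card_congr (Subgroup.subgroupOfEquivOfLe hKM).toEquiv, hcK]
  have hidx := Subgroup.index_mul_card ((zpowers x).subgroupOf M)
  rw [hPc] at hidx
  have hMd : Nat.card M ∣ 168 := h ▸ Subgroup.card_subgroup_dvd_card M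
  have hn : ((zpowers x).subgroupOf M).Normal := by
    obtain ⟨k, hk⟩ := h7
    rw [hk] at hidx hle hMd
    have hi : ((zpowers x).subgroupOf M).index = k := by nlinarith
    have hpos : 0 < Nat.card M := Nat.card_pos
    have hk3 : k = 1 ∨ k = 2 ∨ k = 3 := by omega
    rcases hk3 with rfl | rfl | rfl
    · rw [Subgroup.index_eq_one.1 hi]
      infer_instance
    · exact Subgroup.normal_of_index_eq_two hi
    · apply Subgroup.normal_of_index_eq_minFac_card
      rw [hi, hk]
      norm_num
  have hMle : M ≤ normalizer ((zpowers x : Subgroup G) : Set G) :=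
    Subgroup.le_normalizer_of_normal_subgroupOf hKM
  exact eq_of_coatom_le' hM hMle (normalizer_ne_top_of_card h (K := zpowers x) (by rw [hcK]; norm_num) (by rw [hcK]; norm_num))

/-- A four-group of exponent two in `G`. -/
theorem isKleinFour_of_exponent {V : Subgroup G} (hc : Nat.card V = 4) (hexp : ∀ y ∈ V, y * y = 1) : IsKleinFour V := by
  refine ⟨hc, ?_⟩
  have : Nontrivial V := by
    apply Finite.one_lt_card_iff_nontrivial.1
    omega
  rw [Monoid.exponent_eq_prime_iff Nat.prime_two]
  intro g hg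
  apply orderOf_eq_prime
  · rw [pow_two]
    apply Subtype.ext
    exact hexp g g.2
  · exact hg

theorem not_coatom_normal_four (h : Nat.card G = 168) {M : Subgroup G} (hM : IsCoatom M) {x : G} (hx : orderOf x = 3)
    (hxM : x ∈ M) (h12 : Nat.card M = 12) (K : Subgroup M) (hKn : K.Normal) (hKc : Nat.card K = 4) : False := by
  set V : Subgroup G := K.map M.subtype with hV
  have hVc : Nat.card V = 4 := by
    rw [← hKc]
    exact Nat.card_congr (Subgroup.equivMapOfInjective K _ M.subtype_injective).toEquiv.symm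
  have hVn : M ≤ normalizer (V : Set G) := by
    intro m hm
    apply mem_normalizer_of_forall
    rintro _ ⟨a, ha, rfl⟩
    refine ⟨⟨m, hm⟩ * a * ⟨m, hm⟩⁻¹, hKn.conj_mem a ha ⟨m, hm⟩, ?_⟩
    simp
  have hVp : ∀ z ∈ V, z ^ 4 = 1 := by
    intro z hz
    have : orderOf (⟨z, hz⟩ : V) ∣ 4 := by
      rw [← hVc]
      exact orderOf_dvd_natCard _
    have h4 := orderOf_dvd_iff_pow_eq_one.1 this
    exact congrArg Subtype.val h4
  have hxV : ∀ z ∈ V, x * z * x⁻¹ ∈ V := fun z hz =>
    (mem_normalizer_iff.1 (hVn hxM) z).1 hz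
  have hnc : ∀ z ∈ V, z ≠ 1 → x * z * x⁻¹ ≠ z := by
    intro z hz hz1 hxz
    have hcm : Commute x z := by
      show x * z = z * x
      have : x * z = (x * z * x⁻¹) * x := by group
      rw [this, hxz]
    have hcop : (orderOf x).Coprime (orderOf z) := by
      rw [hx]
      have : orderOf z ∣ 4 := orderOf_dvd_of_pow_eq_one (hVp z hz)
      exact Nat.Coprime.coprime_dvd_right this (by norm_num)
    have hx1 : x ≠ 1 := by
      rintro e1
      rw [e1, orderOf_one] at hx
      omega
    exact not_comm h hcm hcop hx1 hz1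
  have hexp : ∀ y ∈ V, y * y = 1 := by
    by_contra hcon
    push Not at hcon
    obtain ⟨y, hyV, hyy⟩ := hcon
    have hy4 : orderOf y = 4 := by
      have hd : orderOf y ∣ 4 := orderOf_dvd_of_pow_eq_one (hVp y hyV)
      have : orderOf y ∈ Nat.divisors 4 := by simp [hd]
      have h41 : Nat.divisors 4 = {1, 2, 4} := by decide
      rw [h41] at this
      simp only [Finset.mem_insert, Finset.mem_singleton] at this
      rcases this with e1 | e1 | e1
      · rw [orderOf_eq_one_iff] at e1
        rw [e1] at hyy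
        simp at hyy
      · have := pow_orderOf_eq_one y
        rw [e1, pow_two] at this
        exact absurd this hyy
      · exact e1
    have hVz : V = zpowers y := by
      symm
      apply Subgroup.eq_of_le_of_card_ge ((Subgroup.zpowers_le).2 hyV)
      rw [hVc, Nat.card_zpowers, hy4]
    have hyy' : y * y ∈ V := V.mul_mem hyV hyV
    apply hnc (y * y) hyy' hyy
    have hm := hxV _ hyy'
    rw [hVz] at hm
    obtain ⟨k, hk⟩ := hm
    have hk' : y ^ k = x * (y * y) * x⁻¹ := hk
    have hy2 : (x * (y * y) * x⁻¹) * (x * (y * y) * x⁻¹) = 1 := by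
      have : (x * (y * y) * x⁻¹) * (x * (y * y) * x⁻¹) = x * (y ^ 4) * x⁻¹ := by
        rw [show y ^ 4 = y * y * (y * y) by simp [pow_succ, mul_assoc]]
        simp [mul_assoc]
      rw [this, hVp y hyV]
      group
    have hne1 : x * (y * y) * x⁻¹ ≠ 1 := by
      intro e1
      apply hyy
      have : y * y = x⁻¹ * (x * (y * y) * x⁻¹) * x := by group
      rw [this, e1]; group
    rw [← hk'] at hy2 hne1 ⊢
    have h5 : y ^ (2 * k) = 1 := by
      rw [two_mul, zpow_add]
      exact hy2
    have h6 : ((orderOf y : ℕ) : ℤ) ∣ 2 * k := orderOf_dvd_iff_zpow_eq_one.2 h5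
    rw [hy4] at h6
    have h7 : ∃ j : ℤ, k = 2 * j := by
      obtain ⟨j, hj⟩ := h6
      exact ⟨j, by push_cast at hj; linarith⟩
    obtain ⟨j, rfl⟩ := h7
    have hy4' : y ^ (4 : ℤ) = 1 := by exact_mod_cast hVp y hyV
    rcases Int.even_or_odd' j with ⟨i, rfl | rfl⟩
    · exfalso
      apply hne1
      have : (2 * (2 * i) : ℤ) = 4 * i := by ring
      rw [this, zpow_mul, hy4', one_zpow]
    · have : (2 * (2 * i + 1) : ℤ) = 4 * i + 2 := by ring
      rw [this, zpow_add, zpow_mul, hy4', one_zpow, one_mul]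
      show y ^ (2 : ℤ) = y * y
      rw [show (2 : ℤ) = ((2 : ℕ) : ℤ) from rfl, zpow_natCast, pow_two]
  have hVK := isKleinFour_of_exponent hVc hexp
  have h1 := eq_of_coatom_le' hM hVn (normalizer_klein_ne_top h hVK)
  have h2 := card_normalizer_klein h V hVK
  rw [← h1, h12] at h2
  omega


/-- The normal four-subgroup of an order-twelve maximal subgroup does not exist: order `12` is impossible. -/
theorem not_coatom_twelve (h : Nat.card G = 168) {M : Subgroup G} (hM : IsCoatom M) (h12 : Nat.card M = 12) : False := by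
  obtain ⟨y, hy⟩ := exists_prime_orderOf_dvd_card' (G := M) 3 (by rw [h12]; norm_num)
  set x : G := (y : G) with hxdef
  have hx : orderOf x = 3 := by rw [hxdef, Subgroup.orderOf_coe]; exact hy
  have hxM : x ∈ M := y.2
  have hKM : zpowers x ≤ M := (Subgroup.zpowers_le).2 hxM
  have hcK : Nat.card (zpowers x) = 3 := by rw [Nat.card_zpowers, hx]
  have hPc : Nat.card ((zpowers x).subgroupOf M) = 3 := by
    rw [Nat.card_congr (Subgroup.subgroupOfEquivOfLe hKM).toEquiv, hcK]
  let P : Sylow 3 M := Sylow.ofCard ((zpowers x).subgroupOf M) (by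
    rw [hPc, h12]
    have : (12 : ℕ) = 3 ^ 1 * 4 := by norm_num
    rw [this, Nat.factorization_mul (by norm_num) (by norm_num), Nat.Prime.factorization_pow (by norm_num)]
    have h0 : (4 : ℕ).factorization 3 = 0 := Nat.factorization_eq_zero_of_not_dvd (by norm_num)
    simp [h0])
  have hPdef : (P : Subgroup M) = (zpowers x).subgroupOf M := rfl
  have hidx : Nat.card (Sylow 3 M) = (normalizer ((P : Subgroup M) : Set M)).index := P.card_eq_index_normalizer
  have hmod : Nat.card (Sylow 3 M) ≡ 1 [MOD 3] := card_sylow_modEq_one 3 M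
  have hmul := Subgroup.card_mul_index (normalizer ((P : Subgroup M) : Set M))
  rw [h12, ← hidx] at hmul
  have hPle : (P : Subgroup M) ≤ normalizer ((P : Subgroup M) : Set M) := Subgroup.le_normalizer
  have h3dvd : 3 ∣ Nat.card (normalizer ((P : Subgroup M) : Set M)) := by
    have := Subgroup.card_dvd_of_le hPle
    rwa [hPdef, hPc] at this
  obtain ⟨k, hk⟩ := h3dvd
  rw [hk] at hmul
  have hs : k * Nat.card (Sylow 3 M) = 4 := by nlinarith
  have hsd : Nat.card (Sylow 3 M) ∣ 4 := ⟨k, by rw [mul_comm]; exact hs.symm⟩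
  have hsv : Nat.card (Sylow 3 M) ∈ Nat.divisors 4 := by simp [hsd]
  have : Nat.divisors 4 = {1, 2, 4} := by decide
  rw [this] at hsv
  simp only [Finset.mem_insert, Finset.mem_singleton] at hsv
  rcases hsv with e | e | e
  · -- normal
    rw [hidx] at e
    have htop := Subgroup.index_eq_one.1 e
    have hn : (P : Subgroup M).Normal := Subgroup.normalizer_eq_top_iff.1 htop
    rw [hPdef] at hn
    exact not_coatom_normal_three h hM hx (Subgroup.le_normalizer_of_normal_subgroupOf hKM)
  · rw [e] at hmod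
    exact absurd hmod (by decide)
  · -- Burnside
    rw [e] at hs
    have hk1 : k = 1 := by omega
    subst hk1
    have hNP : normalizer ((P : Subgroup M) : Set M) = P := by
      symm
      apply Subgroup.eq_of_le_of_card_ge hPle
      rw [hk, hPdef, hPc]
    have hcomm : normalizer ((P : Subgroup M) : Set M) ≤ centralizer ((P : Subgroup M) : Set M) := by
      rw [hNP]
      have hab : IsMulCommutative (P : Subgroup M) := by
        have : IsCyclic (P : Subgroup M) := isCyclic_of_prime_card (p := 3) (by rw [hPdef, hPc])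
        exact IsCyclic.isMulCommutative
      intro a ha
      rw [Subgroup.mem_centralizer_iff]
      intro b hb
      have := mul_comm' (⟨a, ha⟩ : (P : Subgroup M)) ⟨b, hb⟩
      exact (congrArg Subtype.val this).symm
    have hc := MonoidHom.ker_transferSylow_isComplement' P hcomm
    have hKc : Nat.card (MonoidHom.transferSylow P hcomm).ker = 4 := by
      have := hc.card_mul
      have e1 : Nat.card (P : Subgroup M) = 3 := hPc
      rw [e1, h12] at this
      omega
    have hKn : (MonoidHom.transferSylow P hcomm).ker.Normal := MonoidHom.normal_ker _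
    exact not_coatom_normal_four h hM hx hxM h12 _ hKn hKc

/-- A maximal subgroup with an order-three normal subgroup: orders `3`, `6`. -/
theorem not_coatom_small_three (h : Nat.card G = 168) {M : Subgroup G} (hM : IsCoatom M)
    (hd : Nat.card M = 3 ∨ Nat.card M = 6) : False := by
  obtain ⟨y, hy⟩ := exists_prime_orderOf_dvd_card' (G := M) 3 (by rcases hd with e | e <;> rw [e] <;> norm_num)
  set x : G := (y : G) with hxdef
  have hx : orderOf x = 3 := by rw [hxdef, Subgroup.orderOf_coe]; exact hy
  have hxM : x ∈ M := y.2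
  have hKM : zpowers x ≤ M := (Subgroup.zpowers_le).2 hxM
  have hcK : Nat.card (zpowers x) = 3 := by rw [Nat.card_zpowers, hx]
  have hPc : Nat.card ((zpowers x).subgroupOf M) = 3 := by
    rw [Nat.card_congr (Subgroup.subgroupOfEquivOfLe hKM).toEquiv, hcK]
  have hidx := Subgroup.index_mul_card ((zpowers x).subgroupOf M)
  rw [hPc] at hidx
  have hn : ((zpowers x).subgroupOf M).Normal := by
    rcases hd with e | e
    · rw [e] at hidx
      rw [Subgroup.index_eq_one.1 (by omega : ((zpowers x).subgroupOf M).index = 1)]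
      infer_instance
    · rw [e] at hidx
      exact Subgroup.normal_of_index_eq_two (by omega)
  exact not_coatom_normal_three h hM hx (Subgroup.le_normalizer_of_normal_subgroupOf hKM)

theorem perm4_normal : ∀ g x : Equiv.Perm (Fin 4),
    (x = 1 ∨ x = Equiv.swap 0 1 * Equiv.swap 2 3 ∨ x = Equiv.swap 0 2 * Equiv.swap 1 3 ∨ x = Equiv.swap 0 3 * Equiv.swap 1 2) →
    (g * x * g⁻¹ = 1 ∨ g * x * g⁻¹ = Equiv.swap 0 1 * Equiv.swap 2 3 ∨ g * x * g⁻¹ = Equiv.swap 0 2 * Equiv.swap 1 3 ∨
      g * x * g⁻¹ = Equiv.swap 0 3 * Equiv.swap 1 2) := by decide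

theorem perm4_pp : IsPP (Equiv.swap 0 1 * Equiv.swap 2 3 : Equiv.Perm (Fin 4)) (Equiv.swap 0 2 * Equiv.swap 1 3) :=
  ⟨by decide, by decide, by decide, by decide, by decide, by decide⟩

/-- A subgroup isomorphic to `S₄` normalizes a four-group. -/
theorem exists_klein_of_s4 {M : Subgroup G} (e : M ≃* Equiv.Perm (Fin 4)) :
    ∃ V : Subgroup G, IsKleinFour V ∧ M ≤ normalizer (V : Set G) := by
  let ρ : Equiv.Perm (Fin 4) →* G := M.subtype.comp e.symm.toMonoidHom
  have hρ : Function.Injective ρ := M.subtype_injective.comp e.symm.injective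
  have p1 := IsPP.map' ρ hρ perm4_pp
  refine ⟨fourOf _ _ p1, isKleinFour_fourOf p1, ?_⟩
  intro m hm
  apply mem_normalizer_of_forall
  have hmρ : (m : G) = ρ (e ⟨m, hm⟩) := by simp [ρ]
  have key : ∀ z : Equiv.Perm (Fin 4),
      (z = 1 ∨ z = Equiv.swap 0 1 * Equiv.swap 2 3 ∨ z = Equiv.swap 0 2 * Equiv.swap 1 3 ∨ z = Equiv.swap 0 3 * Equiv.swap 1 2) →
      ρ z ∈ fourOf _ _ p1 := by
    rintro z (rfl | rfl | rfl | rfl)
    · rw [map_one]; exact one_mem _
    · exact left_mem p1
    · exact right_mem p1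
    · have h4 : ρ (Equiv.swap 0 3 * Equiv.swap 1 2) = ρ (Equiv.swap 0 1 * Equiv.swap 2 3) * ρ (Equiv.swap 0 2 * Equiv.swap 1 3) := by
        rw [← map_mul]
        exact congrArg ρ (by decide)
      rw [h4]
      exact mem_fourOf.2 (Or.inr (Or.inr (Or.inr rfl)))
  have hconj : ∀ z : Equiv.Perm (Fin 4),
      (z = 1 ∨ z = Equiv.swap 0 1 * Equiv.swap 2 3 ∨ z = Equiv.swap 0 2 * Equiv.swap 1 3 ∨ z = Equiv.swap 0 3 * Equiv.swap 1 2) →
      m * ρ z * m⁻¹ ∈ fourOf _ _ p1 := by
    intro z hz
    rw [hmρ, ← map_inv, ← map_mul, ← map_mul]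
    exact key _ (perm4_normal _ _ hz)
  rintro n (rfl | rfl | rfl | rfl)
  · rw [mul_one, mul_inv_cancel]; exact one_mem _
  · exact hconj _ (Or.inr (Or.inl rfl))
  · exact hconj _ (Or.inr (Or.inr (Or.inl rfl)))
  · rw [← map_mul]
    apply hconj
    right; right; right
    decide

/-- The maximal subgroups of a simple group of order `168`. -/
theorem coatom_cases (h : Nat.card G = 168) {M : Subgroup G} (hM : IsCoatom M) :
    (∃ V : Subgroup G, IsKleinFour V ∧ M = normalizer (V : Set G)) ∨
    (∃ P : Sylow 7 G, M = normalizer ((P : Subgroup G) : Set G)) := by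
  have hidx : 6 < M.index := lt_index (n := 6) (by rw [h]; decide) M hM.1
  have hmul := Subgroup.card_mul_index M
  rw [h] at hmul
  have hMd : Nat.card M ∣ 168 := ⟨_, hmul.symm⟩
  have hle : Nat.card M ≤ 24 := by
    by_contra hgt
    push Not at hgt
    nlinarith
  by_cases h7 : 7 ∣ Nat.card M
  · right
    exact coatom_of_seven h hM h7 hle
  · left
    have hv : Nat.card M ∈ Nat.divisors 168 := by simp [hMd]
    have hs : Nat.divisors 168 = {1, 2, 3, 4, 6, 7, 8, 12, 14, 21, 24, 28, 42, 56, 84, 168} := by decide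
    rw [hs] at hv
    simp only [Finset.mem_insert, Finset.mem_singleton] at hv
    have two : ∀ k, Nat.card M = 2 ^ k → False := fun k hk =>
      not_coatom_two_group h hM (IsPGroup.iff_card.2 ⟨k, hk⟩)
    rcases hv with e | e | e | e | e | e | e | e | e | e | e | e | e | e | e | e
    · exact (two 0 e).elim
    · exact (two 1 e).elim
    · exact (not_coatom_small_three h hM (Or.inl e)).elim
    · exact (two 2 e).elim
    · exact (not_coatom_small_three h hM (Or.inr e)).elim
    · exact absurd (by rw [e]) h7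
    · exact (two 3 e).elim
    · exact (not_coatom_twelve h hM e).elim
    · exact absurd (by rw [e]; norm_num) h7
    · exact absurd (by rw [e]; norm_num) h7
    · have hS4 : ∀ g : M, orderOf g ≠ 6 := by
        intro g
        rw [← Subgroup.orderOf_coe]
        rcases orders h (g : G) with e | e | e | e | e <;> rw [e] <;> norm_num
      obtain ⟨e'⟩ := Cfsg.Agent.S1012.result e hS4
      obtain ⟨V, hV, hMV⟩ := exists_klein_of_s4 e'
      exact ⟨V, hV, eq_of_coatom_le' hM hMV (normalizer_klein_ne_top h hV)⟩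
    all_goals omega

/-- A four-group is determined by its normalizer. -/
theorem klein_eq_of_normalizer_eq (h : Nat.card G = 168) {V W : Subgroup G} (hV : IsKleinFour V) (hW : IsKleinFour W)
    (hVW : normalizer (V : Set G) = normalizer (W : Set G)) : V = W := by
  by_contra hne
  have hpV : IsPGroup 2 V := IsPGroup.iff_card.2 ⟨2, by rw [hV.card_four]; norm_num⟩
  have hpW : IsPGroup 2 W := IsPGroup.iff_card.2 ⟨2, by rw [hW.card_four]; norm_num⟩
  have hWN : W ≤ normalizer (W : Set G) := Subgroup.le_normalizer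
  have hVN : V ≤ normalizer (V : Set G) := Subgroup.le_normalizer
  have hsup : IsPGroup 2 (V ⊔ W : Subgroup G) := hpV.to_sup_of_normal_right' hpW (hVN.trans hVW.le)
  obtain ⟨k, hk⟩ := IsPGroup.iff_card.1 hsup
  have hsupN : (V ⊔ W : Subgroup G) ≤ normalizer (V : Set G) := sup_le hVN (hWN.trans hVW.ge)
  have hd := Subgroup.card_dvd_of_le hsupN
  rw [card_normalizer_klein h V hV, hk] at hd
  have hVlt : V ≠ V ⊔ W := by
    intro e
    apply hne
    have hWV : W ≤ V := by
      calc W ≤ V ⊔ W := le_sup_right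
        _ = V := e.symm
    symm
    apply Subgroup.eq_of_le_of_card_ge hWV
    rw [hV.card_four, hW.card_four]
  have hd4 := Subgroup.card_dvd_of_le (le_sup_left : V ≤ V ⊔ W)
  rw [hV.card_four, hk] at hd4
  have hk3 : k = 3 := by
    have hk2 : 2 ≤ k := by
      by_contra hlt
      push Not at hlt
      have : 2 ^ k ≤ 2 ^ 1 := Nat.pow_le_pow_right (by norm_num) (by omega)
      have := Nat.le_of_dvd (by positivity) hd4
      omega
    have hk4 : k ≤ 3 := by
      by_contra hlt
      push Not at hlt
      have : 2 ^ 4 ∣ 2 ^ k := pow_dvd_pow 2 hlt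
      have := this.trans hd
      omega
    have hne2 : k ≠ 2 := by
      rintro rfl
      apply hVlt
      apply Subgroup.eq_of_le_of_card_ge le_sup_left
      rw [hV.card_four, hk]
      norm_num
    omega
  subst hk3
  obtain ⟨x, hx, hx3⟩ := exists_three_normalizing h V hV
  refine no_three_normalizing h (V ⊔ W) (by rw [hk]; norm_num) x hx3 ?_
  have hxW : x ∈ normalizer (W : Set G) := hVW ▸ hx
  apply mem_normalizer_of_forall
  have : V ⊔ W ≤ (V ⊔ W).comap (MulAut.conj x).toMonoidHom := by
    apply sup_le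
    · intro v hv
      have : x * v * x⁻¹ ∈ V := (mem_normalizer_iff.1 hx v).1 hv
      exact (le_sup_left : V ≤ V ⊔ W) this
    · intro v hv
      have : x * v * x⁻¹ ∈ W := (mem_normalizer_iff.1 hxW v).1 hv
      exact (le_sup_right : W ≤ V ⊔ W) this
  intro n hn
  exact this hn

theorem isCoatom_normalizer_klein (h : Nat.card G = 168) {U : Subgroup G} (hU : IsKleinFour U) :
    IsCoatom (normalizer (U : Set G)) := by
  apply isCoatom_of_index_prime (p := 7) (by norm_num)
  have := Subgroup.card_mul_index (normalizer (U : Set G))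
  rw [card_normalizer_klein h U hU, h] at this
  omega

end Main

end Cfsg.Agent.Lib.PSL2.Order168
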