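import Cfsg.Agent.Lib.PSL2.Icosian
import Cfsg.Agent.Lib.PSL2.KleinAut
import Cfsg.Agent.Lib.PSL2.TraceOrder
import Cfsg.Agent.Lib.PSL2.Order168b

/-!
# Fields of definition from traces

A pair `(A, B)` of anticommuting trace-zero elements of `SL(2, F)` gives coordinates on `M₂(F)`.
An element of `SL(2, F)` whose product with `1, A, B, AB` has traces in a subfield (up to a common
scalar) has entries in the subfield (up to this scalar).
-/

set_option autoImplicit false
set_option linter.unusedSectionVars false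
set_option linter.unusedSimpArgs false
set_option linter.unusedVariables false
set_option linter.style.haveILetI false

namespace Cfsg.Agent.Lib.PSL2.MaxOdd

open Matrix Matrix.SpecialLinearGroup Subgroup
open scoped MatrixGroups Quaternion
open Cfsg.Agent.Lib.PSL2.Basic Cfsg.Agent.Lib.PSL2.Conj Cfsg.Agent.Lib.PSL2.Members
open Cfsg.Agent.Lib.PSL2.FourGroup Cfsg.Agent.Lib.PSL2.KleinPairs Cfsg.Agent.Lib.PSL2.Icosian
open Cfsg.Agent.Lib.PSL2.A5Gen Cfsg.Agent.Lib.PSL2.FieldEmbed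
open Cfsg.Agent.Lib.PSL2.DicksonCor Cfsg.Agent.Lib.PSL2.Overgroups

section Coord

variable {F : Type*} [Field F] [Fintype F]

lemma Phi_surjective (h2 : (2 : F) ≠ 0) {A B : SL(2, F)} (h : IsQ A B) :
    Function.Surjective (Phi h) := by
  have hinj : Function.Injective (Phi h) := fun p q e => Phi_injective h2 h e
  have hb := Function.Injective.bijective_of_nat_card_le hinj (by
    have h1 : Nat.card (Matrix (Fin 2) (Fin 2) F) = Fintype.card F ^ 4 := by
      have h0 : Nat.card (Matrix (Fin 2) (Fin 2) F) = Nat.card (Fin 2 → Fin 2 → F) := rfl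
      rw [h0, Nat.card_eq_fintype_card, Fintype.card_fun, Fintype.card_fun]
      simp
      ring
    have h2' : Nat.card ℍ[F] = Fintype.card F ^ 4 := by
      rw [Nat.card_congr (Quaternion.equivProd F)]
      simp only [Nat.card_eq_fintype_card, Fintype.card_prod]
      ring
    rw [h1, h2'])
  exact hb.2

/-- The coordinates of a matrix. -/
theorem coords (h2 : (2 : F) ≠ 0) {A B : SL(2, F)} (h : IsQ A B) (X : Matrix (Fin 2) (Fin 2) F) :
    2 • X = (Matrix.trace X) • (1 : Matrix (Fin 2) (Fin 2) F) - (Matrix.trace (X * A.1)) • A.1 -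
      (Matrix.trace (X * B.1)) • B.1 - (Matrix.trace (X * (A * B).1)) • (A * B).1 := by
  obtain ⟨q, rfl⟩ := Phi_surjective h2 h X
  have hi : Phi h (Q 0 1 0 0) = A.1 := by rw [Phi_val]; simp
  have hj : Phi h (Q 0 0 1 0) = B.1 := by rw [Phi_val]; simp
  have hk : Phi h (Q 0 0 0 1) = (A * B).1 := by rw [Phi_val]; simp
  have e0 := tr_Phi h2 h q
  have e1 := tr_Phi h2 h (q * Q 0 1 0 0)
  have e2 := tr_Phi h2 h (q * Q 0 0 1 0)
  have e3 := tr_Phi h2 h (q * Q 0 0 0 1)
  rw [Phi_mul, hi] at e1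
  rw [Phi_mul, hj] at e2
  rw [Phi_mul, hk] at e3
  rw [e0, e1, e2, e3]
  simp only [Quaternion.re_mul, Q_re, Q_imI, Q_imJ, Q_imK, mul_zero, mul_one, sub_zero, zero_sub]
  rw [Phi_val]
  ext i j
  simp
  ring

end Coord

section Form

variable {K F : Type*} [Field K] [Fintype K] [Field F] [Fintype F] (ι : K →+* F)

lemma tr_mapι (M : SL(2, K)) : tr (mapι ι M) = ι (tr M) := by
  simp [tr]

lemma IsQ.mapι' {A B : SL(2, K)} (h : IsQ A B) : IsQ (mapι ι A) (mapι ι B) := by
  refine ⟨by rw [tr_mapι, h.tra, map_zero], by rw [tr_mapι, h.trb, map_zero], ?_⟩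
  rw [← map_mul, h.anti, ← map_mul]
  apply Subtype.ext
  ext i j
  show ι ((-(B * A)).1 i j) = -(ι ((B * A).1 i j))
  have e : (-(B * A)).1 i j = -((B * A).1 i j) := rfl
  rw [e, map_neg]

/-- Matrices with traces in a subfield, up to a scalar. -/
theorem exists_form (h2 : (2 : K) ≠ 0) {A₀ B₀ : SL(2, K)} (h₀ : IsQ A₀ B₀) (X : Matrix (Fin 2) (Fin 2) F) (r : F)
    (s₀ s₁ s₂ s₃ : K) (h0 : Matrix.trace X = r * ι s₀) (h1 : Matrix.trace (X * (mapι ι A₀).1) = r * ι s₁)
    (h2' : Matrix.trace (X * (mapι ι B₀).1) = r * ι s₂)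
    (h3 : Matrix.trace (X * (mapι ι (A₀ * B₀)).1) = r * ι s₃) :
    X = r • (((2 : K)⁻¹ • (s₀ • (1 : Matrix (Fin 2) (Fin 2) K) - s₁ • A₀.1 - s₂ • B₀.1 - s₃ • (A₀ * B₀).1)).map ι) := by
  have h2F : (2 : F) ≠ 0 := by
    intro e
    apply h2
    apply ι.injective
    rw [map_ofNat, e, map_zero]
  have hq := IsQ.mapι' ι h₀
  have hc := coords h2F hq X
  rw [← map_mul, h0, h1, h2', h3] at hc
  have hinv : ι (2 : K)⁻¹ * 2 = 1 := by
    rw [map_inv₀, map_ofNat]
    exact inv_mul_cancel₀ h2F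
  ext i j
  have hij := congrFun (congrFun hc i) j
  simp only [Matrix.smul_apply, Matrix.add_apply, Matrix.sub_apply, Matrix.one_apply, smul_eq_mul,
    nsmul_eq_mul, Nat.cast_ofNat] at hij
  simp only [Matrix.smul_apply, Matrix.sub_apply, Matrix.map_apply, smul_eq_mul, map_mul, map_sub, Matrix.one_apply]
  have e1 : ∀ i j, (mapι ι A₀).1 i j = ι (A₀.1 i j) := fun _ _ => rfl
  have e2 : ∀ i j, (mapι ι B₀).1 i j = ι (B₀.1 i j) := fun _ _ => rfl
  have e3 : ∀ i j, (mapι ι (A₀ * B₀)).1 i j = ι ((A₀ * B₀).1 i j) := fun _ _ => rfl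
  rw [e1, e2, e3] at hij
  have hone : ι (if i = j then 1 else 0) = if i = j then (1 : F) else 0 := by
    split_ifs <;> simp
  rw [hone]
  linear_combination (ι (2 : K)⁻¹) * hij - X i j * hinv

/-- Membership in the standard copy. -/
theorem mem_stdPsl_of_traces (h2 : (2 : K) ≠ 0) {A₀ B₀ : SL(2, K)} (h₀ : IsQ A₀ B₀) (X : SL(2, F))
    (s₀ s₁ s₂ s₃ : K) (h0 : tr X = ι s₀) (h1 : tr (X * mapι ι A₀) = ι s₁)
    (h2' : tr (X * mapι ι B₀) = ι s₂) (h3 : tr (X * mapι ι (A₀ * B₀)) = ι s₃) :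
    mkP X ∈ stdPsl ι := by
  have key := exists_form ι h2 h₀ X.1 1 s₀ s₁ s₂ s₃ (by rw [one_mul, ← tr_eq_trace, h0])
    (by rw [one_mul]; exact (tr_eq_trace _).symm.trans h1) (by rw [one_mul]; exact (tr_eq_trace _).symm.trans h2')
    (by rw [one_mul]; exact (tr_eq_trace _).symm.trans h3)
  rw [one_smul] at key
  set Y := (2 : K)⁻¹ • (s₀ • (1 : Matrix (Fin 2) (Fin 2) K) - s₁ • A₀.1 - s₂ • B₀.1 - s₃ • (A₀ * B₀).1) with hY
  have hdet : Y.det = 1 := by
    apply ι.injective
    rw [map_one, RingHom.map_det]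
    have : (ι.mapMatrix Y) = X.1 := key.symm
    rw [this]
    exact X.2
  let Z : SL(2, K) := ⟨Y, hdet⟩
  refine ⟨mkP Z, ?_⟩
  rw [pslMap_mk]
  congr 1
  apply Subtype.ext
  exact key.symm

end Form

section Aut

variable {F : Type*} [Field F] [Fintype F]

open Cfsg.Agent.Lib.PSL2.KleinAut Cfsg.Agent.Lib.PSL2.AutPSL

/-- The automorphism of `PSL(2, F)` attached to an element of `GL(2, F)`. -/
theorem exists_aut (G : GL (Fin 2) F) : ∃ Φ : MulAut (PSL(2, F)), ∀ M, Φ (mkP M) = mkP (cj G M) := by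
  set c : Fˣ := Matrix.GeneralLinearGroup.det G with hc
  let H : GL (Fin 2) F := G * (diagU c)⁻¹
  have hdiag : Matrix.GeneralLinearGroup.det (diagU c) = c := by
    apply Units.ext
    show Matrix.det (diagU c).val = (c : F)
    rw [diagU_val, det_fin_two_of]
    simp
  have hdet : Matrix.GeneralLinearGroup.det H = 1 := by
    show Matrix.GeneralLinearGroup.det (G * (diagU c)⁻¹) = 1
    rw [map_mul, map_inv, hdiag, ← hc, mul_inv_cancel]
  have hdet' : H.val.det = 1 := by
    have := congrArg Units.val hdet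
    simpa using this
  let K : SL(2, F) := ⟨H.val, hdet'⟩
  have hK : K.toGL = H := by
    apply Units.ext
    rfl
  have hG : K.toGL * diagU c = G := by
    rw [hK]
    show G * (diagU c)⁻¹ * diagU c = G
    group
  refine ⟨MulAut.conj (mkP K) * dbar c, fun M => ?_⟩
  rw [std_apply, hG]

/-- All pairs are conjugate under automorphisms. -/
theorem exists_aut_pair (h2 : (2 : F) ≠ 0) {a b : PSL(2, F)} (h : IsPP a b) {A₀ B₀ : SL(2, F)} (hq : IsQ A₀ B₀) :
    ∃ Φ : MulAut (PSL(2, F)), Φ a = mkP A₀ ∧ Φ b = mkP B₀ := by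
  obtain ⟨A, rfl⟩ := mkP_surjective a
  obtain ⟨B, rfl⟩ := mkP_surjective b
  have h1 := isQ_of_isPP h2 h
  obtain ⟨G, hG1, hG2⟩ := exists_gl h2 h1 hq
  obtain ⟨Φ, hΦ⟩ := exists_aut G
  exact ⟨Φ, by rw [hΦ, hG1], by rw [hΦ, hG2]⟩

end Aut

section Traces

variable {K F : Type*} [Field K] [Fintype K] [Field F] [Fintype F] (ι : K →+* F)

open Cfsg.Agent.Lib.PSL2.TraceOrder

/-- A subgroup containing a pair over `K`, with all traces in `K`, lies in the copy of `PSL(2, K)`. -/
theorem le_stdPsl_of_traces (h2 : (2 : K) ≠ 0) {A₀ B₀ : SL(2, K)} (h₀ : IsQ A₀ B₀) {M : Subgroup PSL(2, F)}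
    (hA : mkP (mapι ι A₀) ∈ M) (hB : mkP (mapι ι B₀) ∈ M) (htr : ∀ X, mkP X ∈ M → ∃ s, tr X = ι s) :
    M ≤ stdPsl ι := by
  intro z hz
  obtain ⟨X, rfl⟩ := mkP_surjective z
  obtain ⟨s₀, h0⟩ := htr X hz
  obtain ⟨s₁, h1⟩ := htr (X * mapι ι A₀) (by rw [map_mul]; exact M.mul_mem hz hA)
  obtain ⟨s₂, h2'⟩ := htr (X * mapι ι B₀) (by rw [map_mul]; exact M.mul_mem hz hB)
  obtain ⟨s₃, h3⟩ := htr (X * mapι ι (A₀ * B₀)) (by
    rw [map_mul, map_mul, map_mul]
    exact M.mul_mem hz (M.mul_mem hA hB))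
  exact mem_stdPsl_of_traces ι h2 h₀ X s₀ s₁ s₂ s₃ h0 h1 h2' h3

lemma tr_zero_mem : ∃ s, (0 : F) = ι s := ⟨0, (map_zero ι).symm⟩
lemma tr_one_mem : ∃ s, (1 : F) = ι s := ⟨1, (map_one ι).symm⟩
lemma tr_two_mem : ∃ s, (2 : F) = ι s := ⟨2, (map_ofNat ι 2).symm⟩
lemma tr_neg_mem {t : F} (h : ∃ s, t = ι s) : ∃ s, -t = ι s := by
  obtain ⟨s, rfl⟩ := h
  exact ⟨-s, (map_neg ι s).symm⟩

/-- Traces of elements of order at most three. -/
theorem tr_mem_of_small {X : SL(2, F)} (h : mkP X ^ 2 = 1 ∨ mkP X ^ 3 = 1) : ∃ s, tr X = ι s := by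
  have h1 : mkP X = 1 → ∃ s, tr X = ι s := by
    intro e
    rcases tr_of_mkP_eq_one e with e' | e'
    · rw [e']; exact tr_two_mem ι
    · rw [e']; exact tr_neg_mem ι (tr_two_mem ι)
  rcases h with h | h
  · rcases tr_of_sq h with e | e
    · exact h1 e
    · rw [e]; exact tr_zero_mem ι
  · rcases tr_of_cube h with e | e
    · exact h1 e
    · have e2 : (tr X - 1) * (tr X + 1) = 0 := by linear_combination e
      rcases mul_eq_zero.1 e2 with e3 | e3
      · rw [sub_eq_zero.1 e3]; exact tr_one_mem ι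
      · rw [eq_neg_of_add_eq_zero_left e3]; exact tr_neg_mem ι (tr_one_mem ι)

/-- Traces of elements of order four. -/
theorem tr_four_sq {X : SL(2, F)} (h : mkP X ^ 4 = 1) : mkP X = 1 ∨ tr X = 0 ∨ tr X * tr X = 2 := by
  by_cases h1 : mkP X ^ 2 = 1
  · rcases tr_of_sq h1 with e | e
    · exact Or.inl e
    · exact Or.inr (Or.inl e)
  · right; right
    have h2 : mkP (X ^ 2) ^ 2 = 1 := by
      rw [map_pow, ← pow_mul]
      exact h
    rcases tr_of_sq h2 with e | e
    · exact absurd (by rw [← map_pow]; exact e) h1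
    · have h3 : tr (X ^ 2) = tr X * tr X - 2 := by
        have hdet := det_entries X
        rw [pow_two, tr_def, tr_def]
        simp only [mul_00, mul_11]
        linear_combination (-2 : F) * hdet
      rw [h3] at e
      linear_combination e

/-- Traces of elements of order five. -/
theorem tr_mem_of_five {X : SL(2, F)} {φ : K} (hφ : φ * φ = φ + 1) (h : mkP X ^ 5 = 1) : ∃ s, tr X = ι s := by
  rcases tr_of_five h with e | e
  · rcases tr_of_mkP_eq_one e with e' | e'
    · rw [e']; exact tr_two_mem ι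
    · rw [e']; exact tr_neg_mem ι (tr_two_mem ι)
  · have hφ' : ι φ * ι φ = ι φ + 1 := by rw [← map_mul, hφ, map_add, map_one]
    set f := ι φ with hf
    set τ := tr X
    have key : (τ - f) * (τ + f - 1) * ((τ + f) * (τ - f + 1)) = 0 := by
      linear_combination e + (-2 * (τ ^ 2 - 1) + (f * f - f - 1)) * hφ'
    rcases mul_eq_zero.1 key with k1 | k1
    · rcases mul_eq_zero.1 k1 with k2 | k2
      · exact ⟨φ, by linear_combination k2⟩
      · exact ⟨1 - φ, by rw [map_sub, map_one]; linear_combination k2⟩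
    · rcases mul_eq_zero.1 k1 with k2 | k2
      · exact ⟨-φ, by rw [map_neg]; linear_combination k2⟩
      · exact ⟨φ - 1, by rw [map_sub, map_one]; linear_combination k2⟩

/-- Traces of elements of order four, when `2` has a square root in `K`. -/
theorem tr_mem_of_four {X : SL(2, F)} {r : K} (hr : r * r = 2) (h : mkP X ^ 4 = 1) : ∃ s, tr X = ι s := by
  rcases tr_four_sq h with e | e | e
  · rcases tr_of_mkP_eq_one e with e' | e'
    · rw [e']; exact tr_two_mem ι
    · rw [e']; exact tr_neg_mem ι (tr_two_mem ι)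
  · rw [e]; exact tr_zero_mem ι
  · have hr' : ι r * ι r = 2 := by rw [← map_mul, hr, map_ofNat]
    have key : (tr X - ι r) * (tr X + ι r) = 0 := by linear_combination e - hr'
    rcases mul_eq_zero.1 key with k | k
    · exact ⟨r, sub_eq_zero.1 k⟩
    · exact ⟨-r, by rw [map_neg]; exact eq_neg_of_add_eq_zero_left k⟩

end Traces

section PglForm

variable {K F : Type*} [Field K] [Fintype K] [Field F] [Fintype F] (ι : K →+* F)

/-- The embedding of `PGL(2, K)`, with its image described. -/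
theorem exists_pgl_embed' (hr : ∀ c : K, c ≠ 0 → ∃ r : F, r ≠ 0 ∧ r * r = ι c) :
    ∃ f : Matrix.ProjGenLinGroup (Fin 2) K →* PSL(2, F), Function.Injective f ∧
      ∀ (X : SL(2, F)) (r : F) (Y : Matrix (Fin 2) (Fin 2) K), X.1 = r • Y.map ι → mkP X ∈ f.range := by
  classical
  choose rt' hrt0' hrt1' using hr
  let rt : Kˣ → F := fun c => rt' c c.ne_zero
  have hrt0 : ∀ c, rt c ≠ 0 := fun c => hrt0' c c.ne_zero
  have hrt1 : ∀ c : Kˣ, rt c * rt c = ι (c : K) := fun c => hrt1' c c.ne_zero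
  let f : Matrix.ProjGenLinGroup (Fin 2) K →* PSL(2, F) :=
    QuotientGroup.lift (Subgroup.center (GL (Fin 2) K)) (glHom rt hrt0 hrt1) (by
      intro z hz
      exact glHom_of_center rt hrt0 hrt1 hz)
  refine ⟨f, ?_, ?_⟩
  · rw [injective_iff_map_eq_one]
    intro a ha
    obtain ⟨M, rfl⟩ := Matrix.ProjGenLinGroup.mk_surjective a
    have h1 : glHom rt hrt0 hrt1 M = 1 := ha
    exact Matrix.ProjGenLinGroup.mk_eq_one.2 (scalar_of_glHom rt hrt0 hrt1 h1)
  · intro X r Y hXY
    have hdetX := det_entries X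
    have e00 : X.1 0 0 = r * ι (Y 0 0) := by rw [hXY]; rfl
    have e01 : X.1 0 1 = r * ι (Y 0 1) := by rw [hXY]; rfl
    have e10 : X.1 1 0 = r * ι (Y 1 0) := by rw [hXY]; rfl
    have e11 : X.1 1 1 = r * ι (Y 1 1) := by rw [hXY]; rfl
    rw [e00, e01, e10, e11] at hdetX
    have hdetY : Y.det ≠ 0 := by
      intro h0
      rw [Matrix.det_fin_two] at h0
      have h1 : ι (Y 0 0) * ι (Y 1 1) - ι (Y 0 1) * ι (Y 1 0) = 0 := by
        rw [← map_mul, ← map_mul, ← map_sub, h0, map_zero]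
      have : (1 : F) = 0 := by
        rw [← hdetX]
        linear_combination (r * r) * h1
      exact one_ne_zero this
    let G : GL (Fin 2) K := Matrix.GeneralLinearGroup.mkOfDetNeZero Y hdetY
    have hG : ∀ i j, G.1 i j = Y i j := fun _ _ => rfl
    set s := rt (Matrix.GeneralLinearGroup.det G) with hs
    have hs0 : s ≠ 0 := hrt0 _
    have hs1 : s * s = ι (Y 0 0) * ι (Y 1 1) - ι (Y 0 1) * ι (Y 1 0) := by
      rw [hs, hrt1, val_det_gl, hG, hG, hG, hG, map_sub, map_mul, map_mul]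
    have hrs : (r * s - 1) * (r * s + 1) = 0 := by
      linear_combination (r * r) * hs1 + hdetX
    have key : ∀ i j, (Rt rt hrt0 hrt1 G).1 i j = s⁻¹ * ι (Y i j) := fun i j => by
      rw [Rt_apply, hG]
    refine ⟨QuotientGroup.mk G, ?_⟩
    show glHom rt hrt0 hrt1 G = mkP X
    rw [glHom_apply]
    rcases mul_eq_zero.1 hrs with h | h
    · have hr : r = s⁻¹ := by
        have : r * s = 1 := sub_eq_zero.1 h
        field_simp
        exact this
      congr 1
      apply ext2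
      · rw [key, e00, hr]
      · rw [key, e01, hr]
      · rw [key, e10, hr]
      · rw [key, e11, hr]
    · have hr : r = -s⁻¹ := by
        have : r * s = -1 := eq_neg_of_add_eq_zero_left h
        field_simp
        exact this
      rw [← mkP_neg X]
      congr 1
      apply ext2
      · have e' : (-X).1 0 0 = -X.1 0 0 := rfl
        rw [key, e', e00, hr]; ring
      · have e' : (-X).1 0 1 = -X.1 0 1 := rfl
        rw [key, e', e01, hr]; ring
      · have e' : (-X).1 1 0 = -X.1 1 0 := rfl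
        rw [key, e', e10, hr]; ring
      · have e' : (-X).1 1 1 = -X.1 1 1 := rfl
        rw [key, e', e11, hr]; ring

end PglForm

end Cfsg.Agent.Lib.PSL2.MaxOdd
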