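import Cfsg.Agent.Lib.PSL2.MaxOdd
import Cfsg.Agent.S0804

/-!
# Maximal subgroups of `PSL(2, F)`, `F` of odd order: the exceptional cases
-/

set_option autoImplicit false
set_option linter.unusedSectionVars false
set_option linter.unusedSimpArgs false
set_option linter.unusedVariables false
set_option linter.style.haveILetI false

namespace Cfsg.Agent.Lib.PSL2.MaxOdd

open Matrix Matrix.SpecialLinearGroup Subgroup
open scoped MatrixGroups Quaternion
open Cfsg.Agent.Lib.PSL2.Basic Cfsg.Agent.Lib.PSL2.Conj Cfsg.Agent.Lib.PSL2.Members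
open Cfsg.Agent.Lib.PSL2.FourGroup Cfsg.Agent.Lib.PSL2.KleinPairs Cfsg.Agent.Lib.PSL2.Icosian
open Cfsg.Agent.Lib.PSL2.A5Gen Cfsg.Agent.Lib.PSL2.FieldEmbed
open Cfsg.Agent.Lib.PSL2.DicksonCor Cfsg.Agent.Lib.PSL2.Overgroups Cfsg.Agent.Lib.PSL2.Position
open Cfsg.Agent.Lib.PSL2.MinimalSimple
open Cfsg.Agent.Lib.PSL2.Order168 (mem_normalizer_of_forall)

section Concrete

def a4u : alternatingGroup (Fin 4) := ⟨Equiv.swap 0 1 * Equiv.swap 2 3, by rw [Equiv.Perm.mem_alternatingGroup]; decide⟩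
def a4v : alternatingGroup (Fin 4) := ⟨Equiv.swap 0 2 * Equiv.swap 1 3, by rw [Equiv.Perm.mem_alternatingGroup]; decide⟩

lemma a4_pp : IsPP a4u a4v :=
  ⟨by decide, by decide, by decide, by decide, by decide, by decide⟩

lemma a4_small : ∀ x : alternatingGroup (Fin 4), x ^ 2 = 1 ∨ x ^ 3 = 1 := by decide

lemma a4_normal : ∀ g z : alternatingGroup (Fin 4), (z = 1 ∨ z = a4u ∨ z = a4v ∨ z = a4u * a4v) →
    (g * z * g⁻¹ = 1 ∨ g * z * g⁻¹ = a4u ∨ g * z * g⁻¹ = a4v ∨ g * z * g⁻¹ = a4u * a4v) := by decide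

def a5u : alternatingGroup (Fin 5) := ⟨Equiv.swap 0 1 * Equiv.swap 2 3, by rw [Equiv.Perm.mem_alternatingGroup]; decide⟩
def a5v : alternatingGroup (Fin 5) := ⟨Equiv.swap 0 2 * Equiv.swap 1 3, by rw [Equiv.Perm.mem_alternatingGroup]; decide⟩

lemma a5_pp : IsPP a5u a5v :=
  ⟨by decide, by decide, by decide, by decide, by decide, by decide⟩

def s4u : Equiv.Perm (Fin 4) := Equiv.swap 0 1 * Equiv.swap 2 3
def s4v : Equiv.Perm (Fin 4) := Equiv.swap 0 2 * Equiv.swap 1 3
def s4y : Equiv.Perm (Fin 4) := Equiv.swap 0 1 * Equiv.swap 1 2 * Equiv.swap 2 3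

lemma s4_pp : IsPP s4u s4v :=
  ⟨by decide, by decide, by decide, by decide, by decide, by decide⟩

lemma s4y_four : s4y ^ 4 = 1 := by decide
lemma s4y_two : s4y ^ 2 ≠ 1 := by decide
lemma s4_sign_u : Equiv.Perm.sign s4u = 1 := by decide
lemma s4_sign_v : Equiv.Perm.sign s4v = 1 := by decide

set_option maxRecDepth 100000 in
lemma s4_even : ∀ x : Equiv.Perm (Fin 4), Equiv.Perm.sign x = 1 → x ^ 2 = 1 ∨ x ^ 3 = 1 := by decide
set_option maxRecDepth 100000 in
lemma s4_odd : ∀ x : Equiv.Perm (Fin 4), Equiv.Perm.sign x ≠ 1 → x ^ 4 = 1 ∧ x ≠ 1 := by decide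

end Concrete

section Gen

theorem pow_of_equiv {X G : Type*} [Group X] [Group G] {M : Subgroup G} (e : M ≃* X) {g : G} (hg : g ∈ M) {n : ℕ}
    (h : (e ⟨g, hg⟩) ^ n = 1) : g ^ n = 1 := by
  have h1 : (⟨g, hg⟩ : M) ^ n = 1 := e.injective (by rw [map_pow, h, map_one])
  exact congrArg Subtype.val h1

theorem le_normalizer_of_equiv {G X : Type*} [Group G] [Finite G] [Group X] {M : Subgroup G} (e : M ≃* X) {u v : X}
    (hn : ∀ g z : X, (z = 1 ∨ z = u ∨ z = v ∨ z = u * v) →
      (g * z * g⁻¹ = 1 ∨ g * z * g⁻¹ = u ∨ g * z * g⁻¹ = v ∨ g * z * g⁻¹ = u * v))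
    {a b : G} (ha : ((e.symm u : M) : G) = a) (hb : ((e.symm v : M) : G) = b) (hab : IsPP a b) :
    M ≤ normalizer ((fourOf a b hab : Subgroup G) : Set G) := by
  intro m hm
  apply mem_normalizer_of_forall
  let ρ : X →* G := M.subtype.comp e.symm.toMonoidHom
  have hmρ : m = ρ (e ⟨m, hm⟩) := by simp [ρ]
  have hρu : ρ u = a := ha
  have hρv : ρ v = b := hb
  have key : ∀ z : X, (z = 1 ∨ z = u ∨ z = v ∨ z = u * v) → ρ z ∈ fourOf a b hab := by
    rintro z (rfl | rfl | rfl | rfl)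
    · rw [map_one]; exact one_mem _
    · rw [hρu]; exact left_mem hab
    · rw [hρv]; exact right_mem hab
    · rw [map_mul, hρu, hρv]; exact mem_fourOf.2 (Or.inr (Or.inr (Or.inr rfl)))
  have hconj : ∀ z : X, (z = 1 ∨ z = u ∨ z = v ∨ z = u * v) → m * ρ z * m⁻¹ ∈ fourOf a b hab := by
    intro z hz
    rw [hmρ, ← map_inv, ← map_mul, ← map_mul]
    exact key _ (hn _ _ hz)
  rintro n (rfl | rfl | rfl | rfl)
  · rw [mul_one, mul_inv_cancel]; exact one_mem _
  · have := hconj u (Or.inr (Or.inl rfl))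
    rwa [hρu] at this
  · have := hconj v (Or.inr (Or.inr (Or.inl rfl)))
    rwa [hρv] at this
  · have := hconj (u * v) (Or.inr (Or.inr (Or.inr rfl)))
    rwa [map_mul, hρu, hρv] at this

end Gen

section Setup

variable {F : Type*} [Field F] [Fintype F]

/-- Transport of an isomorphic copy so that a given pair is in position. -/
theorem exc_setup {X : Type*} [Group X] [Finite X] (h2 : (2 : F) ≠ 0) {M : Subgroup PSL(2, F)} (e : M ≃* X)
    {u v : X} (huv : IsPP u v) {A B : SL(2, F)} (hq : IsQ A B) :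
    ∃ (Φ : MulAut (PSL(2, F))) (e' : M.map Φ.toMonoidHom ≃* X),
      ((e'.symm u : M.map Φ.toMonoidHom) : PSL(2, F)) = mkP A ∧
      ((e'.symm v : M.map Φ.toMonoidHom) : PSL(2, F)) = mkP B := by
  let ρ : X →* PSL(2, F) := M.subtype.comp e.symm.toMonoidHom
  have hρ : Function.Injective ρ := M.subtype_injective.comp e.symm.injective
  have hp := Cfsg.Agent.Lib.PSL2.Order168.IsPP.map' ρ hρ huv
  obtain ⟨Φ, h1, h3⟩ := exists_aut_pair h2 hp hq
  exact ⟨Φ, (Φ.subgroupMap M).symm.trans e, h1, h3⟩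

lemma dd_of_odd (hodd : Odd (Fintype.card F)) : dd F = 2 := by
  unfold dd
  apply gcd_two_odd
  exact Nat.odd_iff.1 hodd

lemma two_mul_card (hodd : Odd (Fintype.card F)) :
    Nat.card PSL(2, F) * 2 = Fintype.card F * (Fintype.card F ^ 2 - 1) := by
  have h := card_PSL2_mul_dd F
  rwa [dd_of_odd hodd] at h

lemma isSimple_psl (h5 : 5 ≤ Fintype.card F) : IsSimpleGroup PSL(2, F) :=
  Matrix.ProjectiveSpecialLinearGroup.rank_two_simple (by rw [Nat.card_eq_fintype_card]; omega)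

end Setup

section Sub

variable {K F : Type*} [Field K] [Fintype K] [Field F] [Fintype F]

theorem not_coatom_two (hF : Fintype.card K ^ 2 = Fintype.card F) (hodd : Fintype.card K % 2 = 1) (ι : K →+* F) :
    ¬ IsCoatom (stdPsl ι) := by
  intro hc
  obtain ⟨f, hf, hfr⟩ := exists_pgl_embed' ι
    (fun c hc => exists_sqrt (j := 1) ι (by rw [pow_one]; exact hF) hodd c hc)
  have hcf : Nat.card f.range = Fintype.card K * (Fintype.card K ^ 2 - 1) := by
    rw [Nat.card_congr (MonoidHom.ofInjective hf).toEquiv.symm, card_PGL]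
  have hle : stdPsl ι ≤ f.range := by
    rintro z ⟨a, rfl⟩
    obtain ⟨Y, rfl⟩ := mkP_surjective a
    rw [pslMap_mk]
    apply hfr _ 1 Y.1
    rw [one_smul]
    rfl
  have hq2 := card_ge_two K
  have hq3 : 3 ≤ Fintype.card K := by omega
  have hoddK : Odd (Fintype.card K) := Nat.odd_iff.2 hodd
  have hoddF : Odd (Fintype.card F) := by
    rw [← hF]
    exact hoddK.pow
  have htop : f.range ≠ ⊤ := by
    intro h
    have h1 := two_mul_card hoddF
    rw [h, Subgroup.card_top] at hcf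
    rw [hcf, ← hF] at h1
    exact num_two' hq3 h1
  have heq := eq_of_coatom_le hc hle htop
  have h1 := card_stdPsl ι
  rw [heq, hcf] at h1
  have h3 := two_mul_card hoddK
  rw [← h1] at h3
  have hpos : 0 < Fintype.card K * (Fintype.card K ^ 2 - 1) := by
    apply Nat.mul_pos (by omega)
    have : 1 < Fintype.card K ^ 2 := Nat.one_lt_pow (by norm_num) (by omega)
    omega
  omega

/-- The target for the maximal subfield subgroups. -/
def Goal5 (M : Subgroup PSL(2, F)) : Prop :=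
  ∃ (F₀ : Type) (_ : Field F₀) (_ : Fintype F₀) (r : ℕ), r.Prime ∧ Odd r ∧
    Fintype.card F = Fintype.card F₀ ^ r ∧ Nonempty (M ≃* Matrix.ProjectiveSpecialLinearGroup (Fin 2) F₀)

theorem goal5_of_eq {K₀ : Type} [Field K₀] [Fintype K₀] (ι : K₀ →+* F) (hodd : Odd (Fintype.card K₀)) {m : ℕ}
    (hm : Fintype.card K₀ ^ m = Fintype.card F) {M : Subgroup PSL(2, F)} (Φ : MulAut (PSL(2, F)))
    (hM : IsCoatom (M.map Φ.toMonoidHom)) (heq : M.map Φ.toMonoidHom = stdPsl ι) : Goal5 M := by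
  have hc : IsCoatom (stdPsl ι) := heq ▸ hM
  have hp := prime_of_coatom_stdPsl ι hm hc
  have hm2 : m ≠ 2 := by
    rintro rfl
    exact not_coatom_two hm (Nat.odd_iff.1 hodd) ι hc
  refine ⟨K₀, inferInstance, inferInstance, m, hp, hp.odd_of_ne_two hm2, hm.symm, ⟨?_⟩⟩
  exact (Φ.subgroupMap M).trans ((MulEquiv.subgroupCongr heq).trans (stdPslEquiv ι))

theorem eq_of_le_std (ι : K →+* F) {m : ℕ} (hm : Fintype.card K ^ m = Fintype.card F)
    (hne : Fintype.card K ≠ Fintype.card F) {M : Subgroup PSL(2, F)} (hM : IsCoatom M) (hle : M ≤ stdPsl ι) :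
    M = stdPsl ι := by
  have hq2 := card_ge_two K
  have hq2' := card_ge_two F
  have h2 : 2 ≤ m := by
    by_contra hlt
    have : m = 0 ∨ m = 1 := by omega
    rcases this with rfl | rfl
    · rw [pow_zero] at hm; omega
    · rw [pow_one] at hm; exact hne hm
  exact eq_of_coatom_le hM hle (stdPsl_ne_top' ι h2 hm)

end Sub

section Arith

lemma pow_mod_eight {p : ℕ} (hp : p % 2 = 1) {n : ℕ} (hn : n % 2 = 1) : p ^ n % 8 = p % 8 := by
  obtain ⟨k, rfl⟩ : ∃ k, n = 2 * k + 1 := ⟨n / 2, by omega⟩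
  have h1 : p ^ 2 % 8 = 1 := by
    have h8 : p % 8 = 1 ∨ p % 8 = 3 ∨ p % 8 = 5 ∨ p % 8 = 7 := by omega
    rw [Nat.pow_mod]
    rcases h8 with h | h | h | h <;> rw [h]
  have h2 : (p ^ 2) ^ k % 8 = 1 := by
    rw [Nat.pow_mod, h1]
    simp
  rw [pow_succ, pow_mul, Nat.mul_mod, h2, one_mul, Nat.mod_mod]

lemma pow_mod_five {p : ℕ} (hp : p % 5 = 2 ∨ p % 5 = 3) {n : ℕ} (hn : n % 2 = 1) : (p ^ 2) ^ n % 5 = 4 := by
  obtain ⟨k, rfl⟩ : ∃ k, n = 2 * k + 1 := ⟨n / 2, by omega⟩
  have h1 : p ^ 2 % 5 = 4 := by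
    rw [Nat.pow_mod]
    rcases hp with h | h <;> rw [h]
  have h2 : ((p ^ 2) ^ 2) ^ k % 5 = 1 := by
    have : (p ^ 2) ^ 2 % 5 = 1 := by
      rw [Nat.pow_mod, h1]
    rw [Nat.pow_mod, this]
    simp
  rw [pow_succ, pow_mul, Nat.mul_mod, h2, h1]

end Arith

section Exc

variable {F : Type*} [Field F] [Fintype F]

lemma normalizer_ne_top_of_card' (h5 : 5 ≤ Fintype.card F) {V : Subgroup PSL(2, F)}
    (h1 : Nat.card V ≠ 1) (h2 : V ≠ ⊤) : normalizer (V : Set PSL(2, F)) ≠ ⊤ := by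
  haveI := isSimple_psl h5
  intro e
  have hn : V.Normal := Subgroup.normalizer_eq_top_iff.1 e
  rcases hn.eq_bot_or_eq_top with e1 | e1
  · rw [e1] at h1; simp at h1
  · exact h2 e1

/-- Square roots of `2` give an element of order four normalizing the four-group. -/
theorem exists_four_elt (h2 : (2 : F) ≠ 0) {A B : SL(2, F)} (hq : IsQ A B) {r : F} (hr : 2 * (r * r) = 1) :
    ∃ t : PSL(2, F), t ∈ normalizer ((fourOf (mkP A) (mkP B) (isPP_of_isQ h2 hq) : Subgroup PSL(2, F)) : Set PSL(2, F)) ∧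
      t * t = mkP A := by
  have hi := nrm_i (F := F)
  have hj := nrm_j (F := F)
  have hk := nrm_k (F := F)
  have hA : mkP A = rho h2 hq (Q 0 1 0 0) := (rho_i h2 hq).symm
  have hB : mkP B = rho h2 hq (Q 0 0 1 0) := (rho_j h2 hq).symm
  have hs : Nrm (Q r r 0 0) = 1 := by rw [Nrm_Q]; linear_combination hr
  have h1 : rho h2 hq (Q r r 0 0) * mkP A * (rho h2 hq (Q r r 0 0))⁻¹ = mkP A := by
    rw [mul_inv_eq_iff_eq_mul, hA, rho_prod h2 hq hs hi rfl, rho_prod h2 hq hi hs rfl, Q_mul, Q_mul]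
    congr 1
    apply Q_ext <;> ring
  have h3 : rho h2 hq (Q r r 0 0) * mkP B * (rho h2 hq (Q r r 0 0))⁻¹ = mkP A * mkP B := by
    rw [mul_inv_eq_iff_eq_mul, mkP_mul_mkP h2 hq, hB, rho_prod h2 hq hs hj rfl,
      rho_prod h2 hq hk hs rfl, Q_mul, Q_mul]
    congr 1
    apply Q_ext <;> ring
  have h4 : rho h2 hq (Q r r 0 0) * rho h2 hq (Q r r 0 0) = mkP A := by
    rw [rho_prod h2 hq hs hs rfl, hA, Q_mul]
    congr 1
    apply Q_ext
    · ring
    · linear_combination hr
    · ring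
    · ring
  have hpp := isPP_of_isQ h2 hq
  refine ⟨rho h2 hq (Q r r 0 0), ?_, h4⟩
  apply mem_normalizer_of_forall
  rintro n (rfl | rfl | rfl | rfl)
  · simpa using one_mem _
  · rw [h1]; exact left_mem hpp
  · rw [h3]; exact mem_fourOf.2 (Or.inr (Or.inr (Or.inr rfl)))
  · have e1 : rho h2 hq (Q r r 0 0) * (mkP A * mkP B) * (rho h2 hq (Q r r 0 0))⁻¹ =
        (rho h2 hq (Q r r 0 0) * mkP A * (rho h2 hq (Q r r 0 0))⁻¹) *
          (rho h2 hq (Q r r 0 0) * mkP B * (rho h2 hq (Q r r 0 0))⁻¹) := by group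
    rw [e1, h1, h3, ← mul_assoc, hpp.aa, one_mul]
    exact right_mem hpp

/-- Golden ratios give a copy of `A₅` containing the normalizer of order twelve. -/
theorem exists_five_elt (h2 : (2 : F) ≠ 0) {A B : SL(2, F)} (hq : IsQ A B) {φ : F} (hφ : φ * φ = φ + 1) :
    ∃ H : Subgroup PSL(2, F), Nat.card H = 60 ∧ ∃ D : Subgroup PSL(2, F), D ≤ H ∧ Nat.card D = 12 ∧
      D ≤ normalizer ((fourOf (mkP A) (mkP B) (isPP_of_isQ h2 hq) : Subgroup PSL(2, F)) : Set PSL(2, F)) := by
  set e : F := (2 : F)⁻¹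
  have he : 2 * e = 1 := mul_inv_cancel₀ h2
  have he0 := ne_zero_of_two_mul he
  have hφ0 : φ ≠ 0 := by
    rintro rfl
    simp at hφ
  have hφ1 : φ ≠ 1 := by
    rintro rfl
    apply h2
    linear_combination (-2 : F) * hφ
  have T : TData e (e * (φ - 1)) (-(e * φ)) := by
    refine ⟨he, by ring, ?_, ?_, mul_ne_zero he0 (sub_ne_zero.2 hφ1), neg_ne_zero.2 (mul_ne_zero he0 hφ0)⟩
    · linear_combination (2 * e * e) * hφ + (2 * e + 1) * he
    · have h3 : -(2 * (e * (φ - 1))) = 1 - φ := by linear_combination (-(φ - 1)) * he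
      rw [h3]
      linear_combination hφ
  have D := A5_data h2 hq T
  refine ⟨D.H, D.card_H, D.toA4Data.A, D.A_le_H, D.toA4Data.card_A, ?_⟩
  rintro _ ⟨v, hv, k, rfl⟩
  exact Subgroup.mul_mem _ (Subgroup.le_normalizer hv) (Subgroup.zpow_mem _ D.toA4Data.mem_normalizer k)

variable (p : ℕ) [hpf : Fact p.Prime] [CharP F p]

lemma p_odd (hodd : Odd (Fintype.card F)) : p % 2 = 1 := by
  obtain ⟨n, hp, hn⟩ := FiniteField.card F p
  rcases Nat.even_or_odd p with h | h
  · exfalso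
    rw [hn] at hodd
    exact (Nat.not_odd_iff_even.2 (h.pow_of_ne_zero n.ne_zero)) hodd
  · exact Nat.odd_iff.1 h

/-- The homomorphism from the prime field. -/
noncomputable def iotaZ : ZMod p →+* F := ZMod.castHom (dvd_refl p) F

lemma two_ne_zmod (hodd : Odd (Fintype.card F)) : (2 : ZMod p) ≠ 0 := by
  intro h
  have h1 := p_odd (F := F) p hodd
  have h2 : ((2 : ℕ) : ZMod p) = 0 := by exact_mod_cast h
  rw [ZMod.natCast_eq_zero_iff] at h2
  have := Nat.le_of_dvd (by norm_num) h2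
  have := hpf.out.two_le
  omega

theorem exc_A4 (hodd : Odd (Fintype.card F)) (h5 : 5 ≤ Fintype.card F) {M : Subgroup PSL(2, F)} (hM : IsCoatom M)
    (e : M ≃* alternatingGroup (Fin 4)) :
    Goal5 M ∨ (Fintype.card F = p ∧ (p % 8 = 3 ∨ p % 8 = 5) ∧ ¬ (p % 10 = 1 ∨ p % 10 = 9) ∧
      Nonempty (M ≃* alternatingGroup (Fin 4))) := by
  have h2F : (2 : F) ≠ 0 := Cfsg.Agent.Lib.PSL2.TorusCore.two_ne_zero_of_odd_card hodd
  have h2K := two_ne_zmod (F := F) p hodd
  set ι : ZMod p →+* F := iotaZ p with hι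
  obtain ⟨A₀, B₀, h₀⟩ := exists_isQ h2K
  have hq := IsQ.mapι' ι h₀
  obtain ⟨Φ, e', hu, hv⟩ := exc_setup h2F e a4_pp hq
  have hM' := isCoatom_map Φ hM
  generalize hM'def : M.map Φ.toMonoidHom = M' at *
  have hA : mkP (mapι ι A₀) ∈ M' := hu ▸ (e'.symm a4u).2
  have hB : mkP (mapι ι B₀) ∈ M' := hv ▸ (e'.symm a4v).2
  have hsmall : ∀ X : SL(2, F), mkP X ∈ M' → mkP X ^ 2 = 1 ∨ mkP X ^ 3 = 1 := by
    intro X hX
    rcases a4_small (e' ⟨mkP X, hX⟩) with h | h
    · exact Or.inl (pow_of_equiv e' hX h)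
    · exact Or.inr (pow_of_equiv e' hX h)
  have hle : M' ≤ stdPsl ι := le_stdPsl_of_traces ι h2K h₀ hA hB (fun X hX => tr_mem_of_small ι (hsmall X hX))
  obtain ⟨n, hp, hn⟩ := FiniteField.card F p
  have hm : Fintype.card (ZMod p) ^ (n : ℕ) = Fintype.card F := by rw [ZMod.card, hn]
  have hoddZ : Odd (Fintype.card (ZMod p)) := by
    rw [ZMod.card]
    exact Nat.odd_iff.2 (p_odd (F := F) p hodd)
  by_cases hqp : Fintype.card F = p
  · right
    have hpp := isPP_of_isQ h2F hq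
    have hN : M' ≤ normalizer ((fourOf _ _ hpp : Subgroup PSL(2, F)) : Set PSL(2, F)) :=
      le_normalizer_of_equiv e' a4_normal hu hv hpp
    have hcM : Nat.card M' = 12 := by
      rw [Nat.card_congr e'.toEquiv, Nat.card_eq_fintype_card]
      decide
    have hcard := two_mul_card hodd
    have hV4 := card_fourOf hpp
    have hVtop : fourOf _ _ hpp ≠ ⊤ := by
      intro h
      rw [h, Subgroup.card_top] at hV4
      rw [hV4] at hcard
      have : 5 * (5 ^ 2 - 1) ≤ Fintype.card F * (Fintype.card F ^ 2 - 1) := by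
        apply Nat.mul_le_mul h5
        exact Nat.sub_le_sub_right (Nat.pow_le_pow_left h5 2) 1
      omega
    have hNtop := normalizer_ne_top_of_card' h5 (V := fourOf _ _ hpp) (by rw [hV4]; norm_num) hVtop
    have hMN := eq_of_coatom_le hM' hN hNtop
    refine ⟨hqp, ?_, ?_, ⟨e⟩⟩
    · by_contra hcon
      have hodd8 : Fintype.card F % 8 ≠ 3 ∧ Fintype.card F % 8 ≠ 5 := by
        rw [hqp]
        constructor <;> intro h <;> apply hcon <;> omega
      obtain ⟨r₁, hr₁⟩ := (FiniteField.isSquare_two_iff (F := F)).2 hodd8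
      have hr : 2 * (((2 : F)⁻¹ * r₁) * ((2 : F)⁻¹ * r₁)) = 1 := by
        have he : 2 * (2 : F)⁻¹ = 1 := mul_inv_cancel₀ h2F
        calc 2 * (((2 : F)⁻¹ * r₁) * ((2 : F)⁻¹ * r₁)) = (2 * (2 : F)⁻¹) * (2 : F)⁻¹ * (r₁ * r₁) := by ring
          _ = (2 * (2 : F)⁻¹) * (2 : F)⁻¹ * 2 := by rw [hr₁]
          _ = (2 * (2 : F)⁻¹) * (2 * (2 : F)⁻¹) := by ring
          _ = 1 := by rw [he]; ring
      obtain ⟨t, ht, ht2⟩ := exists_four_elt h2F hq hr
      rw [← hMN] at ht
      obtain ⟨T, rfl⟩ := mkP_surjective t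
      have hne : mkP (mapι ι A₀) ≠ 1 := hpp.a1
      rcases hsmall T ht with h | h
      · rw [pow_two, ht2] at h
        exact hne h
      · have h6 : mkP T = (mkP T * mkP T)⁻¹ := by
          rw [eq_inv_iff_mul_eq_one]
          rw [pow_three] at h
          exact h
        rw [ht2, hpp.inv_a] at h6
        apply hne
        rw [← ht2, h6, hpp.aa]
    · intro hcon
      have hs5 : IsSquare (5 : F) := by
        apply Cfsg.Agent.S0804.isSquare_five (Nat.odd_iff.1 hodd)
        rw [hqp]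
        have hp1 : 1 ≤ p ^ 2 := Nat.one_le_pow _ _ hpf.out.pos
        have : (p ^ 2 - 1) % 5 = 0 := by
          have h10 : p % 5 = 1 ∨ p % 5 = 4 := by omega
          have h11 : p ^ 2 % 5 = 1 := by
            rw [Nat.pow_mod]
            rcases h10 with h | h <;> rw [h]
          omega
        exact Dvd.dvd.mul_left (Nat.dvd_of_mod_eq_zero this) p
      obtain ⟨φ, hφ⟩ := exists_phi h2F hs5
      obtain ⟨H, hH, D, hDH, hD, hDN⟩ := exists_five_elt h2F hq hφ
      have hDM : D = M' := by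
        rw [hMN]
        apply Subgroup.eq_of_le_of_card_ge hDN
        rw [hD, ← hMN, hcM]
      have hle' : M' ≤ H := hDM ▸ hDH
      have hHtop : H ≠ ⊤ := by
        intro h
        rw [h, Subgroup.card_top] at hH
        rw [hH] at hcard
        have hp11 : 11 ≤ Fintype.card F := by
          rw [hqp]
          have h2le : 2 ≤ p := hpf.out.two_le
          have h9 : p ≠ 9 := by
            rintro rfl
            exact absurd hpf.out (by norm_num)
          omega
        have : 11 * (11 ^ 2 - 1) ≤ Fintype.card F * (Fintype.card F ^ 2 - 1) := by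
          apply Nat.mul_le_mul hp11
          exact Nat.sub_le_sub_right (Nat.pow_le_pow_left hp11 2) 1
        omega
      have := eq_of_coatom_le hM' hle' hHtop
      rw [this, hH] at hcM
      omega
  · left
    have hne : Fintype.card (ZMod p) ≠ Fintype.card F := by
      rw [ZMod.card]
      exact fun h => hqp h.symm
    subst hM'def
    exact goal5_of_eq ι hoddZ hm Φ hM' (eq_of_le_std ι hm hne hM' hle)

theorem exc_subfield {X : Type*} [Group X] [Finite X] {u v : X} (huv : IsPP u v) (hodd : Odd (Fintype.card F))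
    {M : Subgroup PSL(2, F)} (hM : IsCoatom M) (e : M ≃* X) {j : ℕ} (hj : 2 ≤ j)
    (hq : Fintype.card F = (p ^ 2) ^ j) (hX : Nat.card X < 360)
    (htr : ∀ L : Subfield F, Nat.card L = p ^ 2 → ∀ M' : Subgroup PSL(2, F), Nonempty (M' ≃* X) →
      ∀ Y : SL(2, F), mkP Y ∈ M' → ∃ s : L, tr Y = (s : F)) : False := by
  have h2F : (2 : F) ≠ 0 := Cfsg.Agent.Lib.PSL2.TorusCore.two_ne_zero_of_odd_card hodd
  have hdvd : p ^ 2 - 1 ∣ Fintype.card F - 1 := by
    rw [hq]
    simpa using Nat.sub_dvd_pow_sub_pow (p ^ 2) 1 j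
  obtain ⟨L, hL, hLc⟩ := exists_subfield p 2 hdvd
  letI : Fintype L := Fintype.ofFinite _
  have hLc' : Fintype.card L = p ^ 2 := by rw [← Nat.card_eq_fintype_card, hLc]
  have h2L : (2 : L) ≠ 0 := fun h => h2F (by
    have := congrArg (L.subtype : L →+* F) h
    rwa [map_ofNat, map_zero] at this)
  obtain ⟨A₀, B₀, h₀⟩ := exists_isQ h2L
  have hq' := IsQ.mapι' L.subtype h₀
  obtain ⟨Φ, e', hu, hv⟩ := exc_setup h2F e huv hq'
  have hM' := isCoatom_map Φ hM
  generalize hM'def : M.map Φ.toMonoidHom = M' at *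
  have hA : mkP (mapι L.subtype A₀) ∈ M' := hu ▸ (e'.symm u).2
  have hB : mkP (mapι L.subtype B₀) ∈ M' := hv ▸ (e'.symm v).2
  have hle : M' ≤ stdPsl L.subtype := le_stdPsl_of_traces L.subtype h2L h₀ hA hB (fun Y hY => by
    obtain ⟨s, hs⟩ := htr L hLc M' ⟨e'⟩ Y hY
    exact ⟨s, hs⟩)
  have hm : Fintype.card L ^ j = Fintype.card F := by rw [hLc', hq]
  have heq := eq_of_coatom_le hM' hle (stdPsl_ne_top' L.subtype hj hm)
  have h1 : Nat.card M' = Nat.card X := Nat.card_congr e'.toEquiv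
  rw [heq, card_stdPsl] at h1
  have hp2 := p_odd (F := F) p hodd
  have hp3 : 3 ≤ p := by
    have := hpf.out.two_le
    omega
  have hoddL : Odd (Fintype.card L) := by
    rw [hLc']
    exact (Nat.odd_iff.2 hp2).pow
  have h3 := two_mul_card hoddL
  rw [h1] at h3
  have hL9 : 9 ≤ Fintype.card L := by
    rw [hLc']
    calc 9 = 3 ^ 2 := by norm_num
      _ ≤ p ^ 2 := Nat.pow_le_pow_left hp3 2
  have : 9 * (9 ^ 2 - 1) ≤ Fintype.card L * (Fintype.card L ^ 2 - 1) := by
    apply Nat.mul_le_mul hL9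
    exact Nat.sub_le_sub_right (Nat.pow_le_pow_left hL9 2) 1
  omega

/-- The target for `PGL(2, F₀)`. -/
def Goal4 (M : Subgroup PSL(2, F)) : Prop :=
  ∃ (F₀ : Type) (_ : Field F₀) (_ : Fintype F₀), Fintype.card F = Fintype.card F₀ ^ 2 ∧
    Nonempty (M ≃* Matrix.ProjGenLinGroup (Fin 2) F₀)

lemma pgl_ne_top {K : Type*} [Field K] [Fintype K] (hF : Fintype.card K ^ 2 = Fintype.card F)
    (hodd : Fintype.card K % 2 = 1) {f : Matrix.ProjGenLinGroup (Fin 2) K →* PSL(2, F)}
    (hf : Function.Injective f) : f.range ≠ ⊤ := by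
  have hcf : Nat.card f.range = Fintype.card K * (Fintype.card K ^ 2 - 1) := by
    rw [Nat.card_congr (MonoidHom.ofInjective hf).toEquiv.symm, card_PGL]
  have hq2 := card_ge_two K
  have hq3 : 3 ≤ Fintype.card K := by omega
  have hoddK : Odd (Fintype.card K) := Nat.odd_iff.2 hodd
  have hoddF : Odd (Fintype.card F) := by
    rw [← hF]
    exact hoddK.pow
  intro h
  have h1 := two_mul_card hoddF
  rw [h, Subgroup.card_top] at hcf
  rw [hcf, ← hF] at h1
  exact num_two' hq3 h1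

theorem exc_S4 (hodd : Odd (Fintype.card F)) (h5 : 5 ≤ Fintype.card F) {M : Subgroup PSL(2, F)} (hM : IsCoatom M)
    (e : M ≃* Equiv.Perm (Fin 4)) :
    Goal4 M ∨ Goal5 M ∨ (Fintype.card F = p ∧ (p % 8 = 1 ∨ p % 8 = 7) ∧ Nonempty (M ≃* Equiv.Perm (Fin 4))) := by
  have h2F : (2 : F) ≠ 0 := Cfsg.Agent.Lib.PSL2.TorusCore.two_ne_zero_of_odd_card hodd
  have h2K := two_ne_zmod (F := F) p hodd
  have hp2 := p_odd (F := F) p hodd
  have hcardZ : Fintype.card (ZMod p) = p := ZMod.card p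
  have hoddZ : Odd (Fintype.card (ZMod p)) := by
    rw [hcardZ]
    exact Nat.odd_iff.2 hp2
  obtain ⟨n, hp, hn⟩ := FiniteField.card F p
  have hm : Fintype.card (ZMod p) ^ (n : ℕ) = Fintype.card F := by rw [hcardZ, hn]
  -- the square root of two
  obtain ⟨r', hr'⟩ : ∃ r' : F, r' * r' = 2 := by
    have hym : ((e.symm s4y : M) : PSL(2, F)) ∈ M := (e.symm s4y).2
    obtain ⟨Y, hY⟩ := mkP_surjective ((e.symm s4y : M) : PSL(2, F))
    have hy : e ⟨mkP Y, hY ▸ hym⟩ = s4y := by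
      have : (⟨mkP Y, hY ▸ hym⟩ : M) = e.symm s4y := Subtype.ext hY
      rw [this, MulEquiv.apply_symm_apply]
    have h4 : mkP Y ^ 4 = 1 := pow_of_equiv e (hY ▸ hym) (by rw [hy]; exact s4y_four)
    have hn2 : mkP Y ^ 2 ≠ 1 := by
      intro h
      apply s4y_two
      rw [← hy, ← map_pow]
      have : (⟨mkP Y, hY ▸ hym⟩ : M) ^ 2 = 1 := Subtype.ext h
      rw [this, map_one]
    rcases Cfsg.Agent.Lib.PSL2.MaxOdd.tr_four_sq h4 with h | h | h
    · exact absurd (by rw [h, one_pow]) hn2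
    · exfalso
      apply hn2
      have h3 := (Cfsg.Agent.Lib.PSL2.Torus.mul_self_eq_neg_one_iff Y).2 h
      rw [pow_two, ← map_mul, h3, mkP_neg_one]
    · exact ⟨tr Y, h⟩
  have hs2F : Fintype.card F % 8 ≠ 3 ∧ Fintype.card F % 8 ≠ 5 :=
    (FiniteField.isSquare_two_iff (F := F)).1 ⟨r', hr'.symm⟩
  have horders : ∀ (M' : Subgroup PSL(2, F)) (e' : M' ≃* Equiv.Perm (Fin 4)) (X : SL(2, F)), mkP X ∈ M' →
      (mkP X ^ 2 = 1 ∨ mkP X ^ 3 = 1) ∨ mkP X ^ 4 = 1 := by
    intro M' e' X hX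
    rcases Cfsg.Agent.Lib.PSL2.DihedralMax.s4_aux (e' ⟨mkP X, hX⟩) with h | h | h
    · exact Or.inl (Or.inl (pow_of_equiv e' hX h))
    · exact Or.inl (Or.inr (pow_of_equiv e' hX h))
    · exact Or.inr (pow_of_equiv e' hX h)
  by_cases h8 : p % 8 = 1 ∨ p % 8 = 7
  · -- `2` is a square in the prime field
    have hsq : IsSquare (2 : ZMod p) := by
      rw [FiniteField.isSquare_two_iff, hcardZ]
      omega
    obtain ⟨r₀, hr₀⟩ := hsq
    set ι : ZMod p →+* F := iotaZ p with hι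
    obtain ⟨A₀, B₀, h₀⟩ := exists_isQ h2K
    have hq := IsQ.mapι' ι h₀
    obtain ⟨Φ, e', hu, hv⟩ := exc_setup h2F e s4_pp hq
    have hM' := isCoatom_map Φ hM
    generalize hM'def : M.map Φ.toMonoidHom = M' at *
    have hA : mkP (mapι ι A₀) ∈ M' := hu ▸ (e'.symm s4u).2
    have hB : mkP (mapι ι B₀) ∈ M' := hv ▸ (e'.symm s4v).2
    have hle : M' ≤ stdPsl ι := le_stdPsl_of_traces ι h2K h₀ hA hB (fun X hX => by
      rcases horders M' e' X hX with h | h
      · exact tr_mem_of_small ι h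
      · exact tr_mem_of_four ι hr₀.symm h)
    by_cases hqp : Fintype.card F = p
    · right; right
      exact ⟨hqp, h8, ⟨e⟩⟩
    · right; left
      have hne : Fintype.card (ZMod p) ≠ Fintype.card F := by
        rw [hcardZ]
        exact fun h => hqp h.symm
      subst hM'def
      exact goal5_of_eq ι hoddZ hm Φ hM' (eq_of_le_std ι hm hne hM' hle)
  · left
    have h8' : p % 8 = 3 ∨ p % 8 = 5 := by omega
    have hne : (n : ℕ) % 2 = 0 := by
      by_contra hcon
      have h1 := pow_mod_eight hp2 (n := (n : ℕ)) (by omega)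
      rw [← hn] at h1
      omega
    obtain ⟨j, hj⟩ : ∃ j, (n : ℕ) = 2 * j := ⟨(n : ℕ) / 2, by omega⟩
    have hq2 : Fintype.card F = (p ^ 2) ^ j := by rw [hn, hj, pow_mul]
    have hj0 : j ≠ 0 := by
      rintro rfl
      have := n.pos
      omega
    by_cases hj1 : j = 1
    · subst hj1
      rw [pow_one] at hq2
      have hF2 : Fintype.card (ZMod p) ^ 2 = Fintype.card F := by rw [hcardZ, hq2]
      have hoddZ' : Fintype.card (ZMod p) % 2 = 1 := by rw [hcardZ]; exact hp2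
      set ι : ZMod p →+* F := iotaZ p with hι
      obtain ⟨f, hf, hfr⟩ := exists_pgl_embed' ι
        (fun c hc => exists_sqrt (j := 1) ι (by rw [pow_one]; exact hF2) hoddZ' c hc)
      obtain ⟨A₀, B₀, h₀⟩ := exists_isQ h2K
      have hq := IsQ.mapι' ι h₀
      obtain ⟨Φ, e', hu, hv⟩ := exc_setup h2F e s4_pp hq
      have hM' := isCoatom_map Φ hM
      generalize hM'def : M.map Φ.toMonoidHom = M' at *
      have hA : mkP (mapι ι A₀) ∈ M' := hu ▸ (e'.symm s4u).2
      have hB : mkP (mapι ι B₀) ∈ M' := hv ▸ (e'.symm s4v).2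
      have hAe : e' ⟨mkP (mapι ι A₀), hA⟩ = s4u := by
        have : (⟨mkP (mapι ι A₀), hA⟩ : M') = e'.symm s4u := Subtype.ext hu.symm
        rw [this, MulEquiv.apply_symm_apply]
      have hBe : e' ⟨mkP (mapι ι B₀), hB⟩ = s4v := by
        have : (⟨mkP (mapι ι B₀), hB⟩ : M') = e'.symm s4v := Subtype.ext hv.symm
        rw [this, MulEquiv.apply_symm_apply]
      have keven : ∀ (w : SL(2, F)) (hw : mkP w ∈ M'), Equiv.Perm.sign (e' ⟨mkP w, hw⟩) = 1 → ∃ s, tr w = ι s := by
        intro w hw hs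
        rcases s4_even _ hs with h | h
        · exact tr_mem_of_small ι (Or.inl (pow_of_equiv e' hw h))
        · exact tr_mem_of_small ι (Or.inr (pow_of_equiv e' hw h))
      have kodd : ∀ (w : SL(2, F)) (hw : mkP w ∈ M'), Equiv.Perm.sign (e' ⟨mkP w, hw⟩) ≠ 1 → ∃ s, tr w = r' * ι s := by
        intro w hw hs
        obtain ⟨h1, h3⟩ := s4_odd _ hs
        have hw1 : mkP w ≠ 1 := by
          intro h4
          apply h3
          have : (⟨mkP w, hw⟩ : M') = 1 := Subtype.ext h4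
          rw [this, map_one]
        rcases Cfsg.Agent.Lib.PSL2.MaxOdd.tr_four_sq (pow_of_equiv e' hw h1) with h | h | h
        · exact absurd h hw1
        · exact ⟨0, by rw [h, map_zero, mul_zero]⟩
        · have key : (tr w - r') * (tr w + r') = 0 := by linear_combination h - hr'
          rcases mul_eq_zero.1 key with k | k
          · exact ⟨1, by rw [map_one, mul_one]; exact sub_eq_zero.1 k⟩
          · exact ⟨-1, by rw [map_neg, map_one]; linear_combination k⟩
      have hle : M' ≤ f.range := by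
        intro z hz
        obtain ⟨X, rfl⟩ := mkP_surjective z
        have hXA : mkP (X * mapι ι A₀) ∈ M' := by rw [map_mul]; exact M'.mul_mem hz hA
        have hXB : mkP (X * mapι ι B₀) ∈ M' := by rw [map_mul]; exact M'.mul_mem hz hB
        have hXAB : mkP (X * mapι ι (A₀ * B₀)) ∈ M' := by
          rw [map_mul, map_mul, map_mul]
          exact M'.mul_mem hz (M'.mul_mem hA hB)
        have sA : Equiv.Perm.sign (e' ⟨mkP (X * mapι ι A₀), hXA⟩) = Equiv.Perm.sign (e' ⟨mkP X, hz⟩) := by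
          have : (⟨mkP (X * mapι ι A₀), hXA⟩ : M') = ⟨mkP X, hz⟩ * ⟨mkP (mapι ι A₀), hA⟩ :=
            Subtype.ext (map_mul _ _ _)
          rw [this, map_mul, map_mul, hAe, s4_sign_u, mul_one]
        have sB : Equiv.Perm.sign (e' ⟨mkP (X * mapι ι B₀), hXB⟩) = Equiv.Perm.sign (e' ⟨mkP X, hz⟩) := by
          have : (⟨mkP (X * mapι ι B₀), hXB⟩ : M') = ⟨mkP X, hz⟩ * ⟨mkP (mapι ι B₀), hB⟩ :=
            Subtype.ext (map_mul _ _ _)
          rw [this, map_mul, map_mul, hBe, s4_sign_v, mul_one]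
        have sAB : Equiv.Perm.sign (e' ⟨mkP (X * mapι ι (A₀ * B₀)), hXAB⟩) = Equiv.Perm.sign (e' ⟨mkP X, hz⟩) := by
          have : (⟨mkP (X * mapι ι (A₀ * B₀)), hXAB⟩ : M') =
              ⟨mkP X, hz⟩ * (⟨mkP (mapι ι A₀), hA⟩ * ⟨mkP (mapι ι B₀), hB⟩) := by
            apply Subtype.ext
            show mkP (X * mapι ι (A₀ * B₀)) = mkP X * (mkP (mapι ι A₀) * mkP (mapι ι B₀))
            rw [map_mul, map_mul, map_mul]
          rw [this, map_mul, map_mul, map_mul, hAe, hBe, map_mul, s4_sign_u, s4_sign_v, one_mul, mul_one]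
        by_cases hs : Equiv.Perm.sign (e' ⟨mkP X, hz⟩) = 1
        · obtain ⟨s₀, h0⟩ := keven X hz hs
          obtain ⟨s₁, h1⟩ := keven _ hXA (sA.trans hs)
          obtain ⟨s₂, h3⟩ := keven _ hXB (sB.trans hs)
          obtain ⟨s₃, h4⟩ := keven _ hXAB (sAB.trans hs)
          have key := exists_form ι h2K h₀ X.1 1 s₀ s₁ s₂ s₃ (by rw [one_mul, ← tr_eq_trace, h0])
            (by rw [one_mul]; exact (tr_eq_trace _).symm.trans h1)
            (by rw [one_mul]; exact (tr_eq_trace _).symm.trans h3)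
            (by rw [one_mul]; exact (tr_eq_trace _).symm.trans h4)
          exact hfr X 1 _ key
        · obtain ⟨s₀, h0⟩ := kodd X hz hs
          obtain ⟨s₁, h1⟩ := kodd _ hXA (by rw [sA]; exact hs)
          obtain ⟨s₂, h3⟩ := kodd _ hXB (by rw [sB]; exact hs)
          obtain ⟨s₃, h4⟩ := kodd _ hXAB (by rw [sAB]; exact hs)
          have key := exists_form ι h2K h₀ X.1 r' s₀ s₁ s₂ s₃ (by rw [← tr_eq_trace, h0])
            ((tr_eq_trace _).symm.trans h1)
            ((tr_eq_trace _).symm.trans h3)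
            ((tr_eq_trace _).symm.trans h4)
          exact hfr X r' _ key
      have heq := eq_of_coatom_le hM' hle (pgl_ne_top hF2 hoddZ' hf)
      subst hM'def
      refine ⟨ZMod p, inferInstance, inferInstance, hF2.symm, ⟨?_⟩⟩
      exact (Φ.subgroupMap M).trans ((MulEquiv.subgroupCongr heq).trans (MonoidHom.ofInjective hf).symm)
    · exfalso
      refine exc_subfield p s4_pp hodd hM e (j := j) (by omega) hq2 ?_ ?_
      · rw [Nat.card_eq_fintype_card]
        have : Fintype.card (Equiv.Perm (Fin 4)) = 24 := by decide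
        omega
      · intro L hLc M' ⟨e'⟩ Y hY
        letI : Fintype L := Fintype.ofFinite _
        have hLc' : Fintype.card L = p ^ 2 := by rw [← Nat.card_eq_fintype_card, hLc]
        have h1 : p ^ 2 % 8 = 1 := by
          have h8'' : p % 8 = 3 ∨ p % 8 = 5 := h8'
          rw [Nat.pow_mod]
          rcases h8'' with h | h <;> rw [h]
        have hsq : IsSquare (2 : L) := by
          rw [FiniteField.isSquare_two_iff, hLc']
          omega
        obtain ⟨r₀, hr₀⟩ := hsq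
        rcases horders M' e' Y hY with h | h
        · exact tr_mem_of_small L.subtype h
        · exact tr_mem_of_four L.subtype hr₀.symm h

lemma tr_mem_of_a5 {K : Type*} [Field K] [Fintype K] (ι : K →+* F) {X : SL(2, F)} {φ : K} (hφ : φ * φ = φ + 1)
    (h : mkP X ^ 2 = 1 ∨ mkP X ^ 3 = 1 ∨ mkP X ^ 5 = 1) : ∃ s, tr X = ι s := by
  rcases h with h | h | h
  · exact tr_mem_of_small ι (Or.inl h)
  · exact tr_mem_of_small ι (Or.inr h)
  · exact tr_mem_of_five ι hφ h

theorem exc_A5 (hodd : Odd (Fintype.card F)) (h5 : 5 ≤ Fintype.card F) {M : Subgroup PSL(2, F)} (hM : IsCoatom M)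
    (e : M ≃* alternatingGroup (Fin 5)) :
    Goal5 M ∨ ((Fintype.card F % 10 = 1 ∨ Fintype.card F % 10 = 9) ∧
      (Fintype.card F = p ∨ (Fintype.card F = p ^ 2 ∧ (p % 10 = 3 ∨ p % 10 = 7))) ∧
      Nonempty (M ≃* alternatingGroup (Fin 5))) := by
  have h2F : (2 : F) ≠ 0 := Cfsg.Agent.Lib.PSL2.TorusCore.two_ne_zero_of_odd_card hodd
  have h2K := two_ne_zmod (F := F) p hodd
  have hp2 := p_odd (F := F) p hodd
  have hcardZ : Fintype.card (ZMod p) = p := ZMod.card p
  have hoddZ : Odd (Fintype.card (ZMod p)) := by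
    rw [hcardZ]
    exact Nat.odd_iff.2 hp2
  obtain ⟨n, hp, hn⟩ := FiniteField.card F p
  have hm : Fintype.card (ZMod p) ^ (n : ℕ) = Fintype.card F := by rw [hcardZ, hn]
  have hcM : Nat.card M = 60 := by
    rw [Nat.card_congr e.toEquiv, Nat.card_eq_fintype_card]
    rfl
  have hcard := two_mul_card hodd
  have h60 : 60 ∣ Nat.card PSL(2, F) := by
    rw [← hcM]
    exact Subgroup.card_subgroup_dvd_card M
  have h5q : 5 ∣ Fintype.card F * (Fintype.card F ^ 2 - 1) := by
    rw [← hcard]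
    exact Dvd.dvd.mul_right (Dvd.dvd.trans (by norm_num) h60) 2
  have horders : ∀ (M' : Subgroup PSL(2, F)) (e' : M' ≃* alternatingGroup (Fin 5)) (X : SL(2, F)), mkP X ∈ M' →
      mkP X ^ 2 = 1 ∨ mkP X ^ 3 = 1 ∨ mkP X ^ 5 = 1 := by
    intro M' e' X hX
    rcases Cfsg.Agent.Lib.PSL2.DihedralMax.a5_aux (e' ⟨mkP X, hX⟩) with h | h | h
    · exact Or.inl (pow_of_equiv e' hX h)
    · exact Or.inr (Or.inl (pow_of_equiv e' hX h))
    · exact Or.inr (Or.inr (pow_of_equiv e' hX h))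
  by_cases h5p : 5 ∣ p * (p ^ 2 - 1)
  · have hs5 : IsSquare (5 : ZMod p) := by
      apply Cfsg.Agent.S0804.isSquare_five
      · rw [hcardZ]; exact hp2
      · rw [hcardZ]; exact h5p
    obtain ⟨φ, hφ⟩ := exists_phi h2K hs5
    set ι : ZMod p →+* F := iotaZ p with hι
    obtain ⟨A₀, B₀, h₀⟩ := exists_isQ h2K
    have hq := IsQ.mapι' ι h₀
    obtain ⟨Φ, e', hu, hv⟩ := exc_setup h2F e a5_pp hq
    have hM' := isCoatom_map Φ hM
    generalize hM'def : M.map Φ.toMonoidHom = M' at *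
    have hA : mkP (mapι ι A₀) ∈ M' := hu ▸ (e'.symm a5u).2
    have hB : mkP (mapι ι B₀) ∈ M' := hv ▸ (e'.symm a5v).2
    have hle : M' ≤ stdPsl ι := le_stdPsl_of_traces ι h2K h₀ hA hB (fun X hX =>
      tr_mem_of_a5 ι hφ (horders M' e' X hX))
    by_cases hqp : Fintype.card F = p
    · right
      have hp5 : p ≠ 5 := by
        rintro rfl
        rw [hqp] at hcard
        have h60' : Nat.card PSL(2, F) = 60 := by omega
        apply hM.1
        apply Subgroup.eq_top_of_card_eq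
        rw [hcM, h60']
      have hpp : p.Prime := hpf.out
      have h5p' : 5 ∣ p ^ 2 - 1 := by
        rcases (Nat.Prime.dvd_mul (by norm_num : Nat.Prime 5)).1 h5p with h | h
        · exact absurd ((Nat.prime_dvd_prime_iff_eq (by norm_num) hpp).1 h).symm hp5
        · exact h
      have hp10 : p % 10 = 1 ∨ p % 10 = 9 := by
        have hp1 : 1 ≤ p ^ 2 := Nat.one_le_pow _ _ hpp.pos
        have h1 : p ^ 2 % 5 = 1 := by omega
        have h3 : p % 5 = 1 ∨ p % 5 = 4 := by
          rw [Nat.pow_mod] at h1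
          have h4 : ∀ u : ℕ, u < 5 → u ^ 2 % 5 = 1 → u = 1 ∨ u = 4 := by decide
          exact h4 _ (Nat.mod_lt _ (by norm_num)) h1
        omega
      refine ⟨?_, Or.inl hqp, ⟨e⟩⟩
      rw [hqp]
      exact hp10
    · left
      have hne : Fintype.card (ZMod p) ≠ Fintype.card F := by
        rw [hcardZ]
        exact fun h => hqp h.symm
      subst hM'def
      exact goal5_of_eq ι hoddZ hm Φ hM' (eq_of_le_std ι hm hne hM' hle)
  · right
    have hpp : p.Prime := hpf.out
    have hp5 : p % 5 = 2 ∨ p % 5 = 3 := by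
      by_contra hcon
      apply h5p
      have h4 : p % 5 = 0 ∨ p % 5 = 1 ∨ p % 5 = 4 := by omega
      rcases h4 with h | h
      · exact Dvd.dvd.mul_right (Nat.dvd_of_mod_eq_zero h) _
      · apply Dvd.dvd.mul_left
        have hp1 : 1 ≤ p ^ 2 := Nat.one_le_pow _ _ hpp.pos
        have h1 : p ^ 2 % 5 = 1 := by
          rw [Nat.pow_mod]
          rcases h with h | h <;> rw [h]
        omega
    have hne : (n : ℕ) % 2 = 0 := by
      by_contra hcon
      have h1 := pow_mod_five hp5 (n := (n : ℕ)) (by omega)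
      have h2 : Fintype.card F ^ 2 = (p ^ 2) ^ (n : ℕ) := by
        rw [hn, ← pow_mul, ← pow_mul, mul_comm]
      rw [← h2] at h1
      have h3 : ¬ 5 ∣ Fintype.card F := by
        intro hd
        have h6 : 5 ∣ Fintype.card F ^ 2 := Dvd.dvd.pow hd (by norm_num)
        omega
      have h4 : 5 ∣ Fintype.card F ^ 2 - 1 := ((Nat.Prime.dvd_mul (by norm_num)).1 h5q).resolve_left h3
      have h6 : 1 ≤ Fintype.card F ^ 2 := by omega
      omega
    obtain ⟨j, hj⟩ : ∃ j, (n : ℕ) = 2 * j := ⟨(n : ℕ) / 2, by omega⟩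
    have hq2 : Fintype.card F = (p ^ 2) ^ j := by rw [hn, hj, pow_mul]
    have hj0 : j ≠ 0 := by
      rintro rfl
      have := n.pos
      omega
    have hp10 : p % 10 = 3 ∨ p % 10 = 7 := by omega
    by_cases hj1 : j = 1
    · subst hj1
      rw [pow_one] at hq2
      refine ⟨?_, Or.inr ⟨hq2, hp10⟩, ⟨e⟩⟩
      rw [hq2, Nat.pow_mod]
      rcases hp10 with h | h <;> rw [h] <;> right <;> norm_num
    · exfalso
      refine exc_subfield p a5_pp hodd hM e (j := j) (by omega) hq2 ?_ ?_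
      · rw [Nat.card_eq_fintype_card]
        have : Fintype.card (alternatingGroup (Fin 5)) = 60 := rfl
        omega
      · intro L hLc M' ⟨e'⟩ Y hY
        letI : Fintype L := Fintype.ofFinite _
        have hLc' : Fintype.card L = p ^ 2 := by rw [← Nat.card_eq_fintype_card, hLc]
        have h2L : (2 : L) ≠ 0 := fun h => h2F (by
          have := congrArg (L.subtype : L →+* F) h
          rwa [map_ofNat, map_zero] at this)
        have hs5 : IsSquare (5 : L) := by
          apply Cfsg.Agent.S0804.isSquare_five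
          · rw [hLc', Nat.pow_mod, hp2]
          · rw [hLc']
            apply Dvd.dvd.mul_left
            have h1 : (p ^ 2) ^ 2 % 5 = 1 := by
              rw [Nat.pow_mod, Nat.pow_mod p]
              rcases hp5 with h | h <;> rw [h]
            have h2 : 1 ≤ (p ^ 2) ^ 2 := Nat.one_le_pow _ _ (Nat.pow_pos hpp.pos)
            omega
        obtain ⟨φ, hφ⟩ := exists_phi h2L hs5
        exact tr_mem_of_a5 L.subtype hφ (horders M' e' Y hY)

end Exc

end Cfsg.Agent.Lib.PSL2.MaxOdd
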