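import Cfsg.Agent.Lib.PSL2.BorelMax

/-!
# Subfield subgroups in position
-/

set_option autoImplicit false
set_option linter.unusedSectionVars false
set_option linter.unusedSimpArgs false
set_option linter.unusedVariables false
set_option linter.style.haveILetI false

namespace Cfsg.Agent.Lib.PSL2.Position

open Matrix Matrix.SpecialLinearGroup Subgroup
open scoped MatrixGroups
open Cfsg.Agent.Lib.PSL2.Basic Cfsg.Agent.Lib.PSL2.Conj Cfsg.Agent.Lib.PSL2.Members
open Cfsg.Agent.Lib.PSL2.Subfield Cfsg.Agent.Lib.PSL2.DPart Cfsg.Agent.Lib.PSL2.Reduction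
open Cfsg.Agent.Lib.PSL2.DCount Cfsg.Agent.Lib.PSL2.DClassify
open Cfsg.Agent.Lib.PSL2.MemberCyc Cfsg.Agent.Lib.PSL2.FieldEmbed
open Cfsg.Agent.Lib.PSL2.Dickson Cfsg.Agent.Lib.PSL2.DicksonCor Cfsg.Agent.Lib.PSL2.DihedralMax
open Cfsg.Agent.Lib.PSL2.Overgroups Cfsg.Agent.Lib.PSL2.MinimalSimple
open Cfsg.Agent.Lib.PSL2.Solubilizer Cfsg.Agent.Lib.PSL2.BorelMax

section Main

variable {F : Type*} [Field F] [Fintype F]

/-- A subgroup in position: the image under a frame automorphism is a subfield subgroup, or a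
subfield subgroup extended by square roots. -/
def PosCase (H : Subgroup PSL(2, F)) : Prop :=
  ∃ (g₁ : SL(2, F)) (c₁ : F) (hc₁ : c₁ ≠ 0) (K : Type) (_ : Field K) (_ : Fintype K) (ι : K →+* F)
    (m : ℕ), Fintype.card K ^ m = Fintype.card F ∧
    stdPsl ι ≤ H.map (frameP g₁ c₁ hc₁).toMonoidHom ∧
    (H.map (frameP g₁ c₁ hc₁).toMonoidHom = stdPsl ι ∨
      ((∀ c : K, c ≠ 0 → ∃ (r : F) (hr0 : r ≠ 0), r * r = ι c ∧
          mkP (d r hr0) ∈ H.map (frameP g₁ c₁ hc₁).toMonoidHom) ∧
        Nat.card H = Fintype.card K * (Fintype.card K ^ 2 - 1)))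

variable {p : ℕ} [hp : Fact p.Prime] [CharP F p]

/-- Refined form of `case_last`. -/
theorem case_last_pos {H : Subgroup PSL(2, F)} {A : SL(2, F)} (hA : NC A) (hAH : mkP A ∈ H)
    (hP : IsP p (member H A)) (hnn : ¬ (member H A).Normal)
    (hcard : Nat.card H = Nat.card (member H A) * kk (member H A) * (Nat.card (member H A) + 1))
    (hk : kk (member H A) = Nat.card (member H A) - 1 ∨
      2 * kk (member H A) = Nat.card (member H A) - 1) : PosCase H := by
  classical
  have hd := disc_eq_zero_of_isP p hA hAH hP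
  have hNc := card_normalizer (member H A)
  obtain ⟨g₁, c₁, hc₁, hN, hW, hB⟩ := exists_normalPos_frame hA hd hAH hnn (by rw [hNc, hcard]; ring)
  set Φ := frameP g₁ c₁ hc₁ with hΦ
  obtain ⟨K, iK, iF, ι, hι, hKc, m, hm⟩ := exists_field hN
  generalize hPdef : Nat.card (member H A) = P at *
  generalize hkdef : kk (member H A) = k at *
  rw [hW] at hKc
  have hPge : 2 ≤ P := by
    rw [← hKc]
    exact Fintype.one_lt_card
  have hH₁c : Nat.card (H.map Φ.toMonoidHom) = Nat.card H :=
    (Nat.card_congr (Φ.subgroupMap H).toEquiv).symm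
  have hx : ∀ t : K, mkP (x (ι t)) ∈ H.map Φ.toMonoidHom := fun t => (hι _).2 ⟨t, rfl⟩
  have hy : ∀ t : K, mkP (y (ι t)) ∈ H.map Φ.toMonoidHom := fun t =>
    (y_mem_iff hN).2 ((hι _).2 ⟨t, rfl⟩)
  have hle : stdPsl ι ≤ H.map Φ.toMonoidHom := by
    rintro z ⟨a, rfl⟩
    obtain ⟨M, rfl⟩ := mkP_surjective a
    rw [pslMap_mk]
    exact mem_of_gens hx hy M
  refine ⟨g₁, c₁, hc₁, K, iK, iF, ι, m, hm, hle, ?_⟩
  have key1 : Nat.card PSL(2, K) = Nat.card (H.map Φ.toMonoidHom) →
      H.map Φ.toMonoidHom = stdPsl ι := by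
    intro h
    exact (Subgroup.eq_of_le_of_card_ge hle (by rw [card_stdPsl, h])).symm
  have h2K : (2 : F) = 0 ↔ (2 : K) = 0 := by
    rw [← map_eq_zero_iff ι ι.injective, map_ofNat]
  by_cases h2 : (2 : F) = 0
  · left
    apply key1
    rw [card_PSL2_of_two_eq_zero (h2K.1 h2), hH₁c, hcard, hKc]
    have hkk : k = P - 1 := by
      rcases hk with h | h
      · exact h
      · exfalso
        have h3 : (P : K) = 0 := by
          rw [← hKc]
          exact Nat.cast_card_eq_zero K
        have hp2 : p = 2 := by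
          have h5 : p ∣ 2 := (CharP.cast_eq_zero_iff F p 2).1 (by exact_mod_cast h2)
          exact (Nat.prime_dvd_prime_iff_eq hp.out Nat.prime_two).1 h5
        have : CharP K p := ι.charP ι.injective p
        have h4 : p ∣ P := (CharP.cast_eq_zero_iff K p P).1 h3
        rw [hp2] at h4
        omega
    subst hkk
    obtain ⟨u, rfl⟩ : ∃ u, P = u + 1 := ⟨P - 1, by omega⟩
    simp only [Nat.add_sub_cancel]
    have : (u + 1) ^ 2 - 1 = u * (u + 1 + 1) := by
      have : (u + 1) ^ 2 = u * (u + 1 + 1) + 1 := by ring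
      omega
    rw [this]
    ring
  · have h2' : (2 : K) ≠ 0 := fun h => h2 (h2K.2 h)
    have h3 := card_PSL2_of_two_ne_zero h2'
    rw [hKc] at h3
    obtain ⟨u, rfl⟩ : ∃ u, P = u + 1 := ⟨P - 1, by omega⟩
    simp only [Nat.add_sub_cancel] at hk
    have h4 : (u + 1) ^ 2 - 1 = u * (u + 1 + 1) := by
      have : (u + 1) ^ 2 = u * (u + 1 + 1) + 1 := by ring
      omega
    rw [h4] at h3
    rcases hk with rfl | hk
    · -- `PGL`
      right
      have hb : Nat.card (wSub (H.map Φ.toMonoidHom)) * (Nat.card (wSub (H.map Φ.toMonoidHom)) - 1) =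
          Nat.card (borSet (H.map Φ.toMonoidHom)) := by
        rw [hW, hB, hNc]
        simp
      have hr : ∀ c : K, c ≠ 0 → ∃ (r : F) (hr0 : r ≠ 0), r * r = ι c ∧
          mkP (d r hr0) ∈ H.map Φ.toMonoidHom := by
        intro c hc
        exact mem_rootSet_of_card hN hb ((hι _).2 ⟨c, rfl⟩) (by simpa using hc)
      refine ⟨hr, ?_⟩
      rw [hcard, hKc, h4]
      ring
    · left
      apply key1
      rw [hH₁c, hcard]
      have h5 : 2 * Nat.card PSL(2, K) = 2 * ((u + 1) * k * (u + 1 + 1)) := by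
        rw [h3, ← hk]
        ring
      exact Nat.eq_of_mul_eq_mul_left (by norm_num) h5

/-- Dickson's theorem, in position. -/
theorem dickson_frame_pos (p : ℕ) [Fact p.Prime] [CharP F p] (H : Subgroup PSL(2, F)) :
    Nat.card H = 1 ∨
    (∃ A : SL(2, F), NC A ∧ disc A ≠ 0 ∧ H ≤ cbar A) ∨
    (∃ A : SL(2, F), NC A ∧ disc A ≠ 0 ∧ mkP A ∈ H ∧ (member H A).index = 2) ∨
    (∃ g : SL(2, F), ∀ X, mkP X ∈ H → Up g X) ∨
    Nonempty (H ≃* alternatingGroup (Fin 4)) ∨ Nonempty (H ≃* Equiv.Perm (Fin 4)) ∨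
    Nonempty (H ≃* alternatingGroup (Fin 5)) ∨ PosCase H := by
  rcases classify (dp H p) with h | h | ⟨M, hM, hS, hidx⟩ | ⟨M, hM, hP, hn⟩ | ⟨h, C, hC, hnn⟩ |
      ⟨h, L, hL, hcore⟩ | ⟨h, L, hL, hcore⟩ | ⟨M, hM, hP, hnn, -, hcard, hk⟩
  · exact Or.inl h
  · obtain ⟨A, hA, hAH, htop⟩ := h
    by_cases hd : disc A = 0
    · right; right; right; left
      obtain ⟨g, ε, hε, s, hg, hs, hε2⟩ := exists_frame hA hd
      refine ⟨g, fun X hX => ?_⟩
      have h1 : (⟨mkP X, hX⟩ : H) ∈ member H A := by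
        rw [← htop]
        trivial
      exact ((mem_member_iff hg hs hε2 rfl).1 h1).1
    · right; left
      refine ⟨A, hA, hd, fun x hx => ?_⟩
      have h1 : (⟨x, hx⟩ : H) ∈ member H A := by
        rw [← htop]
        trivial
      exact h1
  · obtain ⟨A, hA, hAH, rfl⟩ := hM
    right; right; left
    exact ⟨A, hA, disc_ne_zero_of_isS p hA hAH hS, hAH, hidx⟩
  · obtain ⟨A, hA, hAH, rfl⟩ := hM
    right; right; right; left
    have hd := disc_eq_zero_of_isP p hA hAH hP
    obtain ⟨g, ε, hε, s, hg, hs, hε2⟩ := exists_frame hA hd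
    refine ⟨g, fun X hX => ?_⟩
    have h1 : (⟨mkP X, hX⟩ : H) ∈ normalizer (member H A : Set H) := by
      rw [Subgroup.normalizer_eq_top_iff.2 hn]
      trivial
    exact up_of_mem_normalizer hg hs hε2 hAH h1 rfl
  · right; right; right; right; left
    exact CosetIso.nonempty_equiv_A4 C hC hnn h
  · right; right; right; right; right; left
    have hidx : L.index = 4 := by
      have := L.index_mul_card
      rw [hL, h] at this
      omega
    exact CosetIso.nonempty_equiv_S4 L hidx hcore h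
  · right; right; right; right; right; right; left
    have hidx : L.index = 5 := by
      have := L.index_mul_card
      rw [hL, h] at this
      omega
    exact CosetIso.nonempty_equiv_A5 L hidx hcore h
  · obtain ⟨A, hA, hAH, rfl⟩ := hM
    right; right; right; right; right; right; right
    exact case_last_pos (p := p) hA hAH hP hnn hcard hk

end Main

section Coatom

variable {G : Type*} [Group G]

lemma isCoatom_map (Φ : G ≃* G) {M : Subgroup G} (hM : IsCoatom M) :
    IsCoatom (M.map Φ.toMonoidHom) := by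
  constructor
  · intro h
    apply hM.1
    rw [eq_top_iff]
    intro z _
    have h1 : Φ z ∈ M.map Φ.toMonoidHom := by
      rw [h]
      trivial
    obtain ⟨a, ha, hza⟩ := h1
    have : a = z := Φ.injective hza
    exact this ▸ ha
  · intro K hK
    have h1 : M < K.map Φ.symm.toMonoidHom := by
      constructor
      · intro m hm
        refine ⟨Φ m, hK.le ⟨m, hm, rfl⟩, by simp⟩
      · intro h2
        apply hK.2
        rintro k hk
        exact ⟨Φ.symm k, h2 ⟨k, hk, rfl⟩, by simp⟩
    have h2 := hM.2 _ h1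
    rw [eq_top_iff]
    intro z _
    have h3 : Φ.symm z ∈ K.map Φ.symm.toMonoidHom := by
      rw [h2]
      trivial
    obtain ⟨a, ha, hza⟩ := h3
    have : a = z := Φ.symm.injective hza
    exact this ▸ ha

/-- A coatom below a proper subgroup equals it. -/
lemma eq_of_coatom_le {M N : Subgroup G} (hM : IsCoatom M) (hle : M ≤ N) (hN : N ≠ ⊤) : M = N := by
  by_contra hne
  exact hN (hM.2 N (lt_of_le_of_ne hle hne))

end Coatom

section SubfieldExistence

variable {F : Type*} [Field F] [Fintype F]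

lemma pow_eq_of_pow_sub_one {a : F} {n : ℕ} (hn : 1 ≤ n) (h : a ^ (n - 1) = 1) : a ^ n = a := by
  obtain ⟨c, rfl⟩ : ∃ c, n = c + 1 := ⟨n - 1, by omega⟩
  simp only [Nat.add_sub_cancel] at h
  rw [pow_succ, h, one_mul]

lemma pow_sub_one_of_pow {a : F} {n : ℕ} (hn : 1 ≤ n) (h0 : a ≠ 0) (h : a ^ n = a) :
    a ^ (n - 1) = 1 := by
  obtain ⟨c, rfl⟩ : ∃ c, n = c + 1 := ⟨n - 1, by omega⟩
  simp only [Nat.add_sub_cancel]
  rw [pow_succ] at h
  exact mul_right_cancel₀ h0 (by rw [h, one_mul])

/-- The subfield of given order, given `Q - 1 ∣ q - 1`. -/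
theorem exists_subfield (p k : ℕ) [Fact p.Prime] [CharP F p] (hdvd : p ^ k - 1 ∣ Fintype.card F - 1) :
    ∃ L : Subfield F, (∀ x, x ∈ L ↔ x ^ p ^ k = x) ∧ Nat.card L = p ^ k := by
  classical
  let L : Subfield F := (iterateFrobenius F p k).eqLocusField (RingHom.id F)
  have hL : ∀ x, x ∈ L ↔ x ^ p ^ k = x := by
    intro x
    show iterateFrobenius F p k x = x ↔ _
    rw [iterateFrobenius_def]
  refine ⟨L, hL, ?_⟩
  have hQ : 1 ≤ p ^ k := Nat.one_le_pow _ _ (Fact.out : p.Prime).pos
  have hker := IsCyclic.card_powMonoidHom_ker (G := Fˣ) (p ^ k - 1)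
  have hcu : Nat.card Fˣ = Fintype.card F - 1 := by
    rw [Nat.card_eq_fintype_card, Fintype.card_units]
  rw [hcu, Nat.gcd_eq_right hdvd] at hker
  let φ : Option (powMonoidHom (p ^ k - 1) : Fˣ →* Fˣ).ker → L := fun o =>
    match o with
    | none => 0
    | some u => ⟨(u.1 : F), by
        rw [hL]
        have h1 : (u.1 : Fˣ) ^ (p ^ k - 1) = 1 := u.2
        have h2 : ((u.1 : Fˣ) : F) ^ (p ^ k - 1) = 1 := by
          rw [← Units.val_pow_eq_pow_val, h1, Units.val_one]
        exact pow_eq_of_pow_sub_one hQ h2⟩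
  have hφ : Function.Bijective φ := by
    constructor
    · rintro (_ | u) (_ | v) h
      · rfl
      · exfalso
        have h1 : (0 : F) = ((v.1 : Fˣ) : F) := congrArg Subtype.val h
        exact v.1.ne_zero h1.symm
      · exfalso
        have h1 : ((u.1 : Fˣ) : F) = 0 := congrArg Subtype.val h
        exact u.1.ne_zero h1
      · have h1 : ((u.1 : Fˣ) : F) = ((v.1 : Fˣ) : F) := congrArg Subtype.val h
        have h2 : u = v := Subtype.ext (Units.ext h1)
        rw [h2]
    · rintro ⟨z, hz⟩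
      by_cases h0 : z = 0
      · refine ⟨none, ?_⟩
        apply Subtype.ext
        exact h0.symm
      · have hz' := (hL z).1 hz
        have h1 : (Units.mk0 z h0) ^ (p ^ k - 1) = 1 := by
          apply Units.ext
          rw [Units.val_pow_eq_pow_val, Units.val_mk0, Units.val_one]
          exact pow_sub_one_of_pow hQ h0 hz'
        refine ⟨some ⟨Units.mk0 z h0, h1⟩, ?_⟩
        apply Subtype.ext
        rfl
  rw [← Nat.card_congr (Equiv.ofBijective φ hφ), Finite.card_option, hker]
  omega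

variable {K : Type*} [Field K] [Fintype K]

lemma stdPsl_comp_le {L : Type*} [Field L] (j : K →+* L) (ι' : L →+* F) :
    stdPsl (ι'.comp j) ≤ stdPsl ι' := by
  rintro z ⟨a, rfl⟩
  obtain ⟨M, rfl⟩ := mkP_surjective a
  refine ⟨mkP (mapι j M), ?_⟩
  rw [pslMap_mk, pslMap_mk]
  rfl

/-- The card of `PSL(2, K)` is strictly monotone within a parity class. -/
lemma card_PSL2_lt {L : Type*} [Field L] [Fintype L] (h : Fintype.card K < Fintype.card L)
    (hd : dd K = dd L) : Nat.card PSL(2, K) < Nat.card PSL(2, L) := by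
  have h1 := card_PSL2_mul_dd K
  have h2 := card_PSL2_mul_dd L
  have hq := card_ge_two K
  have h3 : Fintype.card K * (Fintype.card K ^ 2 - 1) < Fintype.card L * (Fintype.card L ^ 2 - 1) := by
    apply Nat.mul_lt_mul'' h
    have h4 : Fintype.card K ^ 2 < Fintype.card L ^ 2 := Nat.pow_lt_pow_left h (by norm_num)
    have h5 : 1 ≤ Fintype.card K ^ 2 := Nat.one_le_pow _ _ (by omega)
    omega
  rw [← h1, ← h2, hd] at h3
  exact lt_of_mul_lt_mul_right h3 (Nat.zero_le _)

/-- A maximal subfield subgroup has prime degree. -/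
theorem prime_of_coatom_stdPsl (ι : K →+* F) {m : ℕ} (hm : Fintype.card K ^ m = Fintype.card F)
    (hc : IsCoatom (stdPsl ι)) : m.Prime := by
  obtain ⟨p, hp, hchar⟩ := exists_char F
  haveI : Fact p.Prime := ⟨hp⟩
  haveI hcK : CharP K p := (RingHom.charP_iff ι ι.injective p).2 hchar
  have hq := card_ge_two K
  have hq' := card_ge_two F
  have hm0 : m ≠ 0 := by
    rintro rfl
    rw [pow_zero] at hm
    omega
  have hm1 : m ≠ 1 := by
    rintro rfl
    rw [pow_one] at hm
    apply hc.1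
    apply Subgroup.eq_top_of_card_eq
    rw [card_stdPsl]
    exact card_PSL2_eq hm
  by_contra hnp
  set r := m.minFac with hr
  have hrp : r.Prime := Nat.minFac_prime hm1
  obtain ⟨s, hs⟩ := Nat.minFac_dvd m
  rw [← hr] at hs
  have hs2 : 2 ≤ s := by
    by_contra hcon
    have h0 : s = 0 ∨ s = 1 := by omega
    rcases h0 with rfl | rfl
    · rw [mul_zero] at hs
      exact hm0 hs
    · rw [mul_one] at hs
      rw [hs] at hnp
      exact hnp hrp
  obtain ⟨e, -, he⟩ := FiniteField.card K p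
  set Q := Fintype.card K ^ r with hQ
  have hQp : Q = p ^ ((e : ℕ) * r) := by
    rw [hQ, he, pow_mul]
  have hqQ : Fintype.card F = Q ^ s := by
    rw [← hm, hs, pow_mul]
  have hdvd : p ^ ((e : ℕ) * r) - 1 ∣ Fintype.card F - 1 := by
    rw [← hQp, hqQ]
    simpa using Nat.sub_dvd_pow_sub_pow Q 1 s
  obtain ⟨L, hL, hLc⟩ := exists_subfield p ((e : ℕ) * r) hdvd
  rw [← hQp] at hLc
  letI : Fintype L := Fintype.ofFinite _
  have hLc' : Fintype.card L = Q := by rw [← Nat.card_eq_fintype_card, hLc]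
  have hmem : ∀ a : K, ι a ∈ L := by
    intro a
    rw [hL, ← hQp, hQ, ← map_pow, FiniteField.pow_card_pow]
  let j : K →+* L := ι.codRestrict L hmem
  have hcomp : L.subtype.comp j = ι := by
    ext a
    rfl
  have hle : stdPsl ι ≤ stdPsl L.subtype := by
    have := stdPsl_comp_le j L.subtype
    rwa [hcomp] at this
  have hne : stdPsl L.subtype ≠ ⊤ := stdPsl_ne_top' L.subtype hs2 (by rw [hLc', hqQ])
  have heq := eq_of_coatom_le hc hle hne
  have h1 := card_stdPsl ι
  rw [heq, card_stdPsl] at h1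
  have hlt : Fintype.card K < Fintype.card L := by
    rw [hLc', hQ]
    calc Fintype.card K = Fintype.card K ^ 1 := (pow_one _).symm
      _ < Fintype.card K ^ r := Nat.pow_lt_pow_right (by omega) hrp.one_lt
  have hdd : dd K = dd L := by
    exact (dd_eq_of_pow (r := r) hrp.ne_zero (by rw [hLc'])).symm
  have h2 := card_PSL2_lt hlt hdd
  omega

end SubfieldExistence

end Cfsg.Agent.Lib.PSL2.Position
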