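import Cfsg.Agent.Lib.PSL2.SylowGens

/-!
# Redundant Sylow subgroups of `SL(2, F)` and `PSL(2, F)`
-/

set_option autoImplicit false
set_option linter.unusedSectionVars false
set_option linter.unusedSimpArgs false
set_option linter.unusedVariables false
set_option linter.style.haveILetI false

namespace Cfsg.Agent.Lib.PSL2.Redundant

open Matrix Matrix.SpecialLinearGroup
open scoped MatrixGroups
open Cfsg.Agent.Lib.PSL2.Basic Cfsg.Agent.Lib.PSL2.Torus Cfsg.Agent.Lib.PSL2.TorusCore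
open Cfsg.Agent.Lib.PSL2.Members Cfsg.Agent.Lib.PSL2.FourGroup Cfsg.Agent.Lib.PSL2.SylowGens
open Cfsg.Agent.Lib.PSL2.Conj

/-- A group has a redundant Sylow subgroup. -/
def Red (p : ℕ) [Fact p.Prime] (G : Type*) [Group G] : Prop :=
  ∃ Q : Sylow p G, ∀ x : G, (∃ k : ℕ, orderOf x = p ^ k) → ∃ P : Sylow p G, P ≠ Q ∧ x ∈ P

section Transfer

variable {G H : Type*} [Group G] [Group H] [Finite G] [Finite H] {p : ℕ} [hp : Fact p.Prime]

lemma isPGroup_zpowers {z : G} {k : ℕ} (hk : z ^ (p ^ k) = 1) : IsPGroup p (Subgroup.zpowers z) := by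
  rintro ⟨_, n, rfl⟩
  refine ⟨k, Subtype.ext ?_⟩
  show ((z ^ n) ^ (p ^ k) : G) = 1
  rw [← zpow_natCast, ← _root_.zpow_mul, mul_comm, _root_.zpow_mul, zpow_natCast, hk, _root_.one_zpow]

lemma mem_of_map_eq (π : G →* H) (hcen : ∀ z, π z = 1 → ∀ g, z * g = g * z)
    (hZ : (∀ z, π z = 1 → ∃ k : ℕ, z ^ (p ^ k) = 1) ∨ (∀ z, π z = 1 → (orderOf z).Coprime p))
    (P : Sylow p G) {g h : G} (hh : h ∈ P) (hg : ∃ k : ℕ, g ^ (p ^ k) = 1) (he : π g = π h) :
    g ∈ P := by
  set z := h⁻¹ * g with hz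
  have hz1 : π z = 1 := by simp [hz, he]
  have hgz : g = h * z := by simp [hz]
  rcases hZ with hZ | hZ
  · obtain ⟨k, hk⟩ := hZ z hz1
    have hZp := isPGroup_zpowers hk
    haveI hnorm : (Subgroup.zpowers z).Normal := by
      constructor
      rintro _ ⟨n, rfl⟩ x
      have h3 : Commute z x := hcen z hz1 x
      have h4 := (h3.zpow_left n).symm.eq
      simp only
      rw [h4, mul_inv_cancel_right]
      exact ⟨n, rfl⟩
    have hsup := IsPGroup.to_sup_of_normal_right P.isPGroup' hZp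
    have heq := P.is_maximal' hsup le_sup_left
    rw [hgz]
    apply (P : Subgroup G).mul_mem hh
    have : z ∈ (P : Subgroup G) ⊔ Subgroup.zpowers z := (le_sup_right : Subgroup.zpowers z ≤ _) (Subgroup.mem_zpowers z)
    rw [heq] at this
    exact this
  · obtain ⟨k, hk⟩ := hg
    obtain ⟨m, hm⟩ := P.isPGroup' ⟨h, hh⟩
    have hm' : h ^ (p ^ m) = 1 := by simpa using congrArg Subtype.val hm
    have hcomm : Commute h⁻¹ g := by
      rw [hgz]
      have h3 : Commute h z := (hcen z hz1 h).symm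
      exact (Commute.refl h).inv_left.mul_right h3.inv_left
    have hzp : z ^ (p ^ (k + m)) = 1 := by
      have ha : (h⁻¹) ^ (p ^ (k + m)) = 1 := by
        rw [inv_pow, pow_add, mul_comm, pow_mul, hm', one_pow, inv_one]
      have hb : g ^ (p ^ (k + m)) = 1 := by
        rw [pow_add, pow_mul, hk, one_pow]
      rw [hz, hcomm.mul_pow, ha, hb, one_mul]
    have h5 := orderOf_dvd_of_pow_eq_one hzp
    have h6 := Nat.Coprime.pow_right (k + m) (hZ z hz1)
    have h7 := Nat.Coprime.eq_one_of_dvd h6 h5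
    rw [orderOf_eq_one_iff] at h7
    rw [hgz, h7, mul_one]
    exact hh

lemma exists_lift (π : G →* H) (hs : Function.Surjective π)
    (hZ : (∀ z, π z = 1 → ∃ k : ℕ, z ^ (p ^ k) = 1) ∨ (∀ z, π z = 1 → (orderOf z).Coprime p))
    (y : H) (hy : ∃ k : ℕ, orderOf y = p ^ k) : ∃ x : G, π x = y ∧ ∃ k : ℕ, orderOf x = p ^ k := by
  have hpp : p.Prime := hp.out
  obtain ⟨k, hk⟩ := hy
  obtain ⟨g, rfl⟩ := hs y
  have hpk : (π g) ^ (p ^ k) = 1 := by rw [← hk, pow_orderOf_eq_one]
  have hz1 : π (g ^ (p ^ k)) = 1 := by rw [map_pow, hpk]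
  rcases hZ with hZ | hZ
  · obtain ⟨j, hj⟩ := hZ _ hz1
    refine ⟨g, rfl, ?_⟩
    have h3 : g ^ (p ^ (k + j)) = 1 := by rw [pow_add, pow_mul, hj]
    obtain ⟨i, -, hi⟩ := (Nat.dvd_prime_pow hpp).1 (orderOf_dvd_of_pow_eq_one h3)
    exact ⟨i, hi⟩
  · have hc := hZ _ hz1
    set c := orderOf (g ^ (p ^ k)) with hcdef
    rcases Nat.eq_zero_or_pos k with rfl | hkpos
    · refine ⟨1, ?_, 0, by simp⟩
      rw [pow_zero] at hk
      rw [orderOf_eq_one_iff.1 hk, map_one]
    · have h1lt : 1 < p ^ k := Nat.one_lt_pow hkpos.ne' hpp.one_lt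
      obtain ⟨u, -, hu⟩ := Nat.exists_mul_mod_eq_one_of_coprime (Nat.Coprime.pow_right k hc) h1lt
      refine ⟨g ^ (c * u), ?_, ?_⟩
      · rw [map_pow, ← pow_mod_orderOf, hk, hu, pow_one]
      · have h3 : (g ^ (c * u)) ^ (p ^ k) = 1 := by
          have hc1 : (g ^ (p ^ k)) ^ c = 1 := pow_orderOf_eq_one _
          have h4 : c * u * p ^ k = p ^ k * c * u := by ring
          rw [← pow_mul, h4, pow_mul, pow_mul, hc1, one_pow]
        obtain ⟨i, -, hi⟩ := (Nat.dvd_prime_pow hpp).1 (orderOf_dvd_of_pow_eq_one h3)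
        exact ⟨i, hi⟩

theorem red_iff (π : G →* H) (hs : Function.Surjective π) (hcen : ∀ z, π z = 1 → ∀ g, z * g = g * z)
    (hZ : (∀ z, π z = 1 → ∃ k : ℕ, z ^ (p ^ k) = 1) ∨ (∀ z, π z = 1 → (orderOf z).Coprime p)) :
    Red p G ↔ Red p H := by
  have hpp : p.Prime := hp.out
  have key : ∀ P Q : Sylow p G, P.mapSurjective hs = Q.mapSurjective hs → P = Q := by
    intro P Q he
    have hle : (P : Subgroup G) ≤ Q := by
      intro g hg
      have h1 : π g ∈ ((Q.mapSurjective hs : Sylow p H) : Subgroup H) := by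
        rw [← he]
        exact ⟨g, hg, rfl⟩
      obtain ⟨h, hh, hhe⟩ := h1
      obtain ⟨k, hk⟩ := P.isPGroup' ⟨g, hg⟩
      exact mem_of_map_eq π hcen hZ Q hh ⟨k, by simpa using congrArg Subtype.val hk⟩ hhe.symm
    exact Sylow.ext (P.is_maximal' Q.isPGroup' hle).symm
  constructor
  · rintro ⟨Q, hQ⟩
    refine ⟨Q.mapSurjective hs, fun y hy => ?_⟩
    obtain ⟨x, rfl, hx⟩ := exists_lift π hs hZ y hy
    obtain ⟨P, hne, hxP⟩ := hQ x hx
    exact ⟨P.mapSurjective hs, fun h => hne (key P Q h), ⟨x, hxP, rfl⟩⟩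
  · rintro ⟨Q', hQ⟩
    obtain ⟨Q, rfl⟩ := Sylow.mapSurjective_surjective hs p Q'
    refine ⟨Q, fun x hx => ?_⟩
    obtain ⟨k, hk⟩ := hx
    have h1 : ∃ j : ℕ, orderOf (π x) = p ^ j := by
      have h2 : (π x) ^ (p ^ k) = 1 := by rw [← map_pow, ← hk, pow_orderOf_eq_one, map_one]
      obtain ⟨i, -, hi⟩ := (Nat.dvd_prime_pow hpp).1 (orderOf_dvd_of_pow_eq_one h2)
      exact ⟨i, hi⟩
    obtain ⟨P', hne, hxP⟩ := hQ (π x) h1
    obtain ⟨P, rfl⟩ := Sylow.mapSurjective_surjective hs p P'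
    obtain ⟨h, hh, hhe⟩ := hxP
    refine ⟨P, fun e => hne (by rw [e]), ?_⟩
    exact mem_of_map_eq π hcen hZ P hh ⟨k, by rw [← hk, pow_orderOf_eq_one]⟩ hhe.symm

end Transfer

section PSL

variable {F : Type*} [Field F] [Fintype F] {p : ℕ} [hp : Fact p.Prime]

/-- The transfer for `mkP`. -/
theorem red_sl_iff_red_psl : Red p SL(2, F) ↔ Red p PSL(2, F) := by
  classical
  have hsq : ∀ z : SL(2, F), (mkP z : PSL(2, F)) = 1 → z ^ 2 = 1 := by
    intro z hz
    rcases mkP_eq_one_iff.1 hz with rfl | rfl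
    · simp
    · rw [pow_two]
      apply ext2 <;> simp
  apply red_iff (mkP : SL(2, F) →* PSL(2, F)) mkP_surjective
  · intro z hz g
    rcases mkP_eq_one_iff.1 hz with rfl | rfl
    · simp
    · simp
  · by_cases hp2 : p = 2
    · subst hp2
      left
      intro z hz
      exact ⟨1, by simpa using hsq z hz⟩
    · right
      intro z hz
      have h3 := orderOf_dvd_of_pow_eq_one (hsq z hz)
      have h4 : Nat.Coprime 2 p := (Nat.coprime_primes Nat.prime_two hp.out).2 (Ne.symm hp2)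
      exact Nat.Coprime.coprime_dvd_left h3 h4

lemma neg_eq_self_of_two (h2 : (2 : F) = 0) (X : SL(2, F)) : -X = X := by
  have z : ∀ a : F, -a = a := fun a => by linear_combination (-a) * h2
  apply ext2 <;> simp [z]

/-- The centraliser of a non-trivial element of prime power order. -/
lemma mem_cbar_of_comm (hpc : p ≠ 2 ∨ (2 : F) = 0) {A Y : SL(2, F)} (hA : NC A) {k : ℕ}
    (hk : (mkP A : PSL(2, F)) ^ (p ^ k) = 1) (h : mkP Y * mkP A = (mkP A * mkP Y : PSL(2, F))) :
    mkP Y ∈ cbar A := by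
  rw [mkP_mem_cbar]
  rw [← map_mul, ← map_mul, mkP_eq_iff] at h
  rcases h with h | h
  · exact h
  · rcases hpc with hp2 | h2
    · by_cases h2 : (2 : F) = 0
      · rw [neg_eq_self_of_two h2] at h
        exact h
      · exfalso
        have h3 : tr A = 0 := by
          have h4 : Y * A * Y⁻¹ = -A := by
            have h5 : A * Y = -(Y * A) := h
            have h6 : Y * A = -(A * Y) := by rw [h5]; simp
            rw [h6]
            simp
          have h5 := tr_conj Y A
          rw [h4, tr_neg] at h5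
          have h6 : 2 * tr A = 0 := by linear_combination -h5
          exact (mul_eq_zero.1 h6).resolve_left h2
        have h4 : A * A = -1 := (mul_self_eq_neg_one_iff A).2 h3
        have h5 : (mkP A : PSL(2, F)) ^ 2 = 1 := by
          rw [pow_two, ← map_mul, h4, mkP_neg_one]
        have h6 := orderOf_dvd_of_pow_eq_one h5
        have h7 := orderOf_dvd_of_pow_eq_one hk
        have h8 : Nat.Coprime 2 (p ^ k) := Nat.Coprime.pow_right k
          ((Nat.coprime_primes Nat.prime_two hp.out).2 (Ne.symm hp2))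
        have h9 : orderOf (mkP A : PSL(2, F)) = 1 := Nat.eq_one_of_dvd_coprimes h8 h6 h7
        rw [orderOf_eq_one_iff, mkP_eq_one_iff] at h9
        exact h9.elim hA.1 hA.2
    · rw [neg_eq_self_of_two h2] at h
      exact h

lemma comm_of_cbar {A : SL(2, F)} (hA : NC A) {u v : PSL(2, F)} (hu : u ∈ cbar A) (hv : v ∈ cbar A) :
    u * v = v * u := by
  obtain ⟨U, rfl⟩ := mkP_surjective u
  obtain ⟨V, rfl⟩ := mkP_surjective v
  rw [mkP_mem_cbar] at hu hv
  rw [← map_mul, ← map_mul, commute_of_commute hA hu hv]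

/-- The `p`-subgroups of `PSL(2, F)` are abelian when `p` is odd or the characteristic. -/
lemma comm_of_isPGroup (hpc : p ≠ 2 ∨ (2 : F) = 0) {Q : Subgroup PSL(2, F)} (hQ : IsPGroup p Q)
    {a b : PSL(2, F)} (ha : a ∈ Q) (hb : b ∈ Q) : a * b = b * a := by
  by_cases hn : Nontrivial Q
  · haveI := hQ.center_nontrivial
    obtain ⟨z, hz⟩ := exists_ne (1 : Subgroup.center Q)
    obtain ⟨A, hA⟩ := mkP_surjective (z.1.1)
    have hz1 : z.1.1 ≠ 1 := fun e => hz (Subtype.ext (Subtype.ext e))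
    have hNC : NC A := by
      constructor
      · rintro rfl
        exact hz1 (by rw [← hA, map_one])
      · rintro rfl
        exact hz1 (by rw [← hA, mkP_neg_one])
    obtain ⟨k, hk⟩ := hQ z.1
    have hk' : (mkP A : PSL(2, F)) ^ (p ^ k) = 1 := by
      rw [hA]
      simpa using congrArg Subtype.val hk
    have hc : ∀ c ∈ Q, c ∈ cbar A := by
      intro c hc
      obtain ⟨C, rfl⟩ := mkP_surjective c
      apply mem_cbar_of_comm hpc hNC hk'
      rw [hA]
      have := Subgroup.mem_center_iff.1 z.2 ⟨mkP C, hc⟩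
      simpa using congrArg Subtype.val this
    exact comm_of_cbar hNC (hc a ha) (hc b hb)
  · rw [not_nontrivial_iff_subsingleton] at hn
    have := congrArg Subtype.val (Subsingleton.elim (⟨a, ha⟩ : Q) ⟨b, hb⟩)
    simp only at this
    rw [this]

/-- Sylow subgroups of `PSL(2, F)` are TI when `p` is odd or the characteristic. -/
theorem sylow_ti (hpc : p ≠ 2 ∨ (2 : F) = 0) (P Q : Sylow p PSL(2, F)) {g : PSL(2, F)} (hgP : g ∈ P)
    (hgQ : g ∈ Q) (hg : g ≠ 1) : P = Q := by
  obtain ⟨B, rfl⟩ := mkP_surjective g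
  have hNC : NC B := by
    constructor
    · rintro rfl
      exact hg (map_one _)
    · rintro rfl
      exact hg mkP_neg_one
  obtain ⟨k, hk⟩ := P.isPGroup' ⟨mkP B, hgP⟩
  have hk' : (mkP B : PSL(2, F)) ^ (p ^ k) = 1 := by
    simpa using congrArg Subtype.val hk
  have hc : ∀ R : Sylow p PSL(2, F), mkP B ∈ R → ∀ c ∈ R, c ∈ cbar B := by
    intro R hR c hc
    obtain ⟨C, rfl⟩ := mkP_surjective c
    exact mem_cbar_of_comm hpc hNC hk' (comm_of_isPGroup hpc R.isPGroup' hc hR)
  have hle : (P : Subgroup PSL(2, F)) ≤ Subgroup.normalizer ((Q : Subgroup PSL(2, F)) : Set PSL(2, F)) := by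
    intro a ha
    rw [Subgroup.mem_normalizer_iff]
    have hcomm : ∀ b ∈ Q, a * b * a⁻¹ = b := by
      intro b hb
      rw [comm_of_cbar hNC (hc P hgP a ha) (hc Q hgQ b hb)]
      group
    intro b
    constructor
    · intro hb
      rw [hcomm b hb]
      exact hb
    · intro hb
      have h1 := hcomm _ hb
      have h2 : a * (a * b * a⁻¹) * a⁻¹ = a * b * a⁻¹ := h1
      have h3 : a * b * a⁻¹ = b := by
        apply mul_left_cancel (a := a)
        apply mul_right_cancel (b := a⁻¹)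
        exact h2
      rwa [h3] at hb
  have hsup := IsPGroup.to_sup_of_normal_right' P.isPGroup' Q.isPGroup' hle
  have heq := Q.is_maximal' hsup le_sup_right
  have hPQ : (P : Subgroup PSL(2, F)) ≤ Q := by
    rw [← heq]
    exact le_sup_left
  exact Sylow.ext (P.is_maximal' Q.isPGroup' hPQ).symm

/-- There is no redundant Sylow subgroup for odd `p` or for the characteristic. -/
theorem not_red_psl (hpc : p ≠ 2 ∨ (2 : F) = 0) : ¬ Red p PSL(2, F) := by
  classical
  rintro ⟨Q, hQ⟩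
  by_cases hb : (Q : Subgroup PSL(2, F)) = ⊥
  · obtain ⟨P, hne, -⟩ := hQ 1 ⟨0, by simp⟩
    apply hne
    obtain ⟨g, hg⟩ := MulAction.exists_smul_eq PSL(2, F) Q P
    apply Sylow.ext
    rw [← hg, Sylow.coe_subgroup_smul, hb]
    simp
  · obtain ⟨g, hg, h1⟩ := (Subgroup.bot_or_exists_ne_one _).resolve_left hb
    obtain ⟨k, hk⟩ := Q.isPGroup' ⟨g, hg⟩
    have hk' : g ^ (p ^ k) = 1 := by simpa using congrArg Subtype.val hk
    obtain ⟨i, -, hi⟩ := (Nat.dvd_prime_pow hp.out).1 (orderOf_dvd_of_pow_eq_one hk')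
    obtain ⟨P, hne, hP⟩ := hQ g ⟨i, hi⟩
    exact hne (sylow_ti hpc P Q hP hg h1)

end PSL

section SL

variable {F : Type*} [Field F] [Fintype F]

/-- An element of `2`-power order which is not central has nonzero discriminant. -/
lemma disc_ne_zero_of_pow (h2 : (2 : F) ≠ 0) {y : SL(2, F)} (hy : NC y) {m : ℕ}
    (h : y ^ (2 ^ m) = 1) : disc y ≠ 0 := by
  intro hd
  obtain ⟨p, hp, hchar⟩ := DicksonCor.exists_char F
  have : Fact p.Prime := ⟨hp⟩
  have hP := (isP_member (H := ⊤) p hy hd).pgroup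
  obtain ⟨r, hr⟩ := hP ⟨⟨mkP y, trivial⟩, self_mem_member (show mkP y ∈ (⊤ : Subgroup PSL(2, F)) from trivial)⟩
  have h3 : (mkP y) ^ (p ^ r) = 1 := by
    have := congrArg (fun y : member (⊤ : Subgroup PSL(2, F)) y => ((y : (⊤ : Subgroup PSL(2, F))) : PSL(2, F))) hr
    simpa using this
  rw [← map_pow, mkP_eq_one_iff] at h3
  have h4 : y ^ (2 * p ^ r) = 1 := by
    rw [mul_comm, pow_mul]
    rcases h3 with h3 | h3
    · rw [h3]; simp
    · rw [h3, pow_two]
      apply ext2 <;> simp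
  have hp2 : p ≠ 2 := by
    rintro rfl
    exact h2 (by exact_mod_cast CharP.cast_eq_zero F 2)
  have h5 : Nat.Coprime (2 ^ m) (p ^ r) := Nat.Coprime.pow _ _
    ((Nat.coprime_primes Nat.prime_two hp).2 (Ne.symm hp2))
  have h6 : orderOf y ∣ 2 := by
    have h7 := orderOf_dvd_of_pow_eq_one h4
    have h8 := orderOf_dvd_of_pow_eq_one h
    exact (Nat.Coprime.coprime_dvd_left h8 h5).dvd_of_dvd_mul_right h7
  have h9 : y * y = 1 := by
    rw [← pow_two]
    exact orderOf_dvd_iff_pow_eq_one.1 h6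
  rcases (mul_self_eq_one_iff h2 _).1 h9 with h10 | h10
  · exact hy.1 h10
  · exact hy.2 h10

lemma nc_conj {A : SL(2, F)} (hA : NC A) (z : SL(2, F)) : NC (z * A * z⁻¹) := by
  constructor
  · intro e
    rw [mul_inv_eq_one] at e
    exact hA.1 (mul_left_cancel (a := z) (by rw [e, mul_one]))
  · intro e
    apply hA.2
    have h3 := conj_neg_one z
    rw [← h3] at e
    exact mul_left_cancel (mul_right_cancel e)

/-- If a Sylow subgroup contains `A`, with `⟨A⟩` of index two in a Sylow subgroup, it normalises the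
centraliser of `A`. -/
lemma le_normalizer_of_mem {T R : Subgroup SL(2, F)} (hT : IsTorus T) {A : SL(2, F)} (hA : NC A)
    (hd : disc A ≠ 0) (hc : Subgroup.centralizer ({A} : Set SL(2, F)) = T) (hAR : A ∈ R)
    (hcard : Nat.card R = 2 * orderOf A) : R ≤ Subgroup.normalizer (T : Set SL(2, F)) := by
  have hAT : A ∈ T := by
    rw [← hc, Subgroup.mem_centralizer_singleton_iff]
  let D : Subgroup R := Subgroup.zpowers (⟨A, hAR⟩ : R)
  have hD : D.index = 2 := by
    have h1 := D.index_mul_card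
    have h2 : Nat.card D = orderOf A := by
      rw [Nat.card_zpowers, Subgroup.orderOf_mk]
    rw [h2, hcard] at h1
    exact Nat.eq_of_mul_eq_mul_right (orderOf_pos A) h1
  haveI hn : D.Normal := Subgroup.normal_of_index_eq_two hD
  intro x hx
  have h1 : (⟨x, hx⟩ : R) * ⟨A, hAR⟩ * (⟨x, hx⟩ : R)⁻¹ ∈ D :=
    hn.conj_mem _ (Subgroup.mem_zpowers _) _
  obtain ⟨n, hn'⟩ := h1
  have h2 : x * A * x⁻¹ = A ^ n := by
    have := congrArg Subtype.val hn'
    simpa using this.symm
  have h3 : A * (x * A * x⁻¹) = (x * A * x⁻¹) * A := by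
    rw [h2]
    exact (Commute.zpow_right (Commute.refl A) n).eq
  rcases eq_or_eq_inv_of_commute hA hd (tr_conj x A) (nc_conj hA x) h3 with h4 | h4
  · apply IsTorus.le_normalizer (T := T)
    rw [← hc, Subgroup.mem_centralizer_singleton_iff]
    rwa [mul_inv_eq_iff_eq_mul] at h4
  · exact hT.mem_normalizer_of_inverts hAT hA.1 hA.2 h4

/-- Non-redundancy when `q ± 1` is a power of two. -/
theorem not_red_of_pow (hodd : Odd (Fintype.card F))
    (h : (∃ k : ℕ, Fintype.card F + 1 = 2 ^ k) ∨ (∃ k : ℕ, Fintype.card F = 2 ^ k + 1)) :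
    ¬ Red 2 SL(2, F) := by
  classical
  have h2 : (2 : F) ≠ 0 := two_ne_zero_of_odd_card hodd
  have hq2 : 2 ≤ Fintype.card F := Fintype.one_lt_card
  have hq3 : Fintype.card F % 2 = 1 := Nat.odd_iff.1 hodd
  rintro ⟨Q, hQ⟩
  obtain ⟨k, A, B, hg⟩ := exists_gens hodd Q
  have hn := hg.two_le_n
  have hNC : NC A := by
    refine ⟨hg.A_ne_one, ?_⟩
    rintro rfl
    have h3 : (-1 : SL(2, F)) ^ 2 = 1 := by
      rw [pow_two]
      apply ext2 <;> simp
    have h4 := orderOf_dvd_of_pow_eq_one h3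
    rw [hg.ord] at h4
    have h5 := Nat.le_of_dvd (by norm_num) h4
    omega
  have hord : orderOf A = 2 ^ (k + 1) := by rw [hg.ord, pow_succ]; ring
  have hd : disc A ≠ 0 := disc_ne_zero_of_pow h2 hNC (m := k + 1) (by rw [← hord, pow_orderOf_eq_one])
  obtain ⟨P, hne, hAP⟩ := hQ A ⟨k + 1, hord⟩
  obtain ⟨T, hT, -, hcard, hc⟩ := MemberCyc.centralizer_eq_torus hNC hd
  have hAT : A ∈ T := by
    rw [← hc, Subgroup.mem_centralizer_singleton_iff]
  have h4T : 4 ∣ Nat.card T := by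
    have h1 : orderOf A ∣ Nat.card T := Subgroup.orderOf_dvd_natCard T hAT
    rw [hg.ord] at h1
    obtain ⟨r, hr⟩ : ∃ r, k = r + 1 := ⟨k - 1, by have := hg.one_le; omega⟩
    refine dvd_trans ⟨2 ^ r, ?_⟩ h1
    rw [hr, pow_succ]
    ring
  -- the torus is a `2`-group
  have hpow : ∃ e, Nat.card T = 2 ^ e := by
    rcases h with ⟨m, hm⟩ | ⟨m, hm⟩
    · rcases hcard with hc1 | hc1
      · exact ⟨m, by rw [hc1, hm]⟩
      · exfalso
        rw [hc1] at h4T
        obtain ⟨r, hr⟩ : ∃ r, m = r + 1 := by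
          refine ⟨m - 1, ?_⟩
          rcases m with _ | m
          · simp at hm
          · simp
        rcases r with _ | r
        · subst hr
          norm_num at hm
          omega
        · subst hr
          have : 2 ^ (r + 1 + 1) = 4 * 2 ^ r := by ring
          omega
    · rcases hcard with hc1 | hc1
      · -- `q = 3`
        rw [hc1] at h4T
        rcases m with _ | _ | r
        · norm_num at hm
          omega
        · norm_num at hm
          rw [hc1, hm]
          exact ⟨2, rfl⟩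
        · exfalso
          have : 2 ^ (r + 1 + 1) = 4 * 2 ^ r := by ring
          omega
      · refine ⟨m, ?_⟩
        rw [hc1, hm]
        simp
  obtain ⟨e, he⟩ := hpow
  have hNc := hT.card_normalizer h2
  have hNp : IsPGroup 2 (Subgroup.normalizer (T : Set SL(2, F))) :=
    IsPGroup.of_card (n := e + 1) (by rw [hNc, he, pow_succ]; ring)
  have hcardS : ∀ R : Sylow 2 SL(2, F), Nat.card R = 2 * orderOf A := by
    intro R
    rw [Nat.card_congr (Sylow.equiv R Q).toEquiv, hg.card, hg.ord]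
    ring
  have hle : ∀ R : Sylow 2 SL(2, F), A ∈ R → (R : Subgroup SL(2, F)) = Subgroup.normalizer (T : Set SL(2, F)) := by
    intro R hR
    exact (R.is_maximal' hNp (le_normalizer_of_mem hT hNC hd hc hR (hcardS R))).symm
  apply hne
  apply Sylow.ext
  rw [hle P hAP, hle Q hg.memA]

/-- The key step of the redundancy: the conjugate by an element of odd order. -/
lemma exists_conj_ne (hodd : Odd (Fintype.card F))
    (hn1 : ¬ ∃ k : ℕ, Fintype.card F + 1 = 2 ^ k) (hn2 : ¬ ∃ k : ℕ, Fintype.card F = 2 ^ k + 1)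
    (Q : Sylow 2 SL(2, F)) {y w : SL(2, F)} (hy : NC y) (hyQ : y ∈ Q) (hwQ : w ∈ Q)
    (hw : w * y * w⁻¹ = y⁻¹) :
    ∃ t : SL(2, F), t * y = y * t ∧ (t • Q : Sylow 2 SL(2, F)) ≠ Q := by
  classical
  have h2 : (2 : F) ≠ 0 := two_ne_zero_of_odd_card hodd
  have hq2 : 2 ≤ Fintype.card F := Fintype.one_lt_card
  obtain ⟨r, hr⟩ := Q.isPGroup' ⟨y, hyQ⟩
  have hr' : y ^ (2 ^ r) = 1 := by simpa using congrArg Subtype.val hr
  have hd := disc_ne_zero_of_pow h2 hy hr'
  obtain ⟨T, hT, -, hcard, hc⟩ := MemberCyc.centralizer_eq_torus hy hd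
  have hyT : y ∈ T := by
    rw [← hc, Subgroup.mem_centralizer_singleton_iff]
  have hne : ¬ ∃ e, Nat.card T = 2 ^ e := by
    rintro ⟨e, he⟩
    rcases hcard with h1 | h1
    · exact hn1 ⟨e, by rw [← h1, he]⟩
    · apply hn2
      refine ⟨e, ?_⟩
      rw [← he, h1]
      omega
  obtain ⟨ℓ, hℓ, hdvd, hodd2⟩ : ∃ ℓ, ℓ.Prime ∧ ℓ ∣ Nat.card T ∧ Odd ℓ := by
    rcases Nat.eq_two_pow_or_exists_odd_prime_and_dvd (Nat.card T) with h1 | h1
    · exact absurd h1 hne
    · exact h1
  haveI : Fact ℓ.Prime := ⟨hℓ⟩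
  obtain ⟨t, ht⟩ := exists_prime_orderOf_dvd_card' (G := T) ℓ hdvd
  refine ⟨t, ?_, ?_⟩
  · have h3 : (t : SL(2, F)) ∈ Subgroup.centralizer ({y} : Set SL(2, F)) := by
      rw [hc]
      exact t.2
    exact Subgroup.mem_centralizer_singleton_iff.1 h3
  · intro he
    have hN := Sylow.smul_eq_iff_mem_normalizer.1 he
    have hwN := hT.mem_normalizer_of_inverts hyT hy.1 hy.2 hw
    have hwT : w ∉ T := by
      intro hwT
      have h3 := hT.comm w hwT y hyT
      rw [h3, mul_inv_cancel_right] at hw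
      have h4 : y * y = 1 := by
        nth_rw 1 [hw]
        exact inv_mul_cancel y
      rcases (mul_self_eq_one_iff h2 _).1 h4 with h5 | h5
      · exact hy.1 h5
      · exact hy.2 h5
    have hinv := hT.conj_eq_inv hwN hwT t.2
    have hmem : (t : SL(2, F)) * w * (t : SL(2, F))⁻¹ ∈ (Q : Subgroup SL(2, F)) :=
      (Subgroup.mem_normalizer_iff.1 hN w).1 hwQ
    have h3 : (t : SL(2, F)) * t = (t * w * (t : SL(2, F))⁻¹) * w⁻¹ := by
      have h4 : w * (t : SL(2, F))⁻¹ * w⁻¹ = t := by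
        have : w * (t : SL(2, F))⁻¹ * w⁻¹ = (w * t * w⁻¹)⁻¹ := by group
        rw [this, hinv, inv_inv]
      calc (t : SL(2, F)) * t = t * (w * (t : SL(2, F))⁻¹ * w⁻¹) := by rw [h4]
        _ = _ := by group
    have h4 : (t : SL(2, F)) * t ∈ (Q : Subgroup SL(2, F)) := by
      rw [h3]
      exact Subgroup.mul_mem _ hmem (Subgroup.inv_mem _ hwQ)
    obtain ⟨s, hs⟩ := Q.isPGroup' ⟨_, h4⟩
    have hs' : ((t : SL(2, F)) * t) ^ (2 ^ s) = 1 := by simpa using congrArg Subtype.val hs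
    have h5 : (t : SL(2, F)) ^ (2 ^ (s + 1)) = 1 := by
      rw [← hs', ← pow_two, ← pow_mul, pow_succ, mul_comm]
    have h6 := orderOf_dvd_of_pow_eq_one h5
    rw [Subgroup.orderOf_coe, ht] at h6
    have h7 := hℓ.dvd_of_dvd_pow h6
    have h8 := (Nat.prime_dvd_prime_iff_eq hℓ Nat.prime_two).1 h7
    rw [h8] at hodd2
    exact absurd hodd2 (by decide)

/-- Redundancy when `q ± 1` are not powers of two. -/
theorem red_of_not_pow (hodd : Odd (Fintype.card F))
    (hn1 : ¬ ∃ k : ℕ, Fintype.card F + 1 = 2 ^ k) (hn2 : ¬ ∃ k : ℕ, Fintype.card F = 2 ^ k + 1) :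
    Red 2 SL(2, F) := by
  classical
  have h2 : (2 : F) ≠ 0 := two_ne_zero_of_odd_card hodd
  obtain ⟨Q⟩ : Nonempty (Sylow 2 SL(2, F)) := inferInstance
  obtain ⟨k, A, B, hg⟩ := exists_gens hodd Q
  refine ⟨Q, fun x hx => ?_⟩
  by_cases hxQ : x ∈ Q
  · -- the element to conjugate with
    have hmain : ∀ y w : SL(2, F), NC y → y ∈ Q → w ∈ Q → w * y * w⁻¹ = y⁻¹ → x * y = y * x →
        (x = y ∨ ∀ g : SL(2, F), x * g = g * x) → ∃ P : Sylow 2 SL(2, F), P ≠ Q ∧ x ∈ P := by
      intro y w hy hyQ hwQ hw hxy hcen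
      obtain ⟨t, ht, hne⟩ := exists_conj_ne hodd hn1 hn2 Q hy hyQ hwQ hw
      refine ⟨t • Q, hne, ?_⟩
      have h1 : t * x * t⁻¹ ∈ ((t • Q : Sylow 2 SL(2, F)) : Subgroup SL(2, F)) := by
        rw [Sylow.coe_subgroup_smul]
        exact Subgroup.smul_mem_pointwise_smul x (MulAut.conj t) _ hxQ
      have h3 : t * x * t⁻¹ = x := by
        rcases hcen with rfl | hcen
        · rw [ht]; group
        · rw [(hcen t).symm]; group
      rwa [h3] at h1
    have hqq := hg.isQ
    have hNCA : NC A := by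
      refine ⟨hg.A_ne_one, ?_⟩
      rintro rfl
      have hn := hg.two_le_n
      have h3 : (-1 : SL(2, F)) ^ 2 = 1 := by
        rw [pow_two]
        apply ext2 <;> simp
      have h4 := orderOf_dvd_of_pow_eq_one h3
      rw [hg.ord] at h4
      have h5 := Nat.le_of_dvd (by norm_num) h4
      omega
    by_cases hx1 : x = 1
    · subst hx1
      exact hmain A B hNCA hg.memA hg.memB hg.inv (by simp) (Or.inr (by simp))
    by_cases hx2 : x = -1
    · subst hx2
      exact hmain A B hNCA hg.memA hg.memB hg.inv (by simp) (Or.inr (by simp))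
    have hNCx : NC x := ⟨hx1, hx2⟩
    rcases hg.cases x hxQ with ⟨i, hi⟩ | ⟨i, hi⟩
    · refine hmain x B hNCx hxQ hg.memB ?_ rfl (Or.inl rfl)
      rw [hi, ← inv_pow, ← hg.inv, conj_pow]
    · have hI := (Q : Subgroup SL(2, F)).pow_mem hg.memA (2 ^ (k - 1))
      refine hmain x _ hNCx hxQ hI ?_ rfl (Or.inl rfl)
      set I := A ^ (2 ^ (k - 1)) with hIdef
      have hIA : I * A ^ i = A ^ i * I := by
        rw [hIdef]
        exact (Commute.pow_pow (Commute.refl A) _ _).eq
      have hanti : I * B = -(B * I) := hqq.anti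
      have hxx : x * x = -1 := by
        rw [hi]
        exact hg.mul_self_of_B i
      have hxinv : x⁻¹ = -x := by
        rw [inv_eq_iff_mul_eq_one, mul_neg, hxx]
        simp
      rw [hxinv]
      have h3 : I * x = -x * I := by
        rw [hi, ← mul_assoc, hanti, neg_mul, mul_assoc, hIA, neg_mul, mul_assoc]
      rw [h3]
      simp
  · obtain ⟨k', hk'⟩ := hx
    have hZ := Redundant.isPGroup_zpowers (p := 2) (z := x) (k := k') (by rw [← hk', pow_orderOf_eq_one])
    obtain ⟨P, hP⟩ := hZ.exists_le_sylow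
    refine ⟨P, ?_, hP (Subgroup.mem_zpowers x)⟩
    rintro rfl
    exact hxQ (hP (Subgroup.mem_zpowers x))

/-- The statement for `SL(2, F)`. -/
theorem sl_iff (p : ℕ) [hp : Fact p.Prime] :
    Red p SL(2, F) ↔ (p = 2 ∧ (¬ ∃ k : ℕ, Fintype.card F + 1 = 2 ^ k) ∧ (¬ ∃ k : ℕ, Fintype.card F = 2 ^ k) ∧
        ¬ ∃ k : ℕ, Fintype.card F = 2 ^ k + 1) := by
  by_cases hpc : p ≠ 2 ∨ (2 : F) = 0
  · have h1 : ¬ Red p SL(2, F) := by
      rw [red_sl_iff_red_psl]
      exact not_red_psl hpc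
    constructor
    · exact fun h => absurd h h1
    · rintro ⟨rfl, h3, h4, h5⟩
      rcases hpc with h6 | h6
      · exact absurd rfl h6
      · exfalso
        apply h4
        have hc : ringChar F = 2 :=
          CharP.ringChar_of_prime_eq_zero (R := F) Nat.prime_two (by exact_mod_cast h6)
        haveI : CharP F 2 := by
          rw [← hc]
          exact ringChar.charP F
        obtain ⟨n, -, hn⟩ := FiniteField.card F 2
        exact ⟨n, hn⟩
  · push Not at hpc
    obtain ⟨rfl, h2⟩ := hpc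
    have hodd : Odd (Fintype.card F) := by
      rw [← Nat.not_even_iff_odd]
      intro he
      have hc := FiniteField.even_card_iff_char_two.2 (Nat.even_iff.1 he)
      apply h2
      have := CharP.cast_eq_zero F (ringChar F)
      rw [hc] at this
      exact_mod_cast this
    have hnp : ¬ ∃ k : ℕ, Fintype.card F = 2 ^ k := by
      rintro ⟨k, hk⟩
      have hq2 : 2 ≤ Fintype.card F := Fintype.one_lt_card
      rcases k with _ | k
      · simp at hk
        omega
      · rw [hk] at hodd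
        rw [pow_succ] at hodd
        exact (Nat.not_even_iff_odd.2 hodd) ⟨2 ^ k, by ring⟩
    constructor
    · intro hR
      refine ⟨rfl, ?_, hnp, ?_⟩
      · intro h
        exact not_red_of_pow hodd (Or.inl h) hR
      · intro h
        exact not_red_of_pow hodd (Or.inr h) hR
    · rintro ⟨-, h3, -, h5⟩
      exact red_of_not_pow hodd h3 h5

end SL

end Cfsg.Agent.Lib.PSL2.Redundant
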