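import Mathlib
import Cfsg.Agent.Lib.PSL2.CayleyThree

/-!
The element orders of `PSL(3,3)`: the set of divisors of 8, 6 and 13, by the Cayley-Hamilton relation.
-/

set_option autoImplicit false
set_option maxRecDepth 100000

namespace Cfsg.Agent.Lib.PSL2.SpecPSL33

open Matrix
open Cfsg.Agent.Lib.PSL2.CayleyThree
open scoped MatrixGroups

theorem iter_Z3 : ∀ t s : ZMod 3, iter t s 8 = (0, 0, 1) ∨ iter t s 6 = (0, 0, 1) ∨
    iter t s 13 = (0, 0, 1) := by
  decide +kernel

instance fact3 : Fact (Nat.Prime 3) := ⟨Nat.prime_three⟩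

section

variable {F : Type*} [Field F] (e : F ≃+* ZMod 3)

include e in
theorem pow_cases (g : SL(3, F)) : g ^ 8 = 1 ∨ g ^ 6 = 1 ∨ g ^ 13 = 1 := by
  have hdet : (g.1).det = 1 := g.2
  have hi : ∀ n, iter (e (tr3 g.1)) (e (sm3 g.1)) n = (0, 0, 1) → g ^ n = 1 := by
    intro n h
    have h2 := iter_eq_of_map (e : F →+* ZMod 3) e.injective _ _ n h
    have h3 := pow_eq_one g.1 hdet n h2
    apply Subtype.ext
    simpa using h3
  rcases iter_Z3 (e (tr3 g.1)) (e (sm3 g.1)) with h | h | h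
  · exact Or.inl (hi _ h)
  · exact Or.inr (Or.inl (hi _ h))
  · exact Or.inr (Or.inr (hi _ h))

/-- pull back a matrix from the model -/
noncomputable def pull (W : Matrix (Fin 3) (Fin 3) (ZMod 3)) : Matrix (Fin 3) (Fin 3) F :=
  (e.symm : ZMod 3 →+* F).mapMatrix W

theorem pull_injective : Function.Injective (pull e) := by
  intro a b h
  refine Matrix.ext fun i j => ?_
  have := congrFun (congrFun h i) j
  exact e.symm.injective this

theorem pull_mul (a b : Matrix (Fin 3) (Fin 3) (ZMod 3)) : pull e (a * b) = pull e a * pull e b :=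
  map_mul _ a b

theorem pull_pow (a : Matrix (Fin 3) (Fin 3) (ZMod 3)) (n : ℕ) : pull e (a ^ n) = pull e a ^ n :=
  map_pow _ a n

theorem pull_one : pull e (1 : Matrix (Fin 3) (Fin 3) (ZMod 3)) = 1 :=
  map_one _

/-- an element of `SL` from a checked matrix -/
noncomputable def mkSL (W : Matrix (Fin 3) (Fin 3) (ZMod 3)) (hdet : W.det = 1) : SL(3, F) :=
  ⟨pull e W, by
      have : (pull e W).det = (e.symm : ZMod 3 →+* F) W.det :=
        (RingHom.map_det (e.symm : ZMod 3 →+* F) W).symm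
      rw [this, hdet, map_one]⟩

theorem mkSL_coe (W : Matrix (Fin 3) (Fin 3) (ZMod 3)) (hdet : W.det = 1) :
    (mkSL e W hdet).1 = pull e W := rfl

theorem mkSL_pow_eq_one (W : Matrix (Fin 3) (Fin 3) (ZMod 3)) (hdet : W.det = 1) (n : ℕ)
    (h : W ^ n = 1) : (mkSL e W hdet) ^ n = 1 := by
  apply Subtype.ext
  have : ((mkSL e W hdet) ^ n).1 = pull e (W ^ n) := by
    rw [pull_pow, ← mkSL_coe e W hdet]
    rfl
  rw [this, h, pull_one]
  rfl

theorem mkSL_noncomm (W S : Matrix (Fin 3) (Fin 3) (ZMod 3)) (hdet : W.det = 1)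
    (hdetS : S.det = 1) (n : ℕ) (h : W ^ n * S ≠ S * W ^ n) :
    (mkSL e W hdet) ^ n * (mkSL e S hdetS) ≠ (mkSL e S hdetS) * (mkSL e W hdet) ^ n := by
  intro hc
  apply h
  apply pull_injective e
  have h1 := congrArg (fun g : SL(3, F) => g.1) hc
  have e1 : pull e (W ^ n * S) = ((mkSL e W hdet) ^ n * (mkSL e S hdetS)).1 := by
    rw [pull_mul, pull_pow, ← mkSL_coe e W hdet, ← mkSL_coe e S hdetS]
    rfl
  have e2 : pull e (S * W ^ n) = ((mkSL e S hdetS) * (mkSL e W hdet) ^ n).1 := by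
    rw [pull_mul, pull_pow, ← mkSL_coe e W hdet, ← mkSL_coe e S hdetS]
    rfl
  rw [e1, e2]
  exact h1

end

/-- order 13 -/
def W13 : Matrix (Fin 3) (Fin 3) (ZMod 3) := !![0, 0, 1; 1, 0, 1; 0, 1, 0]
/-- order 8 -/
def W8 : Matrix (Fin 3) (Fin 3) (ZMod 3) := !![0, 0, 1; 1, 0, 2; 0, 1, 0]
/-- order 6 -/
def W6 : Matrix (Fin 3) (Fin 3) (ZMod 3) := !![0, 0, 1; 1, 0, 1; 0, 1, 2]
/-- a test element -/
def T : Matrix (Fin 3) (Fin 3) (ZMod 3) := !![1, 1, 0; 0, 1, 0; 0, 0, 1]

theorem det_W13 : W13.det = 1 := by rw [Matrix.det_fin_three]; decide +kernel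
theorem det_W8 : W8.det = 1 := by rw [Matrix.det_fin_three]; decide +kernel
theorem det_W6 : W6.det = 1 := by rw [Matrix.det_fin_three]; decide +kernel
theorem det_T : T.det = 1 := by rw [Matrix.det_fin_three]; decide +kernel

theorem W13_pow : W13 ^ 13 = 1 := by decide +kernel
theorem W8_pow : W8 ^ 8 = 1 := by decide +kernel
theorem W6_pow : W6 ^ 6 = 1 := by decide +kernel
theorem W13_nc : W13 ^ 1 * T ≠ T * W13 ^ 1 := by decide +kernel
theorem W8_nc : W8 ^ 4 * T ≠ T * W8 ^ 4 := by decide +kernel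
theorem W6_nc2 : W6 ^ 3 * T ≠ T * W6 ^ 3 := by decide +kernel
theorem W6_nc3 : W6 ^ 2 * T ≠ T * W6 ^ 2 := by decide +kernel

theorem range_orderOf_psl {F : Type*} [Field F] [Fintype F] (hF : Fintype.card F = 3) :
    Set.range (orderOf : Matrix.ProjectiveSpecialLinearGroup (Fin 3) F → ℕ) =
      {d | d ∣ 8 ∨ d ∣ 6 ∨ d ∣ 13} := by
  let e : F ≃+* ZMod 3 := FiniteField.ringEquivOfCardEq (by rw [hF, ZMod.card])
  ext d
  simp only [Set.mem_range, Set.mem_ofPred_eq]
  constructor
  · rintro ⟨x, rfl⟩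
    obtain ⟨g, rfl⟩ := QuotientGroup.mk_surjective x
    rcases pow_cases e g with h | h | h
    · left
      apply orderOf_dvd_of_pow_eq_one
      rw [← QuotientGroup.mk_pow, h]; rfl
    · right; left
      apply orderOf_dvd_of_pow_eq_one
      rw [← QuotientGroup.mk_pow, h]; rfl
    · right; right
      apply orderOf_dvd_of_pow_eq_one
      rw [← QuotientGroup.mk_pow, h]; rfl
  · let s : SL(3, F) := mkSL e T det_T
    rintro (h | h | h)
    · have h1 : orderOf ((mkSL e W8 det_W8 : SL(3, F)) :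
          Matrix.ProjectiveSpecialLinearGroup (Fin 3) F) = 8 := by
        apply orderOf_mk_center _ s _ (by norm_num) (mkSL_pow_eq_one e _ _ _ W8_pow)
        intro p hp hpn
        have hp2 : p = 2 := by
          have : p ∣ 2 ^ 3 := by simpa using hpn
          exact (Nat.prime_dvd_prime_iff_eq hp Nat.prime_two).mp (hp.dvd_of_dvd_pow this)
        subst hp2
        exact mkSL_noncomm e W8 T _ _ 4 W8_nc
      exact mem_range_of_dvd _ (by rw [h1]; norm_num) (by rw [h1]; exact h)
    · have h1 : orderOf ((mkSL e W6 det_W6 : SL(3, F)) :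
          Matrix.ProjectiveSpecialLinearGroup (Fin 3) F) = 6 := by
        apply orderOf_mk_center _ s _ (by norm_num) (mkSL_pow_eq_one e _ _ _ W6_pow)
        intro p hp hpn
        have hp2 : p = 2 ∨ p = 3 := by
          have : p ∣ 2 * 3 := by simpa using hpn
          rcases (Nat.Prime.dvd_mul hp).mp this with h | h
          · left; exact (Nat.prime_dvd_prime_iff_eq hp Nat.prime_two).mp h
          · right; exact (Nat.prime_dvd_prime_iff_eq hp Nat.prime_three).mp h
        rcases hp2 with rfl | rfl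
        · exact mkSL_noncomm e W6 T _ _ 3 W6_nc2
        · exact mkSL_noncomm e W6 T _ _ 2 W6_nc3
      exact mem_range_of_dvd _ (by rw [h1]; norm_num) (by rw [h1]; exact h)
    · have h1 : orderOf ((mkSL e W13 det_W13 : SL(3, F)) :
          Matrix.ProjectiveSpecialLinearGroup (Fin 3) F) = 13 := by
        apply orderOf_mk_center _ s _ (by norm_num) (mkSL_pow_eq_one e _ _ _ W13_pow)
        intro p hp hpn
        have hp2 : p = 13 := (Nat.prime_dvd_prime_iff_eq hp (by norm_num)).mp hpn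
        subst hp2
        exact mkSL_noncomm e W13 T _ _ 1 W13_nc
      exact mem_range_of_dvd _ (by rw [h1]; norm_num) (by rw [h1]; exact h)

end Cfsg.Agent.Lib.PSL2.SpecPSL33
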