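import Mathlib
import Cfsg.Prelude.Def_Classical
import Cfsg.Agent.Lib.PSL2.CayleyThree
import Cfsg.Agent.Lib.PSL2.F9Model

/-!
The element orders of `PSU(3,3)`: the set of divisors of 7, 8 and 12.  The proof goes through the
Cayley-Hamilton relation: a matrix of `SU(3,3)` satisfies `A³ = t A² - t³ A + 1`, and there are nine
possible values of the trace `t`.  Witnesses are pulled back from a concrete field with nine elements.
-/

set_option autoImplicit false
set_option maxRecDepth 100000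

namespace Cfsg.Agent.Lib.PSL2.SpecPSU33

open Cfsg Matrix
open Cfsg.Agent.Lib.PSL2.CayleyThree Cfsg.Agent.Lib.PSL2.F9Model
open scoped MatrixGroups

/-- every computed power relation -/
theorem iter_K9 : ∀ t : K9, iter t (t ^ 3) 7 = (0, 0, 1) ∨ iter t (t ^ 3) 8 = (0, 0, 1) ∨
    iter t (t ^ 3) 12 = (0, 0, 1) := by
  decide +kernel

section

variable {F : Type*} [Field F] (e : F ≃+* K9)

include e in
theorem three_eq_zero : (3 : F) = 0 := by
  apply e.injective
  rw [map_zero, map_ofNat]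
  decide +kernel

include e in
theorem cube_add (x y : F) : (x + y) ^ 3 = x ^ 3 + y ^ 3 := by
  have h := three_eq_zero e
  linear_combination (x ^ 2 * y + x * y ^ 2) * h

include e in
/-- the trace relation on `SU(3,3)` -/
theorem sm3_eq (A : Matrix (Fin 3) (Fin 3) F) (hdet : A.det = 1)
    (hU : ∀ k l : Fin 3, ∑ i, A i k * A i l ^ 3 = if k = l then 1 else 0) :
    sm3 A = tr3 A ^ 3 := by
  let C : Matrix (Fin 3) (Fin 3) F := Matrix.of fun i j => A j i ^ 3
  have hCA : C * A = 1 := by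
    ext l k
    have := hU k l
    simp only [Matrix.mul_apply, C, Matrix.of_apply, Matrix.one_apply]
    rw [show (if l = k then (1 : F) else 0) = if k = l then 1 else 0 by
      by_cases h : l = k
      · simp [h]
      · simp [h, Ne.symm h]]
    rw [← this]
    exact Finset.sum_congr rfl fun _ _ => mul_comm _ _
  have hC : C = A.adjugate := by
    have h1 : A * A.adjugate = 1 := by
      rw [Matrix.mul_adjugate, hdet, one_smul]
    calc C = C * (A * A.adjugate) := by rw [h1, mul_one]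
      _ = A.adjugate := by rw [← mul_assoc, hCA, one_mul]
  have h00 : A 0 0 ^ 3 = A.adjugate 0 0 := by rw [← hC]; rfl
  have h11 : A 1 1 ^ 3 = A.adjugate 1 1 := by rw [← hC]; rfl
  have h22 : A 2 2 ^ 3 = A.adjugate 2 2 := by rw [← hC]; rfl
  rw [Matrix.adjugate_fin_three] at h00 h11 h22
  simp at h00 h11 h22
  simp only [tr3, sm3]
  rw [cube_add e, cube_add e, h00, h11, h22]
  ring

include e in
/-- the form is preserved as soon as the columns are orthonormal -/
theorem preserves (A : Matrix (Fin 3) (Fin 3) F)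
    (hU : ∀ k l : Fin 3, ∑ i, A i k * A i l ^ 3 = if k = l then 1 else 0) (u v : Fin 3 → F) :
    hermForm 3 F 3 (A *ᵥ u) (A *ᵥ v) = hermForm 3 F 3 u v := by
  have hc : ∀ i, (A *ᵥ v) i ^ 3 = A i 0 ^ 3 * v 0 ^ 3 + A i 1 ^ 3 * v 1 ^ 3 + A i 2 ^ 3 * v 2 ^ 3 := by
    intro i
    simp only [Matrix.mulVec, dotProduct, Fin.sum_univ_three]
    rw [cube_add e, cube_add e]
    ring
  have h00 := hU 0 0
  have h01 := hU 0 1
  have h02 := hU 0 2
  have h10 := hU 1 0
  have h11 := hU 1 1
  have h12 := hU 1 2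
  have h20 := hU 2 0
  have h21 := hU 2 1
  have h22 := hU 2 2
  simp only [Fin.sum_univ_three] at h00 h01 h02 h10 h11 h12 h20 h21 h22
  simp at h00 h01 h02 h10 h11 h12 h20 h21 h22
  simp only [hermForm, Fin.sum_univ_three, hc]
  simp only [Matrix.mulVec, dotProduct, Fin.sum_univ_three]
  linear_combination (u 0 * v 0 ^ 3) * h00 + (u 0 * v 1 ^ 3) * h01 + (u 0 * v 2 ^ 3) * h02
    + (u 1 * v 0 ^ 3) * h10 + (u 1 * v 1 ^ 3) * h11 + (u 1 * v 2 ^ 3) * h12
    + (u 2 * v 0 ^ 3) * h20 + (u 2 * v 1 ^ 3) * h21 + (u 2 * v 2 ^ 3) * h22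

/-- the converse: elements of `SU` have orthonormal columns -/
theorem orthonormal (g : SU 3 F 3) (k l : Fin 3) :
    ∑ i, (g.1.1 i k) * (g.1.1 i l) ^ 3 = if k = l then 1 else 0 := by
  have h := g.2 (Pi.single k 1) (Pi.single l 1)
  have h1 : (slToMat 3 F g.1) = g.1.1 := rfl
  rw [h1] at h
  simp only [hermForm, Matrix.mulVec_single_one] at h
  simp only [Matrix.col_apply] at h
  rw [h]
  by_cases hkl : k = l
  · subst hkl
    simp [Pi.single_apply]
  · simp [Pi.single_apply, hkl]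
    intro h2
    exact absurd h2.symm hkl

include e in
theorem pow_cases (g : SU 3 F 3) : g ^ 7 = 1 ∨ g ^ 8 = 1 ∨ g ^ 12 = 1 := by
  have hdet : (g.1.1).det = 1 := g.1.2
  have hs := sm3_eq e g.1.1 hdet (orthonormal g)
  have hi : ∀ n, iter (e (tr3 g.1.1)) (e (tr3 g.1.1) ^ 3) n = (0, 0, 1) →
      g ^ n = 1 := by
    intro n h
    rw [← map_pow] at h
    have h2 := iter_eq_of_map (e : F →+* K9) e.injective _ _ n h
    rw [← hs] at h2
    have h3 := pow_eq_one g.1.1 hdet n h2
    apply Subtype.ext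
    apply Subtype.ext
    simpa using h3
  rcases iter_K9 (e (tr3 g.1.1)) with h | h | h
  · exact Or.inl (hi _ h)
  · exact Or.inr (Or.inl (hi _ h))
  · exact Or.inr (Or.inr (hi _ h))

/-- pull back a matrix from the model -/
noncomputable def pull (W : Matrix (Fin 3) (Fin 3) K9) : Matrix (Fin 3) (Fin 3) F :=
  (e.symm : K9 →+* F).mapMatrix W

theorem pull_injective : Function.Injective (pull e) := by
  intro a b h
  refine Matrix.ext fun i j => ?_
  have := congrFun (congrFun h i) j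
  exact e.symm.injective this

theorem pull_mul (a b : Matrix (Fin 3) (Fin 3) K9) : pull e (a * b) = pull e a * pull e b :=
  map_mul _ a b

theorem pull_pow (a : Matrix (Fin 3) (Fin 3) K9) (n : ℕ) : pull e (a ^ n) = pull e a ^ n :=
  map_pow _ a n

theorem pull_one : pull e (1 : Matrix (Fin 3) (Fin 3) K9) = 1 :=
  map_one _

/-- an element of `SU` from a checked matrix of the model -/
noncomputable def mkSU (W : Matrix (Fin 3) (Fin 3) K9) (hdet : W.det = 1)
    (hU : ∀ k l : Fin 3, ∑ i, W i k * W i l ^ 3 = if k = l then 1 else 0) : SU 3 F 3 :=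
  ⟨⟨pull e W, by
      have : (pull e W).det = (e.symm : K9 →+* F) W.det :=
        (RingHom.map_det (e.symm : K9 →+* F) W).symm
      rw [this, hdet, map_one]⟩, by
    intro u v
    refine preserves e (pull e W) ?_ u v
    intro k l
    have h := congrArg (e.symm : K9 → F) (hU k l)
    have h2 : ∀ a b : Fin 3, pull e W a b = e.symm (W a b) := fun _ _ => rfl
    simp only [h2]
    rw [map_sum] at h
    simp only [map_mul, map_pow] at h
    rw [h]
    split_ifs <;> simp⟩

theorem mkSU_coe (W : Matrix (Fin 3) (Fin 3) K9) (hdet : W.det = 1)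
    (hU : ∀ k l : Fin 3, ∑ i, W i k * W i l ^ 3 = if k = l then 1 else 0) :
    (mkSU e W hdet hU).1.1 = pull e W := rfl

theorem mkSU_pow_eq_one (W : Matrix (Fin 3) (Fin 3) K9) (hdet : W.det = 1)
    (hU : ∀ k l : Fin 3, ∑ i, W i k * W i l ^ 3 = if k = l then 1 else 0) (n : ℕ)
    (h : W ^ n = 1) : (mkSU e W hdet hU) ^ n = 1 := by
  apply Subtype.ext
  apply Subtype.ext
  have : ((mkSU e W hdet hU) ^ n).1.1 = pull e (W ^ n) := by
    rw [pull_pow, ← mkSU_coe e W hdet hU]
    rfl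
  rw [this, h, pull_one]
  rfl

theorem mkSU_noncomm (W S : Matrix (Fin 3) (Fin 3) K9) (hdet : W.det = 1)
    (hU : ∀ k l : Fin 3, ∑ i, W i k * W i l ^ 3 = if k = l then 1 else 0)
    (hdetS : S.det = 1)
    (hUS : ∀ k l : Fin 3, ∑ i, S i k * S i l ^ 3 = if k = l then 1 else 0) (n : ℕ)
    (h : W ^ n * S ≠ S * W ^ n) :
    (mkSU e W hdet hU) ^ n * (mkSU e S hdetS hUS) ≠ (mkSU e S hdetS hUS) * (mkSU e W hdet hU) ^ n := by
  intro hc
  apply h
  apply pull_injective e
  have h1 := congrArg (fun g : SU 3 F 3 => g.1.1) hc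
  have e1 : pull e (W ^ n * S) = ((mkSU e W hdet hU) ^ n * (mkSU e S hdetS hUS)).1.1 := by
    rw [pull_mul, pull_pow, ← mkSU_coe e W hdet hU, ← mkSU_coe e S hdetS hUS]
    rfl
  have e2 : pull e (S * W ^ n) = ((mkSU e S hdetS hUS) * (mkSU e W hdet hU) ^ n).1.1 := by
    rw [pull_mul, pull_pow, ← mkSU_coe e W hdet hU, ← mkSU_coe e S hdetS hUS]
    rfl
  rw [e1, e2]
  exact h1

end

/-! The witnesses. -/

private abbrev i' : K9 := ⟨0, 1⟩
private abbrev o' : K9 := ⟨0, 0⟩
private abbrev u' : K9 := ⟨1, 0⟩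
private abbrev m' : K9 := ⟨2, 0⟩

/-- order 8 -/
def W8 : Matrix (Fin 3) (Fin 3) K9 := !![o', o', u'; o', i', o'; i', o', o']
/-- order 7 -/
def W7 : Matrix (Fin 3) (Fin 3) K9 := !![o', ⟨1, 1⟩, ⟨1, 1⟩; o', ⟨1, 1⟩, ⟨2, 2⟩; i', o', o']
/-- order 12 -/
def W12 : Matrix (Fin 3) (Fin 3) K9 := !![o', ⟨1, 1⟩, ⟨1, 2⟩; o', ⟨2, 1⟩, ⟨2, 2⟩; i', o', o']
/-- a test element -/
def W3 : Matrix (Fin 3) (Fin 3) K9 := !![o', i', o'; o', o', m'; i', o', o']

theorem det_W8 : W8.det = 1 := by rw [Matrix.det_fin_three]; decide +kernel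
theorem det_W7 : W7.det = 1 := by rw [Matrix.det_fin_three]; decide +kernel
theorem det_W12 : W12.det = 1 := by rw [Matrix.det_fin_three]; decide +kernel
theorem det_W3 : W3.det = 1 := by rw [Matrix.det_fin_three]; decide +kernel
theorem U_W8 : ∀ k l : Fin 3, ∑ i, W8 i k * W8 i l ^ 3 = if k = l then 1 else 0 := by decide +kernel
theorem U_W7 : ∀ k l : Fin 3, ∑ i, W7 i k * W7 i l ^ 3 = if k = l then 1 else 0 := by decide +kernel
theorem U_W12 : ∀ k l : Fin 3, ∑ i, W12 i k * W12 i l ^ 3 = if k = l then 1 else 0 := by decide +kernel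
theorem U_W3 : ∀ k l : Fin 3, ∑ i, W3 i k * W3 i l ^ 3 = if k = l then 1 else 0 := by decide +kernel

theorem W8_pow : W8 ^ 8 = 1 := by decide +kernel
theorem W7_pow : W7 ^ 7 = 1 := by decide +kernel
theorem W12_pow : W12 ^ 12 = 1 := by decide +kernel
theorem W8_nc : W8 ^ 4 * W3 ≠ W3 * W8 ^ 4 := by decide +kernel
theorem W7_nc : W7 ^ 1 * W3 ≠ W3 * W7 ^ 1 := by decide +kernel
theorem W12_nc2 : W12 ^ 6 * W3 ≠ W3 * W12 ^ 6 := by decide +kernel
theorem W12_nc3 : W12 ^ 4 * W3 ≠ W3 * W12 ^ 4 := by decide +kernel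

theorem range_orderOf_psu {F : Type*} [Field F] [Fintype F] (hF : Fintype.card F = 9) :
    Set.range (orderOf : PSU 3 F 3 → ℕ) = {d | d ∣ 8 ∨ d ∣ 12 ∨ d ∣ 7} := by
  let e : F ≃+* K9 := FiniteField.ringEquivOfCardEq (by rw [hF, K9.card_K9])
  ext d
  simp only [Set.mem_range, Set.mem_ofPred_eq]
  constructor
  · rintro ⟨x, rfl⟩
    obtain ⟨g, rfl⟩ := QuotientGroup.mk_surjective x
    rcases pow_cases e g with h | h | h
    · right; right
      apply orderOf_dvd_of_pow_eq_one
      rw [← QuotientGroup.mk_pow, h]; rfl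
    · left
      apply orderOf_dvd_of_pow_eq_one
      rw [← QuotientGroup.mk_pow, h]; rfl
    · right; left
      apply orderOf_dvd_of_pow_eq_one
      rw [← QuotientGroup.mk_pow, h]; rfl
  · let s : SU 3 F 3 := mkSU e W3 det_W3 U_W3
    rintro (h | h | h)
    · have h1 : orderOf ((mkSU e W8 det_W8 U_W8 : SU 3 F 3) : PSU 3 F 3) = 8 := by
        apply orderOf_mk_center _ s _ (by norm_num) (mkSU_pow_eq_one e _ _ _ _ W8_pow)
        intro p hp hpn
        have hp2 : p = 2 := by
          have : p ∣ 2 ^ 3 := by simpa using hpn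
          exact (Nat.prime_dvd_prime_iff_eq hp Nat.prime_two).mp (hp.dvd_of_dvd_pow this)
        subst hp2
        exact mkSU_noncomm e W8 W3 _ _ _ _ 4 W8_nc
      exact mem_range_of_dvd _ (by rw [h1]; norm_num) (by rw [h1]; exact h)
    · have h1 : orderOf ((mkSU e W12 det_W12 U_W12 : SU 3 F 3) : PSU 3 F 3) = 12 := by
        apply orderOf_mk_center _ s _ (by norm_num) (mkSU_pow_eq_one e _ _ _ _ W12_pow)
        intro p hp hpn
        have hp2 : p = 2 ∨ p = 3 := by
          have : p ∣ 2 ^ 2 * 3 := by simpa using hpn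
          rcases (Nat.Prime.dvd_mul hp).mp this with h | h
          · left; exact (Nat.prime_dvd_prime_iff_eq hp Nat.prime_two).mp (hp.dvd_of_dvd_pow h)
          · right; exact (Nat.prime_dvd_prime_iff_eq hp Nat.prime_three).mp h
        rcases hp2 with rfl | rfl
        · exact mkSU_noncomm e W12 W3 _ _ _ _ 6 W12_nc2
        · exact mkSU_noncomm e W12 W3 _ _ _ _ 4 W12_nc3
      exact mem_range_of_dvd _ (by rw [h1]; norm_num) (by rw [h1]; exact h)
    · have h1 : orderOf ((mkSU e W7 det_W7 U_W7 : SU 3 F 3) : PSU 3 F 3) = 7 := by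
        apply orderOf_mk_center _ s _ (by norm_num) (mkSU_pow_eq_one e _ _ _ _ W7_pow)
        intro p hp hpn
        have hp2 : p = 7 := (Nat.prime_dvd_prime_iff_eq hp (by norm_num)).mp hpn
        subst hp2
        exact mkSU_noncomm e W7 W3 _ _ _ _ 1 W7_nc
      exact mem_range_of_dvd _ (by rw [h1]; norm_num) (by rw [h1]; exact h)

end Cfsg.Agent.Lib.PSL2.SpecPSU33
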