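import Cfsg.Agent.Lib.PSL2.Quat
import Cfsg.Agent.Lib.PSL2.KleinAut
import Cfsg.Agent.Lib.PSL2.MemberCyc
import Cfsg.Agent.Lib.PSL2.DicksonCor

/-!
# Generators of the Sylow `2`-subgroups of `SL(2, F)`, `F` finite of odd order
-/

set_option autoImplicit false
set_option linter.unusedSectionVars false
set_option linter.unusedSimpArgs false
set_option linter.unusedVariables false
set_option linter.style.haveILetI false
set_option linter.deprecated false

namespace Cfsg.Agent.Lib.PSL2.SylowGens

open Matrix Matrix.SpecialLinearGroup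
open scoped MatrixGroups
open Cfsg.Agent.Lib.PSL2.Basic Cfsg.Agent.Lib.PSL2.Torus Cfsg.Agent.Lib.PSL2.TorusCore
open Cfsg.Agent.Lib.PSL2.Members Cfsg.Agent.Lib.PSL2.FourGroup Cfsg.Agent.Lib.PSL2.KleinAut
open Cfsg.Agent.Lib.PSL2.Conj

variable {F : Type*} [Field F] [Fintype F]

/-- The generators of a Sylow `2`-subgroup. -/
structure Gens (S : Subgroup SL(2, F)) (k : ℕ) (A B : SL(2, F)) : Prop where
  one_le : 1 ≤ k
  memA : A ∈ S
  memB : B ∈ S
  ord : orderOf A = 2 * 2 ^ k
  pow : A ^ (2 ^ k) = -1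
  sq : B * B = -1
  inv : B * A * B⁻¹ = A⁻¹
  card : Nat.card S = 4 * 2 ^ k
  cases : ∀ x ∈ S, (∃ i : ℕ, x = A ^ i) ∨ (∃ i : ℕ, x = B * A ^ i)

theorem exists_gens (hodd : Odd (Fintype.card F)) (S : Sylow 2 SL(2, F)) :
    ∃ (k : ℕ) (A B : SL(2, F)), Gens (S : Subgroup SL(2, F)) k A B := by
  have h2 : (2 : F) ≠ 0 := two_ne_zero_of_odd_card hodd
  obtain ⟨k, hk, ⟨e⟩⟩ := Quat.sylow_two_equiv_quaternion hodd S
  set n := 2 ^ k with hn
  have hn0 : NeZero n := ⟨by positivity⟩
  let f : QuaternionGroup n →* SL(2, F) :=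
    (S : Subgroup SL(2, F)).subtype.comp e.symm.toMonoidHom
  have hf : Function.Injective f := by
    intro a b hab
    exact e.symm.injective (Subtype.ext hab)
  have hmem : ∀ x, f x ∈ (S : Subgroup SL(2, F)) := fun x => (e.symm x).2
  have hn2 : (2 * n : ZMod (2 * n)) = 0 := by
    have : ((2 * n : ℕ) : ZMod (2 * n)) = 0 := ZMod.natCast_self _
    push_cast at this
    exact this
  have ha1 : (QuaternionGroup.a 1 : QuaternionGroup n) ^ n = QuaternionGroup.a (n : ZMod (2 * n)) :=
    QuaternionGroup.a_one_pow n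
  have hane : (QuaternionGroup.a (n : ZMod (2 * n)) : QuaternionGroup n) ≠ 1 := by
    rw [← ha1]
    intro h
    have h1 := orderOf_dvd_of_pow_eq_one h
    rw [QuaternionGroup.orderOf_a_one] at h1
    have h3 := Nat.le_of_dvd hn0.pos h1
    have := hn0.pos
    omega
  have hfan : f (QuaternionGroup.a (n : ZMod (2 * n))) = -1 := by
    have h3 : (QuaternionGroup.a (n : ZMod (2 * n)) : QuaternionGroup n) *
        QuaternionGroup.a (n : ZMod (2 * n)) = 1 := by
      rw [QuaternionGroup.a_mul_a, QuaternionGroup.one_def]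
      congr 1
      rw [← hn2]
      ring
    have h4 : f (QuaternionGroup.a (n : ZMod (2 * n))) * f (QuaternionGroup.a (n : ZMod (2 * n))) = 1 := by
      rw [← map_mul, h3, map_one]
    rcases (mul_self_eq_one_iff h2 _).1 h4 with h5 | h5
    · exact absurd (hf (h5.trans (map_one f).symm)) hane
    · exact h5
  refine ⟨k, f (QuaternionGroup.a 1), f (QuaternionGroup.xa 0), ?_⟩
  refine ⟨hk, hmem _, hmem _, ?_, ?_, ?_, ?_, ?_, ?_⟩
  · rw [orderOf_injective f hf, QuaternionGroup.orderOf_a_one]
  · rw [← map_pow, ha1, hfan]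
  · rw [← map_mul, QuaternionGroup.xa_mul_xa, ← hfan]
    congr 2
    ring
  · rw [← map_mul, ← map_inv, ← map_mul, ← map_inv]
    congr 1
    rw [mul_inv_eq_iff_eq_mul, eq_inv_mul_iff_mul_eq, QuaternionGroup.xa_mul_a,
      QuaternionGroup.a_mul_xa]
    congr 1
    ring
  · rw [Nat.card_congr e.toEquiv, Nat.card_eq_fintype_card, QuaternionGroup.card]
  · intro x hx
    obtain ⟨y, hy⟩ : ∃ y : QuaternionGroup n, f y = x :=
      ⟨e ⟨x, hx⟩, by simp [f]⟩
    rcases y with i | i
    · left
      refine ⟨i.val, ?_⟩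
      rw [← hy, ← map_pow, QuaternionGroup.a_one_pow]
      simp
    · right
      refine ⟨i.val, ?_⟩
      rw [← hy, ← map_pow, ← map_mul, QuaternionGroup.a_one_pow, QuaternionGroup.xa_mul_a]
      simp

namespace Gens

variable {S : Subgroup SL(2, F)} {k : ℕ} {A B : SL(2, F)}

lemma two_le_n (h : Gens S k A B) : 2 ≤ 2 ^ k := by
  calc 2 = 2 ^ 1 := rfl
    _ ≤ 2 ^ k := Nat.pow_le_pow_right (by norm_num) h.one_le

lemma A_ne_one (h : Gens S k A B) : A ≠ 1 := by
  rintro rfl
  have h1 := h.ord
  rw [orderOf_one] at h1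
  have := h.two_le_n
  omega

lemma A_ne_neg_one (h : Gens S k A B) (h2 : (2 : F) ≠ 0) (hk : 2 ≤ k) : A ≠ -1 := by
  rintro rfl
  have h1 : (-1 : SL(2, F)) * (-1) = 1 := by
    apply ext2 <;> simp
  have h3 : (-1 : SL(2, F)) ^ 2 = 1 := by rw [pow_two, h1]
  have h4 := orderOf_dvd_of_pow_eq_one h3
  rw [h.ord] at h4
  have h5 := Nat.le_of_dvd (by norm_num) h4
  have := h.two_le_n
  omega

/-- The elements `B A ^ i` have square `-1`. -/
lemma mul_self_of_B (h : Gens S k A B) (i : ℕ) : (B * A ^ i) * (B * A ^ i) = -1 := by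
  have h1 : B * A ^ i * B⁻¹ = (A ^ i)⁻¹ := by
    rw [← inv_pow, ← h.inv, conj_pow]
  calc (B * A ^ i) * (B * A ^ i) = (B * A ^ i * B⁻¹) * (B * B) * A ^ i := by group
    _ = (A ^ i)⁻¹ * (-1) * A ^ i := by rw [h1, h.sq]
    _ = -1 := by
      simp

/-- The `IsQ` pair of a Sylow subgroup. -/
lemma isQ (h : Gens S k A B) : IsQ (A ^ (2 ^ (k - 1))) B := by
  have hk : 2 ^ (k - 1) + 2 ^ (k - 1) = 2 ^ k := by
    obtain ⟨r, rfl⟩ : ∃ r, k = r + 1 := ⟨k - 1, by have := h.one_le; omega⟩
    simp [pow_succ]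
    ring
  have h1 : A ^ (2 ^ (k - 1)) * A ^ (2 ^ (k - 1)) = -1 := by
    rw [← pow_add, hk, h.pow]
  have h3 : B * A ^ (2 ^ (k - 1)) * B⁻¹ = (A ^ (2 ^ (k - 1)))⁻¹ := by
    rw [← inv_pow, ← h.inv, conj_pow]
  have h4 : (A ^ (2 ^ (k - 1)))⁻¹ = -A ^ (2 ^ (k - 1)) := by
    rw [inv_eq_iff_mul_eq_one, mul_neg, h1]
    simp
  refine ⟨(mul_self_eq_neg_one_iff _).1 h1, (mul_self_eq_neg_one_iff _).1 h.sq, ?_⟩
  have h5 : B * A ^ (2 ^ (k - 1)) = -A ^ (2 ^ (k - 1)) * B := by
    rw [← h4, ← h3]
    group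
  rw [h5]
  simp

lemma disc_ne_zero (h : Gens S k A B) (h2 : (2 : F) ≠ 0) (hk : 2 ≤ k) : disc A ≠ 0 := by
  intro hd
  obtain ⟨p, hp, hchar⟩ := DicksonCor.exists_char F
  have : Fact p.Prime := ⟨hp⟩
  have hP := (isP_member (H := ⊤) p ⟨h.A_ne_one, h.A_ne_neg_one h2 hk⟩ hd).pgroup
  obtain ⟨r, hr⟩ := hP ⟨⟨mkP A, trivial⟩, self_mem_member (show mkP A ∈ (⊤ : Subgroup PSL(2, F)) from trivial)⟩
  have h3 : (mkP A) ^ (p ^ r) = 1 := by
    have := congrArg (fun y : member (⊤ : Subgroup PSL(2, F)) A => ((y : (⊤ : Subgroup PSL(2, F))) : PSL(2, F))) hr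
    simpa using this
  rw [← map_pow, mkP_eq_one_iff] at h3
  have h4 : A ^ (2 * p ^ r) = 1 := by
    rw [mul_comm, pow_mul]
    rcases h3 with h3 | h3
    · rw [h3]; simp
    · rw [h3, pow_two]
      apply ext2 <;> simp
  have h5 := orderOf_dvd_of_pow_eq_one h4
  rw [h.ord] at h5
  have h6 : 2 ^ k ∣ p ^ r := Nat.dvd_of_mul_dvd_mul_left (by norm_num) h5
  have h7 : 2 ∣ p ^ r := (dvd_pow_self 2 (by have := h.one_le; omega)).trans h6
  have h8 : 2 ∣ p := Nat.prime_two.dvd_of_dvd_pow h7
  have h9 : p = 2 := (Nat.prime_dvd_prime_iff_eq Nat.prime_two hp).1 h8 |>.symm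
  subst h9
  exact h2 (by exact_mod_cast CharP.cast_eq_zero F 2)

/-- An element of odd order normalising a Sylow `2`-subgroup of order at least `16` is trivial. -/
theorem eq_one_of_odd (h : Gens S k A B) (h2 : (2 : F) ≠ 0) (hk : 2 ≤ k) (hS : IsPGroup 2 S) {z : SL(2, F)}
    (hz : z ∈ Subgroup.normalizer (S : Set SL(2, F))) (hodd : Odd (orderOf z)) : z = 1 := by
  have hn : 4 ≤ 2 ^ k := by
    calc 4 = 2 ^ 2 := rfl
      _ ≤ 2 ^ k := Nat.pow_le_pow_right (by norm_num) hk
  have hA : NC A := ⟨h.A_ne_one, h.A_ne_neg_one h2 hk⟩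
  have hd := h.disc_ne_zero h2 hk
  have hmem : z * A * z⁻¹ ∈ S := (Subgroup.mem_normalizer_iff.1 hz A).1 h.memA
  have hcommA : A * (z * A * z⁻¹) = (z * A * z⁻¹) * A := by
    rcases h.cases _ hmem with ⟨i, hi⟩ | ⟨i, hi⟩
    · rw [hi, ← pow_succ', ← pow_succ]
    · exfalso
      have h3 := h.mul_self_of_B i
      rw [← hi] at h3
      have h4 : (z * A * z⁻¹) ^ 4 = 1 := by
        have : (4 : ℕ) = 2 + 2 := rfl
        rw [this, pow_add, pow_two, h3]
        apply ext2 <;> simp
      rw [conj_pow, mul_inv_eq_one] at h4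
      have h5 : A ^ 4 = 1 := by
        have h6 : z * A ^ 4 = z := h4
        exact mul_left_cancel (a := z) (by rw [h6, mul_one])
      have h6 := orderOf_dvd_of_pow_eq_one h5
      rw [h.ord] at h6
      have h7 := Nat.le_of_dvd (by norm_num) h6
      omega
  have hNC' : NC (z * A * z⁻¹) := by
    constructor
    · intro e
      rw [mul_inv_eq_one] at e
      exact hA.1 (mul_left_cancel (a := z) (by rw [e, mul_one]))
    · intro e
      apply hA.2
      have h3 := conj_neg_one z
      rw [← h3] at e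
      have e1 : z * A = z * (-1) := by
        have := mul_right_cancel e
        exact this
      exact mul_left_cancel e1
  have hAne : A * A ≠ 1 := by
    intro e
    have h3 : A ^ 2 = 1 := by rwa [pow_two]
    have h6 := orderOf_dvd_of_pow_eq_one h3
    rw [h.ord] at h6
    have h7 := Nat.le_of_dvd (by norm_num) h6
    omega
  have hcomm : z * A = A * z := by
    rcases eq_or_eq_inv_of_commute hA hd (tr_conj z A) hNC' hcommA with e | e
    · rwa [mul_inv_eq_iff_eq_mul] at e
    · exfalso
      have h3 : (z * z) * A * (z * z)⁻¹ = A := by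
        calc (z * z) * A * (z * z)⁻¹ = z * (z * A * z⁻¹) * z⁻¹ := by group
          _ = z * A⁻¹ * z⁻¹ := by rw [e]
          _ = (z * A * z⁻¹)⁻¹ := by group
          _ = A := by rw [e, inv_inv]
      have h4 : (z * z) * A = A * (z * z) := by rwa [mul_inv_eq_iff_eq_mul] at h3
      obtain ⟨m, hm⟩ := hodd
      have h5 : z = (z * z) ^ (m + 1) := by
        rw [← pow_two, ← pow_mul]
        have : 2 * (m + 1) = orderOf z + 1 := by omega
        rw [this, pow_succ, pow_orderOf_eq_one, one_mul]
      have h6 : z * A = A * z := by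
        rw [h5]
        exact ((Commute.pow_left (show Commute (z * z) A from h4) (m + 1)))
      rw [mul_inv_eq_iff_eq_mul, h6] at e
      apply hAne
      have h7 : A * z = A⁻¹ * z := e
      have h8 := mul_right_cancel h7
      calc A * A = A * A⁻¹ := by rw [← h8]
        _ = 1 := mul_inv_cancel A
  obtain ⟨T, hT, -, -, hc⟩ := MemberCyc.centralizer_eq_torus hA hd
  have hzT : z ∈ T := by
    rw [← hc, Subgroup.mem_centralizer_singleton_iff]
    exact hcomm
  have hAT : A ∈ T := by
    rw [← hc, Subgroup.mem_centralizer_singleton_iff]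
  have hBN := hT.mem_normalizer_of_inverts hAT hA.1 hA.2 h.inv
  have hBT : B ∉ T := by
    intro hB
    have h3 := hT.comm B hB A hAT
    have h4 := h.inv
    rw [h3] at h4
    apply hAne
    have h5 : A = A⁻¹ := by
      rw [← h4]
      group
    calc A * A = A * A⁻¹ := by rw [← h5]
      _ = 1 := mul_inv_cancel A
  have hinv := hT.conj_eq_inv hBN hBT hzT
  have hmemB : z * B * z⁻¹ ∈ S := (Subgroup.mem_normalizer_iff.1 hz B).1 h.memB
  have hzz : z * z ∈ S := by
    have h3 : z * z = (z * B * z⁻¹) * B⁻¹ := by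
      have h4 : B * z⁻¹ * B⁻¹ = z := by
        have : B * z⁻¹ * B⁻¹ = (B * z * B⁻¹)⁻¹ := by group
        rw [this, hinv, inv_inv]
      calc z * z = z * (B * z⁻¹ * B⁻¹) := by rw [h4]
        _ = _ := by group
    rw [h3]
    exact S.mul_mem hmemB (S.inv_mem h.memB)
  obtain ⟨r, hr⟩ := hS ⟨z * z, hzz⟩
  have h3 : (z * z) ^ (2 ^ r) = 1 := by
    have := congrArg Subtype.val hr
    simpa using this
  have h4 : z ^ (2 ^ (r + 1)) = 1 := by
    rw [← h3, ← pow_two, ← pow_mul, pow_succ, mul_comm]
  have h5 := orderOf_dvd_of_pow_eq_one h4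
  have h6 : (orderOf z).Coprime (2 ^ (r + 1)) := by
    apply Nat.Coprime.pow_right
    exact Nat.coprime_two_right.2 hodd
  exact orderOf_eq_one_iff.1 (Nat.Coprime.eq_one_of_dvd h6 h5)

end Gens

/-- The normaliser of a Sylow `2`-subgroup of order at least `16` is the subgroup itself. -/
theorem normalizer_eq_self (hodd : Odd (Fintype.card F)) (S : Sylow 2 SL(2, F)) {k : ℕ} {A B : SL(2, F)}
    (h : Gens (S : Subgroup SL(2, F)) k A B) (hk : 2 ≤ k) :
    Subgroup.normalizer ((S : Subgroup SL(2, F)) : Set SL(2, F)) = (S : Subgroup SL(2, F)) := by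
  have h2 : (2 : F) ≠ 0 := two_ne_zero_of_odd_card hodd
  apply S.is_maximal'
  · intro x
    obtain ⟨e, o, ho, hex⟩ := Nat.exists_eq_two_pow_mul_odd (n := orderOf (x : SL(2, F))) (orderOf_pos _).ne'
    refine ⟨e, ?_⟩
    apply Subtype.ext
    have hz : (x : SL(2, F)) ^ (2 ^ e) ∈ Subgroup.normalizer ((S : Subgroup SL(2, F)) : Set SL(2, F)) :=
      Subgroup.pow_mem _ x.2 _
    have hord : Odd (orderOf ((x : SL(2, F)) ^ (2 ^ e))) := by
      rw [orderOf_pow_of_dvd (by positivity) (by rw [hex]; exact Dvd.intro _ rfl), hex,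
        Nat.mul_div_cancel_left _ (by positivity)]
      exact ho
    simpa using h.eq_one_of_odd h2 hk S.isPGroup' hz hord
  · exact Subgroup.le_normalizer

/-- Closed under one conjugation implies normalised, in a finite group. -/
lemma mem_normalizer_of_conj_mem {G : Type*} [Group G] [Finite G] {S : Subgroup G} {z : G}
    (h : ∀ x ∈ S, z * x * z⁻¹ ∈ S) : z ∈ Subgroup.normalizer (S : Set G) := by
  have hpow : ∀ n : ℕ, ∀ x ∈ S, z ^ n * x * (z ^ n)⁻¹ ∈ S := by
    intro n
    induction n with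
    | zero => intro x hx; simpa using hx
    | succ n ih =>
      intro x hx
      have h1 := ih _ (h x hx)
      have h2 : z ^ (n + 1) * x * (z ^ (n + 1))⁻¹ = z ^ n * (z * x * z⁻¹) * (z ^ n)⁻¹ := by
        rw [pow_succ]
        group
      rw [h2]
      exact h1
  rw [Subgroup.mem_normalizer_iff]
  intro x
  refine ⟨h x, fun hx => ?_⟩
  have h1 := hpow (orderOf z - 1) _ hx
  have h2 : z ^ (orderOf z - 1) * z = 1 := by
    rw [← pow_succ, Nat.sub_add_cancel (orderOf_pos z), pow_orderOf_eq_one]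
  have h3 : z ^ (orderOf z - 1) * (z * x * z⁻¹) * (z ^ (orderOf z - 1))⁻¹ = x := by
    calc z ^ (orderOf z - 1) * (z * x * z⁻¹) * (z ^ (orderOf z - 1))⁻¹
        = (z ^ (orderOf z - 1) * z) * x * (z ^ (orderOf z - 1) * z)⁻¹ := by group
      _ = x := by rw [h2]; group
  rwa [h3] at h1

namespace Gens

variable {S : Subgroup SL(2, F)} {A B : SL(2, F)}

lemma isQ_one (h : Gens S 1 A B) : IsQ A B := by
  have := h.isQ
  simpa using this

/-- The normaliser of a quaternion Sylow subgroup of order `8` has at most `48` elements. -/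
theorem card_normalizer_le (h : Gens S 1 A B) (h2 : (2 : F) ≠ 0) :
    Nat.card (Subgroup.normalizer (S : Set SL(2, F))) ≤ 48 := by
  classical
  have hq := h.isQ_one
  have hcardS : Nat.card S = 8 := by rw [h.card]; norm_num
  let S' : Finset SL(2, F) := Finset.univ.filter (· ∈ S)
  have hS' : S'.card = 8 := by
    rw [← hcardS, Nat.card_eq_fintype_card, Fintype.card_subtype]
  let L : Finset SL(2, F) := S'.filter (fun x => x * x = -1)
  have hneone : (1 : SL(2, F)) ≠ -1 := by
    intro e
    have := neg_ne_self h2 (1 : SL(2, F))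
    exact this e
  have hnegmem : (-1 : SL(2, F)) ∈ S := by
    rw [← h.sq]
    exact S.mul_mem h.memB h.memB
  have hL6 : L.card ≤ 6 := by
    have hsub : L ⊆ (S'.erase 1).erase (-1) := by
      intro x hx
      simp only [L, Finset.mem_filter] at hx
      simp only [Finset.mem_erase]
      refine ⟨?_, ?_, hx.1⟩
      · rintro rfl
        apply hneone
        rw [← hx.2]
        apply ext2 <;> simp
      · rintro rfl
        apply hneone
        simpa using hx.2
    have h3 := Finset.card_le_card hsub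
    rw [Finset.card_erase_of_mem, Finset.card_erase_of_mem, hS'] at h3
    · omega
    · simp [S', S.one_mem]
    · simp [S', hnegmem, hneone.symm]
  let W : Finset (SL(2, F) × SL(2, F)) := (L ×ˢ L).filter (fun p => p.1 * p.2 = -(p.2 * p.1))
  have hW : W.card ≤ 24 := by
    have h3 := Finset.card_le_mul_card_image (f := Prod.fst) W 4 ?_
    · have h4 : (W.image Prod.fst).card ≤ L.card := by
        apply Finset.card_le_card
        intro u hu
        simp only [Finset.mem_image, W, Finset.mem_filter, Finset.mem_product] at hu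
        obtain ⟨p, hp, rfl⟩ := hu
        exact hp.1.1
      omega
    · intro u hu
      have huL : u ∈ L := by
        simp only [Finset.mem_image, W, Finset.mem_filter, Finset.mem_product] at hu
        obtain ⟨p, hp, rfl⟩ := hu
        exact hp.1.1
      have hmemS : u ∈ S := by
        simp only [L, S', Finset.mem_filter, Finset.mem_univ, true_and] at huL
        exact huL.1
      have huu : u * u = -1 := by
        simp only [L, S', Finset.mem_filter, Finset.mem_univ, true_and] at huL
        exact huL.2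
      have hnegu : -u ∈ L := by
        simp only [L, S', Finset.mem_filter, Finset.mem_univ, true_and]
        refine ⟨?_, by simpa using huu⟩
        have : -u = (-1) * u := by simp
        rw [this]
        exact S.mul_mem hnegmem hmemS
      have hne : -u ≠ u := (neg_ne_self h2 u).symm
      have hinj : Set.InjOn Prod.snd (↑(W.filter fun x => x.1 = u) : Set (SL(2, F) × SL(2, F))) := by
        intro p hp p' hp' hh
        simp only [Finset.coe_filter, Set.mem_setOf_eq] at hp hp'
        exact Prod.ext (hp.2.trans hp'.2.symm) hh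
      have hsub : (W.filter fun x => x.1 = u).image Prod.snd ⊆ (L.erase u).erase (-u) := by
        intro v hv
        simp only [Finset.mem_image, Finset.mem_filter, W, Finset.mem_product] at hv
        obtain ⟨p, ⟨⟨⟨hp1, hp2⟩, hp3⟩, hp4⟩, rfl⟩ := hv
        subst hp4
        simp only [Finset.mem_erase]
        refine ⟨?_, ?_, hp2⟩
        · intro e
          rw [e] at hp3
          have h5 : p.1 * -p.1 = -(p.1 * p.1) := by simp
          have h6 : -p.1 * p.1 = -(p.1 * p.1) := by simp
          rw [h5, h6] at hp3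
          exact neg_ne_self h2 _ (by rw [neg_neg] at hp3; exact hp3.symm)
        · intro e
          rw [e] at hp3
          exact neg_ne_self h2 _ hp3
      have h4 := Finset.card_le_card hsub
      rw [Finset.card_image_of_injOn hinj, Finset.card_erase_of_mem, Finset.card_erase_of_mem huL] at h4
      · omega
      · simp [hnegu, hne]
  let N := Subgroup.normalizer (S : Set SL(2, F))
  let f : N → SL(2, F) × SL(2, F) := fun x => (x.1 * A * x.1⁻¹, x.1 * B * x.1⁻¹)
  have hfW : ∀ x, f x ∈ W := by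
    intro x
    have hAS := (Subgroup.mem_normalizer_iff.1 x.2 A).1 h.memA
    have hBS := (Subgroup.mem_normalizer_iff.1 x.2 B).1 h.memB
    have hc : ∀ Y : SL(2, F), Y * Y = -1 → (x.1 * Y * x.1⁻¹) * (x.1 * Y * x.1⁻¹) = -1 := by
      intro Y hY
      have h3 : (x.1 * Y * x.1⁻¹) * (x.1 * Y * x.1⁻¹) = x.1 * (Y * Y) * x.1⁻¹ := by group
      rw [h3, hY, conj_neg_one]
    simp only [W, L, S', Finset.mem_filter, Finset.mem_product, Finset.mem_univ, true_and, f]
    refine ⟨⟨⟨hAS, hc A hq.aa⟩, ⟨hBS, hc B hq.bb⟩⟩, ?_⟩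
    have h3 : (x.1 * A * x.1⁻¹) * (x.1 * B * x.1⁻¹) = x.1 * (A * B) * x.1⁻¹ := by group
    have h4 : (x.1 * B * x.1⁻¹) * (x.1 * A * x.1⁻¹) = x.1 * (B * A) * x.1⁻¹ := by group
    rw [h3, h4, hq.anti]
    simp
  letI : Fintype N := Fintype.ofFinite N
  have hN := Finset.card_le_mul_card_image (f := f) (Finset.univ : Finset N) 2 ?_
  · have h5 : ((Finset.univ : Finset N).image f).card ≤ W.card := by
      apply Finset.card_le_card
      intro y hy
      simp only [Finset.mem_image, Finset.mem_univ, true_and] at hy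
      obtain ⟨x, rfl⟩ := hy
      exact hfW x
    rw [Nat.card_eq_fintype_card, ← Finset.card_univ]
    omega
  · intro y hy
    simp only [Finset.mem_image, Finset.mem_univ, true_and] at hy
    obtain ⟨x₀, rfl⟩ := hy
    have hinj : Set.InjOn (fun x : N => (x : SL(2, F))) (↑(Finset.univ.filter fun x => f x = f x₀) : Set N) := by
      intro a _ b _ hab
      exact Subtype.ext hab
    have hsub : (Finset.univ.filter fun x => f x = f x₀).image (fun x : N => (x : SL(2, F))) ⊆
        {x₀.1, -x₀.1} := by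
      intro z hz
      simp only [Finset.mem_image, Finset.mem_filter, Finset.mem_univ, true_and] at hz
      obtain ⟨x, hx, rfl⟩ := hz
      have hx1 := congrArg Prod.fst hx
      have hx2 := congrArg Prod.snd hx
      simp only [f] at hx1 hx2
      let t : SL(2, F) := x₀.1⁻¹ * x.1
      have ht1 : t * A = A * t := by
        have h3 : x.1 * A = (x₀.1 * A * x₀.1⁻¹) * x.1 := by
          rw [← hx1]; group
        simp only [t]
        calc x₀.1⁻¹ * x.1 * A = x₀.1⁻¹ * (x.1 * A) := by group
          _ = x₀.1⁻¹ * ((x₀.1 * A * x₀.1⁻¹) * x.1) := by rw [h3]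
          _ = _ := by group
      have ht2 : t * B = B * t := by
        have h3 : x.1 * B = (x₀.1 * B * x₀.1⁻¹) * x.1 := by
          rw [← hx2]; group
        simp only [t]
        calc x₀.1⁻¹ * x.1 * B = x₀.1⁻¹ * (x.1 * B) := by group
          _ = x₀.1⁻¹ * ((x₀.1 * B * x₀.1⁻¹) * x.1) := by rw [h3]
          _ = _ := by group
      have hcj : ∀ Y : SL(2, F), t * Y = Y * t → cj t.toGL Y = Y := by
        intro Y hY
        apply Subtype.ext
        rw [cj_val]
        show t.1 * Y.1 * (t⁻¹).1 = Y.1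
        have h3 : t * Y * t⁻¹ = Y := by rw [hY]; group
        exact congrArg Subtype.val h3
      have hcen := mem_center_of_fix h2 hq (hcj A ht1) (hcj B ht2)
      have htc : t ∈ Subgroup.center SL(2, F) := by
        rw [Subgroup.mem_center_iff]
        intro g
        have h5 := Subgroup.mem_center_iff.1 hcen (toGL g)
        rw [← map_mul, ← map_mul] at h5
        exact toGL_injective h5
      have hxt : x.1 = x₀.1 * t := by simp [t]
      rcases mem_center_iff₂.1 htc with ht | ht
      · rw [hxt, ht, mul_one]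
        simp
      · rw [hxt, ht]
        simp
    have h4 := Finset.card_le_card hsub
    rw [Finset.card_image_of_injOn hinj] at h4
    exact h4.trans (Finset.card_le_two)

end Gens

end Cfsg.Agent.Lib.PSL2.SylowGens
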